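import Mathlib
import Cfsg.Prelude.Def_FusionSystem
import Cfsg.Agent.Lib.Helper87.FSBasic

set_option autoImplicit false

namespace Cfsg.Agent.Lib.Helper86.FSMore

open Cfsg
open Cfsg.Agent.Lib.Helper87.FSBasic

/-- `O^p(A)` is a normal subgroup. -/
theorem pResidual_normal (p : ℕ) (A : Type*) [Group A] : (Cfsg.pResidual p A).Normal := by
  constructor
  intro n hn g
  induction hn using Subgroup.closure_induction with
  | mem x hx =>
    apply Subgroup.subset_closure
    show Nat.Coprime (orderOf (g * x * g⁻¹)) p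
    have h1 : orderOf (g * x * g⁻¹) = orderOf x := by
      have := MulEquiv.orderOf_eq (MulAut.conj g) x
      simpa using this
    rw [h1]
    exact hx
  | one => simp
  | mul x y _ _ hx hy =>
    have : g * (x * y) * g⁻¹ = (g * x * g⁻¹) * (g * y * g⁻¹) := by group
    rw [this]
    exact Subgroup.mul_mem _ hx hy
  | inv x _ hx =>
    have : g * x⁻¹ * g⁻¹ = (g * x * g⁻¹)⁻¹ := by group
    rw [this]
    exact Subgroup.inv_mem _ hx

/-- The quotient by `O^p(A)` is a `p`-group. -/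
theorem isPGroup_quotient_pResidual (p : ℕ) [Fact p.Prime] (A : Type*) [Group A] [Finite A]
    [(Cfsg.pResidual p A).Normal] : IsPGroup p (A ⧸ Cfsg.pResidual p A) := by
  have hp : p.Prime := Fact.out
  intro x
  obtain ⟨g, rfl⟩ := QuotientGroup.mk_surjective x
  have hpos : orderOf g ≠ 0 := (orderOf_pos g).ne'
  obtain ⟨k, m, hm, hkm⟩ := Nat.exists_eq_pow_mul_and_not_dvd hpos p hp.ne_one
  refine ⟨k, ?_⟩
  rw [← QuotientGroup.mk_pow, QuotientGroup.eq_one_iff]
  apply Subgroup.subset_closure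
  show Nat.Coprime (orderOf (g ^ p ^ k)) p
  have h1 : orderOf (g ^ p ^ k) = m := by
    rw [orderOf_pow' g (pow_ne_zero k hp.ne_zero), hkm]
    have h2 : Nat.gcd (p ^ k * m) (p ^ k) = p ^ k := Nat.gcd_eq_right (Dvd.intro _ rfl)
    rw [h2, Nat.mul_div_cancel_left _ (pow_pos hp.pos k)]
  rw [h1]
  exact (Nat.Coprime.symm ((Nat.Prime.coprime_iff_not_dvd hp).mpr hm))

/-- A finite group is generated by `O^p` and any Sylow `p`-subgroup. -/
theorem pResidual_sup_sylow (p : ℕ) [Fact p.Prime] (A : Type*) [Group A] [Finite A]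
    (P : Sylow p A) : Cfsg.pResidual p A ⊔ (P : Subgroup A) = ⊤ := by
  have hp : p.Prime := Fact.out
  have hN : (Cfsg.pResidual p A).Normal := pResidual_normal p A
  have hq := isPGroup_quotient_pResidual p A
  obtain ⟨j, hj⟩ := IsPGroup.iff_card.mp hq
  have h1 : (Cfsg.pResidual p A ⊔ (P : Subgroup A)).index ∣ (Cfsg.pResidual p A).index :=
    Subgroup.index_dvd_of_le le_sup_left
  have h2 : (Cfsg.pResidual p A ⊔ (P : Subgroup A)).index ∣ (P : Subgroup A).index :=
    Subgroup.index_dvd_of_le le_sup_right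
  have h3 : (Cfsg.pResidual p A).index = p ^ j := hj
  rw [h3] at h1
  obtain ⟨i, -, hi⟩ := (Nat.dvd_prime_pow hp).mp h1
  rw [← Subgroup.index_eq_one]
  rcases Nat.eq_zero_or_pos i with h0 | h0
  · rw [hi, h0, pow_zero]
  · exfalso
    apply P.not_dvd_index
    refine dvd_trans ?_ h2
    rw [hi]
    exact dvd_pow_self p h0.ne'

/-- `O^p` is monotone on subgroups (viewed inside the ambient group). -/
theorem pResidual_map_le {G : Type*} [Group G] (p : ℕ) {A B : Subgroup G} (hAB : A ≤ B) :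
    (Cfsg.pResidual p A).map A.subtype ≤ (Cfsg.pResidual p B).map B.subtype := by
  unfold Cfsg.pResidual
  rw [MonoidHom.map_closure, Subgroup.closure_le]
  rintro _ ⟨g, hg, rfl⟩
  refine ⟨⟨g, hAB g.2⟩, ?_, rfl⟩
  apply Subgroup.subset_closure
  show Nat.Coprime (orderOf (⟨g, hAB g.2⟩ : B)) p
  have h1 : orderOf (⟨(g : G), hAB g.2⟩ : B) = orderOf g := by
    rw [← Subgroup.orderOf_coe, ← Subgroup.orderOf_coe]
  rw [h1]
  exact hg

variable {Ω : Type*} [Group Ω]

/-- The restriction of a fusion system over `U` to a subgroup `T ≤ U`. -/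
def restrictTo {U : Subgroup Ω} (F₀ : FusionSystem U) (T : Subgroup Ω) (hTU : T ≤ U) :
    FusionSystem T where
  Hom P := {φ | φ ∈ F₀.Hom P ∧ P ≤ T ∧ ∀ x : P, φ x ∈ T}
  le_of_mem h := ⟨h.2.1, h.2.2⟩
  injective_of_mem h := F₀.injective_of_mem h.1
  conj_mem := by
    intro P g hP hg
    exact ⟨F₀.conj_mem (hP.trans hTU) (hTU hg), hP,
      fun x => T.mul_mem (T.mul_mem hg (hP x.2)) (T.inv_mem hg)⟩
  comp_mem := by
    intro P Q φ ψ hφ hψ h
    exact ⟨F₀.comp_mem hφ.1 hψ.1 h, hφ.2.1, fun x => hψ.2.2 _⟩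
  inv_mem := by
    intro P φ hφ
    obtain ⟨ψ, hψ, hinv⟩ := F₀.inv_mem hφ.1
    refine ⟨ψ, ⟨hψ, ?_, ?_⟩, hinv⟩
    · rintro _ ⟨x, rfl⟩
      exact hφ.2.2 x
    · rintro ⟨_, x, rfl⟩
      rw [hinv x]
      exact hφ.2.1 x.2

theorem mem_restrictTo {U : Subgroup Ω} (F₀ : FusionSystem U) (T : Subgroup Ω) (hTU : T ≤ U)
    {P : Subgroup Ω} (φ : P →* Ω) :
    φ ∈ (restrictTo F₀ T hTU).Hom P ↔ φ ∈ F₀.Hom P ∧ P ≤ T ∧ ∀ x : P, φ x ∈ T := Iff.rfl

/-- automorphism groups are monotone in the system -/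
theorem autGroup_mono {T U : Subgroup Ω} (E : FusionSystem T) (F : FusionSystem U)
    (h : E.IsSubsystemOf F) (Y : Subgroup Ω) : E.autGroup Y ≤ F.autGroup Y :=
  Subgroup.closure_mono fun _ hα => h Y hα

theorem autInducedBy_mono {K L : Subgroup Ω} (h : K ≤ L) (Y : Subgroup Ω) :
    autInducedBy K Y ≤ autInducedBy L Y := by
  apply Subgroup.closure_mono
  rintro α ⟨g, hg, hα⟩
  exact ⟨g, h hg, hα⟩

/-- For a fully automized subgroup, `Aut_E(Y) = O^p(Aut_E(Y)) Aut_T(Y)`. -/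
theorem autGroup_le_of_fullyAutomized {T : Subgroup Ω} [Finite T] {p : ℕ} [Fact p.Prime]
    (E : FusionSystem T) {Y : Subgroup Ω} (hfa : E.IsFullyAutomized p Y) :
    E.autGroup Y ≤ (Cfsg.pResidual p (E.autGroup Y)).map (E.autGroup Y).subtype ⊔
      autInducedBy T Y := by
  obtain ⟨hY, R, hR⟩ := hfa
  have hfinY : Finite Y := Finite.of_injective (Subgroup.inclusion hY) (Subgroup.inclusion_injective _)
  have hfinM : Finite (MulAut Y) := Finite.of_injective (fun α : MulAut Y => (α : Y → Y))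
    (fun α β h => MulEquiv.ext (congrFun h))
  have htop := pResidual_sup_sylow p (E.autGroup Y) R
  intro a ha
  have h1 : (⟨a, ha⟩ : E.autGroup Y) ∈ Cfsg.pResidual p (E.autGroup Y) ⊔ (R : Subgroup (E.autGroup Y)) := by
    rw [htop]; trivial
  have h2 : a ∈ (Cfsg.pResidual p (E.autGroup Y) ⊔ (R : Subgroup (E.autGroup Y))).map (E.autGroup Y).subtype :=
    ⟨⟨a, ha⟩, h1, rfl⟩
  rw [Subgroup.map_sup] at h2
  have h3 : (R : Subgroup (E.autGroup Y)).map (E.autGroup Y).subtype ≤ autInducedBy T Y := by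
    rw [hR]
    rintro _ ⟨x, hx, rfl⟩
    exact Subgroup.mem_subgroupOf.mp hx
  have hle : (Cfsg.pResidual p (E.autGroup Y)).map (E.autGroup Y).subtype ⊔
      (R : Subgroup (E.autGroup Y)).map (E.autGroup Y).subtype ≤
      (Cfsg.pResidual p (E.autGroup Y)).map (E.autGroup Y).subtype ⊔ autInducedBy T Y :=
    sup_le_sup_left h3 _
  exact hle h2

end Cfsg.Agent.Lib.Helper86.FSMore
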