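import Mathlib
import Cfsg.Agent.S5160
import Cfsg.Agent.Lib.Helper87.FSAlperin
import Cfsg.Agent.Lib.Helper86.FSMore

set_option autoImplicit false

/-!
# A simplicity criterion for the fusion system of a finite group

`simple_of_aut_pGroup`: if `S` is a nontrivial Sylow `p`-subgroup of the finite group `G`, no
subgroup of `S` other than `1` and `S` is strongly closed in `F_S(G)`, and every element of `N_G(S)`
has a `p`-power centralizing `S` (that is, `Aut_G(S)` is a `p`-group), then `F_S(G)` is simple.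
-/

namespace Cfsg.Agent.Lib.Helper86.FSSimple

open Cfsg Cfsg.FusionSystem
open Cfsg.Agent.Lib.Helper87.FSBasic Cfsg.Agent.Lib.Helper87.FSSat
open Cfsg.Agent.Lib.Helper87.FSAlperin Cfsg.Agent.Lib.Helper86.FSMore

variable {G : Type*} [Group G]

/-- A strongly closed subgroup of `F_S(G)` contains every `G`-conjugate lying in `S` of each of
its elements. -/
theorem stronglyClosed_conj {S T : Subgroup G} (hT : (groupFusionSystem S).StronglyClosed T)
    {x : G} (hx : x ∈ T) (g : G) (hg : g * x * g⁻¹ ∈ S) : g * x * g⁻¹ ∈ T := by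
  have hR : Subgroup.zpowers x ≤ T := Subgroup.zpowers_le.mpr hx
  have hφ : conjHom (Subgroup.zpowers x) g ∈ (groupFusionSystem S).Hom (Subgroup.zpowers x) := by
    refine ⟨hR.trans hT.1, ?_, g, fun y => rfl⟩
    rintro ⟨y, hy⟩
    obtain ⟨k, rfl⟩ := Subgroup.mem_zpowers_iff.mp hy
    have e : conjHom (Subgroup.zpowers x) g ⟨x ^ k, hy⟩ = (g * x * g⁻¹) ^ k := by
      show g * x ^ k * g⁻¹ = (g * x * g⁻¹) ^ k
      simp
    rw [e]
    exact S.zpow_mem hg k
  exact hT.2 _ hR _ hφ ⟨x, Subgroup.mem_zpowers x⟩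

/-- Conversely: a subgroup of `S` containing every `G`-conjugate in `S` of its elements is
strongly closed in `F_S(G)`. -/
theorem stronglyClosed_of_conj {S T : Subgroup G} (hTS : T ≤ S)
    (h : ∀ x ∈ T, ∀ g : G, g * x * g⁻¹ ∈ S → g * x * g⁻¹ ∈ T) :
    (groupFusionSystem S).StronglyClosed T := by
  refine ⟨hTS, ?_⟩
  rintro R hR φ ⟨-, hφS, g, hg⟩ x
  have := hφS x
  rw [hg x] at this ⊢
  exact h _ (hR x.2) g this

theorem simple_of_aut_pGroup [Finite G] (p : ℕ) [Fact p.Prime] (S : Sylow p G)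
    (hS1 : (S : Subgroup G) ≠ ⊥)
    (ha : ∀ T : Subgroup G, (groupFusionSystem (S : Subgroup G)).StronglyClosed T →
      T = ⊥ ∨ T = (S : Subgroup G))
    (hN : ∀ n ∈ Subgroup.normalizer ((S : Subgroup G) : Set G), ∃ k : ℕ,
      ∀ x ∈ (S : Subgroup G), n ^ (p ^ k) * x * (n ^ (p ^ k))⁻¹ = x) :
    (groupFusionSystem (S : Subgroup G)).IsSimple p := by
  set F := groupFusionSystem (S : Subgroup G) with hF
  have hsat : F.IsSaturated p := Cfsg.Agent.S5076.result p S
  have hautG : F.autGroup (S : Subgroup G) = autInducedBy ⊤ (S : Subgroup G) :=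
    Cfsg.Agent.S5076.autGroup_eq (S : Subgroup G) le_rfl
  -- `Aut_F(S)` is a `p`-group
  have hpg : IsPGroup p (F.autGroup (S : Subgroup G)) := by
    rintro ⟨α, hα⟩
    rw [hautG, mem_autInducedBy_iff] at hα
    obtain ⟨g, -, hg⟩ := hα
    obtain ⟨k, hk⟩ := hN g (mem_normalizer_of_induces hg)
    refine ⟨k, ?_⟩
    apply Subtype.ext
    rw [Subgroup.coe_pow]
    show α ^ (p ^ k) = 1
    have hpow : ∀ (m : ℕ) (x : (S : Subgroup G)), (((α ^ m) x : (S : Subgroup G)) : G) =
        g ^ m * x * (g ^ m)⁻¹ := by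
      intro m
      induction m with
      | zero => intro x; simp
      | succ m ih =>
        intro x
        rw [pow_succ, MulAut.mul_apply, ih, hg, pow_succ]
        group
    ext x
    rw [hpow, hk _ x.2]
    rfl
  -- every automorphism of `S` induced by `G` is inner
  have hinner : ∀ α ∈ F.autGroup (S : Subgroup G), ∃ g ∈ (S : Subgroup G),
      ∀ x : (S : Subgroup G), ((α x : (S : Subgroup G)) : G) = g * x * g⁻¹ := by
    intro α hα
    have hmem : (S : Subgroup G).subtype.comp α.toMonoidHom ∈ F.Hom (S : Subgroup G) :=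
      (mem_autGroup_iff F le_rfl α).mp hα
    exact inner_of_pGroup F (far_top F hsat).1 hpg hmem (range_eq_top F hmem)
  have hSle : (S : Subgroup G) ≤ Subgroup.closure {g : G |
      g ∈ Subgroup.normalizer (((S : Subgroup G) : Subgroup G) : Set G) ∧
        ∃ k : ℕ, orderOf g = p ^ k} := by
    intro g hg
    apply Subgroup.subset_closure
    refine ⟨Subgroup.le_normalizer hg, ?_⟩
    obtain ⟨k, hk⟩ := (IsPGroup.iff_orderOf.mp S.isPGroup') ⟨g, hg⟩
    exact ⟨k, by rw [← hk, Subgroup.orderOf_mk]⟩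
  have hFN : F.IsFullyNormalized (S : Subgroup G) := by
    refine ⟨le_rfl, fun Q _ => ?_⟩
    apply Subgroup.card_le_of_le
    intro x hx
    exact ⟨hx.1, Subgroup.le_normalizer hx.1⟩
  have hCen : F.IsCentric (S : Subgroup G) := by
    refine ⟨le_rfl, ?_⟩
    rintro Q ⟨φ, hφ, rfl⟩
    rw [range_eq_top F hφ]
    exact inf_le_left
  have hRad : F.IsRadical p (S : Subgroup G) := by
    refine ⟨le_rfl, ?_⟩
    have htop : pCore p (F.autGroup (S : Subgroup G)) = ⊤ := by
      apply top_unique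
      exact le_sSup ⟨inferInstance, IsPGroup.to_subgroup hpg ⊤⟩
    rw [htop, ← MonoidHom.range_eq_map, Subgroup.range_subtype]
    ext α
    constructor
    · intro hα
      obtain ⟨g, hg, h⟩ := hinner α hα
      refine ⟨⟨g, hg⟩, ?_⟩
      ext x
      rw [h]
      rfl
    · rintro ⟨g, rfl⟩
      rw [hautG, mem_autInducedBy_iff]
      exact ⟨g, Subgroup.mem_top _, fun x => rfl⟩
  apply Cfsg.Agent.S5160.result p S hS1 ha
  apply le_antisymm
  · refine le_trans ?_ (le_iSup₂ (f := fun (R : Subgroup G)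
      (_ : F.IsFullyNormalized R ∧ F.IsRadical p R ∧ F.IsCentric R) =>
      autInducedBy (Subgroup.closure {g : G | g ∈ Subgroup.normalizer (R : Set G) ∧
        ∃ k : ℕ, orderOf g = p ^ k}) (S : Subgroup G)) (S : Subgroup G) ⟨hFN, hRad, hCen⟩)
    intro α hα
    rw [← hautG] at hα
    obtain ⟨g, hg, h⟩ := hinner α hα
    exact (mem_autInducedBy_iff α).mpr ⟨g, hSle hg, h⟩
  · exact iSup₂_le fun R _ => autInducedBy_mono le_top _

end Cfsg.Agent.Lib.Helper86.FSSimple
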