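import Cfsg.Agent.Lib.Helper7.ChainGen
import Cfsg.Agent.Lib.Helper7.M24Mem
import Cfsg.Agent.Lib.Helper53.PGroupBasics

set_option autoImplicit false

/-!
# Explicit subgroups of `Perm GolayPt` given by lists of tables

Tools to work with a subgroup `H` of `Perm GolayPt` enumerated by a list `L` of tables:
permutations from tables, membership in `M24` from a table, cardinality, conjugation-invariant
stabiliser counts (giving sets preserved by the normaliser of `H`), a sifting step for
`K ⊓ N(H) ≤ H`, and a certificate format for "every nontrivial subgroup of `H` closed under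
`K`-conjugation inside `H` is `H`".
-/

namespace Cfsg.Agent.Lib.Helper86.TabGrp

open Cfsg Cfsg.Agent.Lib.Helper7.GolayBase Cfsg.Agent.Lib.Helper7.GolayCode
  Cfsg.Agent.Lib.Helper7.M24Mem Cfsg.Agent.Lib.Helper7.GolayRigid
  Cfsg.Agent.Lib.Helper7.GolayPerm Cfsg.Agent.Lib.Helper7.ChainGen

/-! ### Permutations from tables -/

/-- `t'` is the inverse table of `t`. -/
def invOK (t t' : List Nat) : Bool :=
  t.length == 24 && t'.length == 24 &&
    (List.range 24).all (fun i => decide (t.getD i 0 < 24) && t'.getD (t.getD i 0) 0 == i &&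
      decide (t'.getD i 0 < 24) && t.getD (t'.getD i 0) 0 == i)

theorem invOK_spec {t t' : List Nat} (h : invOK t t' = true) :
    t.length = 24 ∧ t'.length = 24 ∧ ∀ i, i < 24 → t.getD i 0 < 24 ∧
      t'.getD (t.getD i 0) 0 = i ∧ t'.getD i 0 < 24 ∧ t.getD (t'.getD i 0) 0 = i := by
  simp only [invOK, Bool.and_eq_true, beq_iff_eq, List.all_eq_true, List.mem_range,
    decide_eq_true_eq] at h
  refine ⟨h.1.1, h.1.2, fun i hi => ?_⟩
  have := h.2 i hi
  tauto

/-- The permutation with table `t` and inverse table `t'`. -/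
def ofT (t t' : List Nat) (h : invOK t t' = true) : Equiv.Perm GolayPt where
  toFun p := pt (t.getD (idx p) 0)
  invFun p := pt (t'.getD (idx p) 0)
  left_inv p := by
    have := (invOK_spec h).2.2 (idx p) (idx_lt p)
    show pt (t'.getD (idx (pt (t.getD (idx p) 0))) 0) = p
    rw [idx_pt this.1, this.2.1, pt_idx]
  right_inv p := by
    have := (invOK_spec h).2.2 (idx p) (idx_lt p)
    show pt (t.getD (idx (pt (t'.getD (idx p) 0))) 0) = p
    rw [idx_pt this.2.2.1, this.2.2.2, pt_idx]

theorem rep_ofT (t t' : List Nat) (h : invOK t t' = true) : Rep (ofT t t' h) t := by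
  refine ⟨(invOK_spec h).1, fun p => ?_⟩
  show t.getD (idx p) 0 = idx (pt (t.getD (idx p) 0))
  rw [idx_pt ((invOK_spec h).2.2 _ (idx_lt p)).1]

theorem rep_ofT_inv (t t' : List Nat) (h : invOK t t' = true) : Rep (ofT t t' h)⁻¹ t' := by
  refine ⟨(invOK_spec h).2.1, fun p => ?_⟩
  show t'.getD (idx p) 0 = idx (pt (t'.getD (idx p) 0))
  rw [idx_pt ((invOK_spec h).2.2 _ (idx_lt p)).2.2.1]

/-! ### Membership in `M24` from a table -/

/-- Image of the mask `m` under the permutation whose inverse table is `t'`. -/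
def permMask (t' : List Nat) (m : Nat) : Nat :=
  Nat.ofBits (fun j : Fin 24 => m.testBit (t'.getD j 0))

/-- Table test for membership in `M24` (on the inverse table). -/
def inM24T (t' : List Nat) : Bool := qrMasks.all (fun m => inCode (permMask t' m))

theorem mem_M24_of_table {g : Equiv.Perm GolayPt} {t t' : List Nat} (hr : Rep g t)
    (hinv : ∀ i, i < 24 → t'.getD (t.getD i 0) 0 = i) (h : inM24T t' = true) : g ∈ M24 := by
  apply mem_M24_of_masks g (fun τ => permMask t' (qrM τ))
  · intro τ p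
    rw [← wd_qrM]
    unfold wd permMask
    rw [Nat.testBit_ofBits]
    simp only [idx_lt, dite_true]
    rw [← hr.2 p, hinv _ (idx_lt p)]
  · intro τ
    have hlen : qrMasks.length = 23 := rfl
    have hτ : τ.val < qrMasks.length := by rw [hlen]; exact ZMod.val_lt τ
    have hmem : qrM τ ∈ qrMasks := by
      unfold qrM
      rw [List.getD_eq_getElem _ _ hτ]
      exact List.getElem_mem hτ
    exact List.all_eq_true.mp h _ hmem

theorem exists_M24_of_table (t t' : List Nat) (h1 : invOK t t' = true)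
    (h2 : inM24T t' = true) : ∃ g ∈ M24, Rep g t ∧ Rep g⁻¹ t' :=
  ⟨ofT t t' h1, mem_M24_of_table (rep_ofT t t' h1)
    (fun i hi => ((invOK_spec h1).2.2 i hi).2.1) h2, rep_ofT t t' h1, rep_ofT_inv t t' h1⟩

/-! ### The table of a permutation -/

/-- The table of a permutation. -/
def tabOf (g : Equiv.Perm GolayPt) : List Nat := (List.range 24).map (fun i => idx (g (pt i)))

theorem rep_tabOf (g : Equiv.Perm GolayPt) : Rep g (tabOf g) := by
  refine ⟨by simp [tabOf], fun p => ?_⟩
  have h := idx_lt p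
  simp [tabOf, List.getD_eq_getElem?_getD, h, pt_idx]

theorem Rep.eq_tabOf {g : Equiv.Perm GolayPt} {t : List Nat} (h : Rep g t) : t = tabOf g := by
  apply List.ext_getElem
  · rw [h.1]; simp [tabOf]
  · intro i h1 h2
    have hi : i < 24 := by rw [← h.1]; exact h1
    have e1 := h.2 (pt i)
    rw [idx_pt hi, List.getD_eq_getElem _ _ h1] at e1
    rw [e1]
    simp [tabOf]

theorem rep_unique {g : Equiv.Perm GolayPt} {t t' : List Nat} (h : Rep g t) (h' : Rep g t') :
    t = t' := by rw [Rep.eq_tabOf h, Rep.eq_tabOf h']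

theorem tabOf_injective : Function.Injective tabOf := fun g g' h =>
  Rep.ext (rep_tabOf g) (h ▸ rep_tabOf g')

/-! ### Enumerated subgroups -/

/-- `L` lists the tables of the elements of `H`, without repetition. -/
structure Enum (H : Subgroup (Equiv.Perm GolayPt)) (L : List (List Nat)) : Prop where
  rep : ∀ t ∈ L, ∃ g ∈ H, Rep g t
  cov : ∀ g ∈ H, ∃ t ∈ L, Rep g t
  nodup : L.Nodup

variable {H : Subgroup (Equiv.Perm GolayPt)} {L : List (List Nat)}

theorem Enum.mem_iff (hE : Enum H L) (g : Equiv.Perm GolayPt) : g ∈ H ↔ tabOf g ∈ L := by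
  constructor
  · intro hg
    obtain ⟨t, ht, hr⟩ := hE.cov g hg
    rwa [← Rep.eq_tabOf hr]
  · intro ht
    obtain ⟨g', hg', hr⟩ := hE.rep _ ht
    rwa [Rep.ext (rep_tabOf g) hr]

theorem card_mem_list {α : Type*} [DecidableEq α] (l : List α) (hl : l.Nodup) :
    Nat.card {t // t ∈ l} = l.length := by
  rw [Nat.card_congr (Equiv.subtypeEquivRight (fun t => (List.mem_toFinset (l := l)).symm)),
    Nat.card_eq_fintype_card, Fintype.card_coe, List.toFinset_card_of_nodup hl]

theorem Enum.card_filter (hE : Enum H L) (P : List Nat → Bool) :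
    Nat.card {g : Equiv.Perm GolayPt // g ∈ H ∧ P (tabOf g) = true} = L.countP P := by
  rw [List.countP_eq_length_filter, ← card_mem_list _ (hE.nodup.filter _)]
  apply Nat.card_congr
  refine Equiv.ofBijective (fun g => ⟨tabOf g.1, ?_⟩) ⟨?_, ?_⟩
  · rw [List.mem_filter]
    exact ⟨(hE.mem_iff _).mp g.2.1, g.2.2⟩
  · intro g g' h
    apply Subtype.ext
    exact tabOf_injective (congrArg Subtype.val h)
  · rintro ⟨t, ht⟩
    rw [List.mem_filter] at ht
    obtain ⟨g, hg, hr⟩ := hE.rep t ht.1
    have e := Rep.eq_tabOf hr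
    refine ⟨⟨g, hg, by rw [← e]; exact ht.2⟩, ?_⟩
    apply Subtype.ext
    exact e.symm

theorem Enum.card (hE : Enum H L) : Nat.card H = L.length := by
  have h := hE.card_filter (fun _ => true)
  rw [List.countP_true] at h
  rw [← h]
  apply Nat.card_congr
  exact Equiv.subtypeEquivRight (fun g => by simp)

/-! ### Stabiliser counts, invariant under the normaliser -/

/-- The table fixes the listed indices. -/
def fixT (U : List Nat) (t : List Nat) : Bool := U.all (fun u => t.getD u 0 == u)

theorem fixT_iff {g : Equiv.Perm GolayPt} {t : List Nat} (hr : Rep g t) {U : List Nat}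
    (hU : ∀ u ∈ U, u < 24) : fixT U t = true ↔ ∀ u ∈ U, g (pt u) = pt u := by
  simp only [fixT, List.all_eq_true, beq_iff_eq]
  constructor
  · intro h u hu
    exact hr.apply_eq (hU u hu) (h u hu)
  · intro h u hu
    have e := hr.2 (pt u)
    rw [idx_pt (hU u hu), h u hu, idx_pt (hU u hu)] at e
    exact e

theorem card_fix_conj {n : Equiv.Perm GolayPt}
    (hn : n ∈ Subgroup.normalizer (H : Set (Equiv.Perm GolayPt))) (U : List Nat) :
    Nat.card {g : Equiv.Perm GolayPt // g ∈ H ∧ ∀ u ∈ U, g (pt u) = pt u} =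
      Nat.card {g : Equiv.Perm GolayPt // g ∈ H ∧ ∀ u ∈ U, g (n (pt u)) = n (pt u)} := by
  have hn' : n⁻¹ ∈ Subgroup.normalizer (H : Set (Equiv.Perm GolayPt)) := Subgroup.inv_mem _ hn
  apply Nat.card_congr
  refine ⟨fun g => ⟨n * g.1 * n⁻¹, (Subgroup.mem_normalizer_iff.mp hn g.1).mp g.2.1, ?_⟩,
    fun g => ⟨n⁻¹ * g.1 * n, ?_, ?_⟩, ?_, ?_⟩
  · intro u hu
    show n (g.1 (n⁻¹ (n (pt u)))) = n (pt u)
    have : n⁻¹ (n (pt u)) = pt u := by simp
    rw [this, g.2.2 u hu]
  · have := (Subgroup.mem_normalizer_iff.mp hn' g.1).mp g.2.1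
    rwa [inv_inv] at this
  · intro u hu
    show n⁻¹ (g.1 (n (pt u))) = pt u
    rw [g.2.2 u hu]
    simp
  · intro g
    apply Subtype.ext
    show n⁻¹ * (n * g.1 * n⁻¹) * n = g.1
    group
  · intro g
    apply Subtype.ext
    show n * (n⁻¹ * g.1 * n) * n⁻¹ = g.1
    group

theorem cnt_eq (hE : Enum H L) {n : Equiv.Perm GolayPt}
    (hn : n ∈ Subgroup.normalizer (H : Set (Equiv.Perm GolayPt))) {F' : List Nat}
    (hF' : ∀ f ∈ F', f < 24) (hfix : ∀ f ∈ F', n (pt f) = pt f) (p : GolayPt) :
    L.countP (fixT (F' ++ [idx (n p)])) = L.countP (fixT (F' ++ [idx p])) := by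
  have hU : ∀ u ∈ F' ++ [idx p], u < 24 := by
    intro u hu
    rcases List.mem_append.mp hu with h | h
    · exact hF' u h
    · rw [List.mem_singleton] at h; rw [h]; exact idx_lt p
  have hU' : ∀ u ∈ F' ++ [idx (n p)], u < 24 := by
    intro u hu
    rcases List.mem_append.mp hu with h | h
    · exact hF' u h
    · rw [List.mem_singleton] at h; rw [h]; exact idx_lt _
  rw [← hE.card_filter, ← hE.card_filter]
  have e1 : Nat.card {g : Equiv.Perm GolayPt // g ∈ H ∧ fixT (F' ++ [idx p]) (tabOf g) = true} =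
      Nat.card {g : Equiv.Perm GolayPt // g ∈ H ∧ ∀ u ∈ F' ++ [idx p], g (pt u) = pt u} :=
    Nat.card_congr (Equiv.subtypeEquivRight (fun g => by rw [fixT_iff (rep_tabOf g) hU]))
  have e2 : Nat.card {g : Equiv.Perm GolayPt // g ∈ H ∧
      fixT (F' ++ [idx (n p)]) (tabOf g) = true} =
      Nat.card {g : Equiv.Perm GolayPt // g ∈ H ∧
        ∀ u ∈ F' ++ [idx p], g (n (pt u)) = n (pt u)} := by
    apply Nat.card_congr
    apply Equiv.subtypeEquivRight
    intro g
    apply and_congr_right
    intro _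
    rw [fixT_iff (rep_tabOf g) hU']
    simp only [List.forall_mem_append, List.forall_mem_singleton, pt_idx]
    constructor
    · rintro ⟨h1, h2⟩
      exact ⟨fun f hf => by rw [hfix f hf]; exact h1 f hf, h2⟩
    · rintro ⟨h1, h2⟩
      exact ⟨fun f hf => by have := h1 f hf; rwa [hfix f hf] at this, h2⟩
  rw [e1, e2, card_fix_conj hn]

/-- For each index `v`, the number of listed tables fixing `F'` and `v`. -/
def cntVec (L : List (List Nat)) (F' : List Nat) : List Nat :=
  (List.range 24).map (fun v => L.countP (fixT (F' ++ [v])))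

theorem cntVec_getD (L : List (List Nat)) (F' : List Nat) {v : Nat} (hv : v < 24) :
    (cntVec L F').getD v 0 = L.countP (fixT (F' ++ [v])) := by
  simp [cntVec, List.getD_eq_getElem?_getD, hv]

/-- The indices whose entry in the count vector is `m`. -/
def vecMask (vec : List Nat) (m : Nat) : Nat :=
  Nat.ofBits (fun v : Fin 24 => vec.getD (v : Nat) 0 == m)

theorem pres_vecMask (hE : Enum H L) {n : Equiv.Perm GolayPt}
    (hn : n ∈ Subgroup.normalizer (H : Set (Equiv.Perm GolayPt))) {F' : List Nat}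
    (hF' : ∀ f ∈ F', f < 24) (hfix : ∀ f ∈ F', n (pt f) = pt f) {vec : List Nat}
    (hvec : cntVec L F' = vec) (m : Nat) : Pres n (vecMask vec m) := by
  intro p
  unfold vecMask
  rw [Nat.testBit_ofBits, Nat.testBit_ofBits]
  simp only [idx_lt, dite_true]
  rw [← hvec, cntVec_getD L F' (idx_lt _), cntVec_getD L F' (idx_lt _), cnt_eq hE hn hF' hfix p]

/-! ### Sifting for the normaliser -/

theorem hub_of_atom {g : Equiv.Perm GolayPt} {P : List Nat} (hP : ∀ c ∈ P, Pres g c)
    {F : List Nat} (hfix : g ∈ FixL F) {b : Nat} (hb : b < 24) (hbF : b ∉ F) {T : List Nat}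
    (hT : ∀ q, q < 24 → (atom P b).testBit q = true → q ∉ F → q ∈ T) :
    ∃ q ∈ T, g (pt b) = pt q := by
  refine ⟨idx (g (pt b)), hT _ (idx_lt _) ?_ ?_, (pt_idx _).symm⟩
  · have := atom_spec hP (pt b)
    rwa [idx_pt hb] at this
  · intro hq
    have h1 := hfix _ hq
    rw [pt_idx] at h1
    have h2 : g (pt b) = pt b := g.injective h1
    have h3 := congrArg idx h2
    rw [idx_pt hb] at h3
    exact hbF (h3 ▸ hq)

/-- The masks of a list of count specifications `(F', vec, ms)`. -/
def specMasks (specs : List (List Nat × List Nat × List Nat)) : List Nat :=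
  specs.flatMap (fun s => s.2.2.map (fun m => vecMask s.2.1 m))

/-- The count specifications are correct and only use fixed indices. -/
def specsOK (L : List (List Nat)) (F : List Nat)
    (specs : List (List Nat × List Nat × List Nat)) : Bool :=
  specs.all (fun s => s.1.all (fun f => F.contains f) && (cntVec L s.1 == s.2.1))

theorem pres_specMasks (hE : Enum H L) {n : Equiv.Perm GolayPt}
    (hn : n ∈ Subgroup.normalizer (H : Set (Equiv.Perm GolayPt))) {F : List Nat}
    (hF : ∀ f ∈ F, f < 24) (hfix : n ∈ FixL F)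
    (specs : List (List Nat × List Nat × List Nat)) (h : specsOK L F specs = true) :
    ∀ c ∈ specMasks specs, Pres n c := by
  intro c hc
  simp only [specMasks, List.mem_flatMap, List.mem_map] at hc
  obtain ⟨s, hs, m, -, rfl⟩ := hc
  have h1 := List.all_eq_true.mp h s hs
  simp only [Bool.and_eq_true, List.all_eq_true, List.contains_iff_mem, beq_iff_eq] at h1
  exact pres_vecMask hE hn (fun f hf => hF f (h1.1 f hf)) (fun f hf => hfix f (h1.1 f hf)) h1.2 m

/-- All side conditions of one sifting level. -/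
def levelOK (L : List (List Nat)) (extra : List Nat)
    (specs : List (List Nat × List Nat × List Nat)) (F : List Nat) (b : Nat) (T : List Nat) :
    Bool :=
  F.all (fun f => decide (f < 24)) && decide (b < 24) && !F.contains b && specsOK L F specs &&
    (atom (extra ++ specMasks specs) b &&&
      (full ^^^ Nat.ofBits (fun q : Fin 24 => F.contains (q : Nat) || T.contains (q : Nat)))
        == 0) &&
    T.all (fun q => L.any (hit F b q))

theorem sift_level (hE : Enum H L) {K : Subgroup (Equiv.Perm GolayPt)} (hHK : H ≤ K)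
    (extra : List Nat) (hextra : ∀ g ∈ K, ∀ c ∈ extra, Pres g c)
    (specs : List (List Nat × List Nat × List Nat)) (F : List Nat) (b : Nat) (T : List Nat)
    (h : levelOK L extra specs F b T = true)
    (hnext : (K ⊓ Subgroup.normalizer (H : Set (Equiv.Perm GolayPt))) ⊓ FixL (b :: F) ≤ H) :
    (K ⊓ Subgroup.normalizer (H : Set (Equiv.Perm GolayPt))) ⊓ FixL F ≤ H := by
  simp only [levelOK, Bool.and_eq_true, List.all_eq_true, decide_eq_true_eq,
    Bool.not_eq_true', beq_iff_eq] at h
  obtain ⟨⟨⟨⟨⟨hF, hb⟩, hbF⟩, hspecs⟩, hT⟩, hW⟩ := h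
  have hbF' : b ∉ F := by
    intro hmem
    have := List.contains_iff_mem.mpr hmem
    rw [hbF] at this
    exact Bool.false_ne_true this
  refine le_of_sift (T := T) ?_ ?_ (le_inf hHK Subgroup.le_normalizer) hnext
  · intro g hg
    have hP : ∀ c ∈ extra ++ specMasks specs, Pres g c := by
      intro c hc
      rcases List.mem_append.mp hc with h1 | h1
      · exact hextra g hg.1.1 c h1
      · exact pres_specMasks hE hg.1.2 hF hg.2 specs hspecs c h1
    apply hub_of_atom hP hg.2 hb hbF'
    intro q hq hbit hqF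
    by_contra hqT
    have h1 := congrArg (fun x => Nat.testBit x q) hT
    simp only [Nat.testBit_and, Nat.testBit_xor, Nat.zero_testBit, hbit, full_testBit hq,
      Nat.testBit_ofBits, hq, dite_true, Bool.true_and, Bool.true_xor] at h1
    have h2 : F.contains q = false := by
      cases hc : F.contains q
      · rfl
      · exact absurd (List.contains_iff_mem.mp hc) hqF
    have h3 : T.contains q = false := by
      cases hc : T.contains q
      · rfl
      · exact absurd (List.contains_iff_mem.mp hc) hqT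
    rw [h2, h3] at h1
    simp at h1
  · intro q hq
    obtain ⟨g, hgH, hgF, hgb⟩ := exists_of_any H L hE.rep hF hb (hW q hq)
    exact ⟨g, ⟨hgH, hgF⟩, hgb⟩

/-- Side conditions of the final rigidity step. -/
def rigidOK (L : List (List Nat)) (extra : List Nat)
    (specs : List (List Nat × List Nat × List Nat)) (F : List Nat) (n Fm : Nat) : Bool :=
  F.all (fun f => decide (f < 24)) && specsOK L F specs &&
    (List.range 24).all (fun i => !Fm.testBit i || F.contains i) &&
    fixIter (extra ++ specMasks specs) n Fm == full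

theorem rigid_end (hE : Enum H L) {K : Subgroup (Equiv.Perm GolayPt)} (hK : K ≤ M24)
    (extra : List Nat) (hextra : ∀ g ∈ K, ∀ c ∈ extra, Pres g c)
    (specs : List (List Nat × List Nat × List Nat)) (F : List Nat) (n Fm : Nat)
    (h : rigidOK L extra specs F n Fm = true) :
    (K ⊓ Subgroup.normalizer (H : Set (Equiv.Perm GolayPt))) ⊓ FixL F ≤ H := by
  simp only [rigidOK, Bool.and_eq_true, List.all_eq_true, decide_eq_true_eq, Bool.or_eq_true,
    Bool.not_eq_true', List.mem_range, List.contains_iff_mem, beq_iff_eq] at h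
  obtain ⟨⟨⟨hF, hspecs⟩, hFm⟩, hfix⟩ := h
  intro g hg
  have hP : ∀ c ∈ extra ++ specMasks specs, Pres g c := by
    intro c hc
    rcases List.mem_append.mp hc with h1 | h1
    · exact hextra g hg.1.1 c h1
    · exact pres_specMasks hE hg.1.2 hF hg.2 specs hspecs c h1
  have hfixed : ∀ p : GolayPt, Fm.testBit (idx p) = true → g p = p := by
    apply fixed_of_list hg.2
    intro i hi hbit
    rcases hFm i hi with h1 | h1
    · rw [hbit] at h1
      exact absurd h1 (by simp)
    · exact h1
  have : g = 1 := rigid (hK hg.1.1) hP n hfixed hfix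
  rw [this]
  exact H.one_mem

/-! ### Generation -/

/-- The permutations represented by the listed tables. -/
def genSet (gT : List (List Nat)) : Set (Equiv.Perm GolayPt) := {g | ∃ t ∈ gT, Rep g t}

/-- The subgroup generated by the permutations with the listed tables. -/
def grp (gT : List (List Nat)) : Subgroup (Equiv.Perm GolayPt) := Subgroup.closure (genSet gT)

theorem gens_rep (gT : List (List Nat)) (hinv : gT.all (fun t => invOK t t) = true) :
    ∀ t ∈ gT, ∃ g ∈ grp gT, Rep g t := by
  intro t ht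
  have h := List.all_eq_true.mp hinv t ht
  exact ⟨ofT t t h, Subgroup.subset_closure ⟨t, ht, rep_ofT t t h⟩, rep_ofT t t h⟩

theorem grp_le (gT : List (List Nat)) (K : Subgroup (Equiv.Perm GolayPt))
    (h : ∀ t ∈ gT, ∃ g ∈ K, Rep g t) : grp gT ≤ K := by
  unfold grp
  rw [Subgroup.closure_le]
  rintro g ⟨t, ht, hr⟩
  obtain ⟨g', hg', hr'⟩ := h t ht
  rw [Rep.ext hr hr']
  exact hg'

theorem genSet_cons (x : List Nat) (olds : List (List Nat)) (g : Equiv.Perm GolayPt) :
    g ∈ genSet (x :: olds) ↔ Rep g x ∨ g ∈ genSet olds := by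
  constructor
  · rintro ⟨t, ht, hr⟩
    rcases List.mem_cons.mp ht with rfl | h
    · exact Or.inl hr
    · exact Or.inr ⟨t, h, hr⟩
  · rintro (hr | ⟨t, ht, hr⟩)
    · exact ⟨x, List.mem_cons_self, hr⟩
    · exact ⟨t, List.mem_cons_of_mem _ ht, hr⟩

theorem grp_congr {a b : List (List Nat)} (h : ∀ t, t ∈ a ↔ t ∈ b) : grp a = grp b := by
  unfold grp
  congr 1
  ext g
  constructor
  · rintro ⟨t, ht, hr⟩
    exact ⟨t, (h t).mp ht, hr⟩
  · rintro ⟨t, ht, hr⟩
    exact ⟨t, (h t).mpr ht, hr⟩

theorem inv_eq_self_of_rep {y : Equiv.Perm GolayPt} {s : List Nat} (hr : Rep y s)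
    (h : invOK s s = true) : y⁻¹ = y := by
  have h1 := (invOK_spec h).2.2
  apply inv_eq_of_mul_eq_one_left
  apply Equiv.ext
  intro p
  apply idx_injective
  show idx (y (y p)) = idx p
  rw [← hr.2 (y p), ← hr.2 p]
  exact (h1 (idx p) (idx_lt p)).2.1

/-- One doubling level of a polycyclic enumeration: `x` is an involution table not among the
first `n` tables, it conjugates the earlier generators into the first `n` tables, and the next
`n` tables are the first `n` multiplied by `x`. -/
def pcLevel (L : List (List Nat)) (n : Nat) (x : List Nat) (olds : List (List Nat)) : Bool :=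
  invOK x x && !(L.take n).contains x &&
    olds.all (fun y => (L.take n).contains (tmul (tmul x y) x)) &&
    ((L.drop n).take n == (L.take n).map (fun t => tmul t x))

/-- Polycyclic enumeration check. -/
def pcOK (L : List (List Nat)) : Nat → List (List Nat) → List (List Nat) → Bool
  | n, [], _ => L.length == n
  | n, x :: rest, olds => pcLevel L n x olds && pcOK L (2 * n) rest (x :: olds)

theorem pc_step {olds L : List (List Nat)} {n : Nat} {x : List Nat}
    (hE : Enum (grp olds) (L.take n)) (h : pcLevel L n x olds = true) :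
    Enum (grp (x :: olds)) (L.take (2 * n)) := by
  simp only [pcLevel, Bool.and_eq_true, Bool.not_eq_true', List.all_eq_true, beq_iff_eq] at h
  obtain ⟨⟨⟨hinv, hnot⟩, hconj⟩, hhalf⟩ := h
  obtain ⟨gx, hgxdef⟩ : ∃ gx, gx = ofT x x hinv := ⟨_, rfl⟩
  have hrx : Rep gx x := hgxdef ▸ rep_ofT x x hinv
  have hgxinv : gx⁻¹ = gx := inv_eq_self_of_rep hrx hinv
  have hrx' : Rep gx⁻¹ x := hgxinv.symm ▸ hrx
  have hgx2 : gx * gx = 1 := by
    calc gx * gx = gx⁻¹ * gx := by rw [hgxinv]
      _ = 1 := inv_mul_cancel gx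
  have hNle : grp olds ≤ grp (x :: olds) :=
    Subgroup.closure_mono (fun g hg => (genSet_cons x olds g).mpr (Or.inr hg))
  have hgxmem : gx ∈ grp (x :: olds) :=
    Subgroup.subset_closure ((genSet_cons x olds gx).mpr (Or.inl hrx))
  have hnorm : ∀ y ∈ grp olds, gx * y * gx⁻¹ ∈ grp olds := by
    intro y hy
    unfold grp at hy
    induction hy using Subgroup.closure_induction with
    | mem y hy =>
      obtain ⟨t, ht, hry⟩ := hy
      have hmem := List.contains_iff_mem.mp (hconj t ht)
      obtain ⟨g, hg, hrg⟩ := hE.rep _ hmem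
      have hr : Rep (gx * y * gx⁻¹) (tmul (tmul x t) x) := (hrx.mul hry).mul hrx'
      rw [Rep.ext hr hrg]
      exact hg
    | one =>
      have : gx * 1 * gx⁻¹ = 1 := by group
      rw [this]
      exact Subgroup.one_mem _
    | mul a b _ _ ha hb =>
      have : gx * (a * b) * gx⁻¹ = (gx * a * gx⁻¹) * (gx * b * gx⁻¹) := by group
      rw [this]
      exact Subgroup.mul_mem _ ha hb
    | inv a _ ha =>
      have : gx * a⁻¹ * gx⁻¹ = (gx * a * gx⁻¹)⁻¹ := by group
      rw [this]
      exact Subgroup.inv_mem _ ha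
  have hxN : gx ∉ grp olds := by
    intro hmem
    obtain ⟨t, ht, hr⟩ := hE.cov gx hmem
    rw [rep_unique hr hrx] at ht
    have := List.contains_iff_mem.mpr ht
    rw [hnot] at this
    exact Bool.false_ne_true this
  have hmulN : ∀ g, (g ∈ grp olds ∨ ∃ m ∈ grp olds, g = m * gx) → ∀ y ∈ grp olds,
      (g * y ∈ grp olds ∨ ∃ m ∈ grp olds, g * y = m * gx) := by
    rintro g (hg | ⟨m, hm, rfl⟩) y hy
    · exact Or.inl (Subgroup.mul_mem _ hg hy)
    · refine Or.inr ⟨m * (gx * y * gx⁻¹), Subgroup.mul_mem _ hm (hnorm y hy), ?_⟩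
      group
  have hmulx : ∀ g, (g ∈ grp olds ∨ ∃ m ∈ grp olds, g = m * gx) →
      (g * gx ∈ grp olds ∨ ∃ m ∈ grp olds, g * gx = m * gx) := by
    rintro g (hg | ⟨m, hm, rfl⟩)
    · exact Or.inr ⟨g, hg, rfl⟩
    · left
      rw [mul_assoc, hgx2, mul_one]
      exact hm
  have hdecomp : ∀ g ∈ grp (x :: olds), g ∈ grp olds ∨ ∃ m ∈ grp olds, g = m * gx := by
    intro g hg
    unfold grp at hg
    induction hg using Subgroup.closure_induction_right with
    | one => exact Or.inl (Subgroup.one_mem _)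
    | mul_right g _ y hy ih =>
      rcases (genSet_cons x olds y).mp hy with hr | hy'
      · rw [Rep.ext hr hrx]
        exact hmulx g ih
      · exact hmulN g ih y (Subgroup.subset_closure hy')
    | mul_inv_cancel g _ y hy ih =>
      rcases (genSet_cons x olds y).mp hy with hr | hy'
      · rw [Rep.ext hr hrx, hgxinv]
        exact hmulx g ih
      · exact hmulN g ih y⁻¹ (Subgroup.inv_mem _ (Subgroup.subset_closure hy'))
  have htake : L.take (2 * n) = L.take n ++ (L.take n).map (fun t => tmul t x) := by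
    rw [two_mul, List.take_add, hhalf]
  rw [htake]
  refine ⟨?_, ?_, ?_⟩
  · intro t ht
    rcases List.mem_append.mp ht with h1 | h1
    · obtain ⟨g, hg, hr⟩ := hE.rep t h1
      exact ⟨g, hNle hg, hr⟩
    · obtain ⟨t0, ht0, rfl⟩ := List.mem_map.mp h1
      obtain ⟨g, hg, hr⟩ := hE.rep t0 ht0
      exact ⟨g * gx, Subgroup.mul_mem _ (hNle hg) hgxmem, hr.mul hrx⟩
  · intro g hg
    rcases hdecomp g hg with h1 | ⟨m, hm, rfl⟩
    · obtain ⟨t, ht, hr⟩ := hE.cov g h1
      exact ⟨t, List.mem_append_left _ ht, hr⟩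
    · obtain ⟨t, ht, hr⟩ := hE.cov m hm
      exact ⟨tmul t x, List.mem_append_right _ (List.mem_map.mpr ⟨t, ht, rfl⟩), hr.mul hrx⟩
  · rw [List.nodup_append]
    refine ⟨hE.nodup, ?_, ?_⟩
    · apply List.Nodup.map_on _ hE.nodup
      intro t1 h1 t2 h2 heq
      obtain ⟨g1, hg1, hr1⟩ := hE.rep t1 h1
      obtain ⟨g2, hg2, hr2⟩ := hE.rep t2 h2
      have e1 : Rep (g2 * gx) (tmul t1 x) := by rw [heq]; exact hr2.mul hrx
      have e2 : g1 * gx = g2 * gx := Rep.ext (hr1.mul hrx) e1
      have e3 : g1 = g2 := mul_right_cancel e2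
      exact rep_unique hr1 (e3 ▸ hr2)
    · intro a ha b hb hab
      obtain ⟨t0, ht0, rfl⟩ := List.mem_map.mp hb
      obtain ⟨ga, hga, hra⟩ := hE.rep a ha
      obtain ⟨g0, hg0, hr0⟩ := hE.rep t0 ht0
      have e1 : Rep (g0 * gx) a := by rw [hab]; exact hr0.mul hrx
      have e2 : ga = g0 * gx := Rep.ext hra e1
      apply hxN
      have e3 : gx = g0⁻¹ * ga := by rw [e2]; group
      rw [e3]
      exact Subgroup.mul_mem _ (Subgroup.inv_mem _ hg0) hga

theorem pc_sound (L : List (List Nat)) :
    ∀ (rest : List (List Nat)) (n : Nat) (olds : List (List Nat)),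
      Enum (grp olds) (L.take n) → pcOK L n rest olds = true →
      Enum (grp (rest.reverse ++ olds)) L := by
  intro rest
  induction rest with
  | nil =>
    intro n olds hE h
    simp only [pcOK, beq_iff_eq] at h
    rw [List.take_of_length_le (by omega)] at hE
    simpa using hE
  | cons x rest ih =>
    intro n olds hE h
    simp only [pcOK, Bool.and_eq_true] at h
    have := ih (2 * n) (x :: olds) (pc_step hE h.1) h.2
    simpa [List.reverse_cons, List.append_assoc] using this

theorem enum_bot : Enum (grp []) [idT] := by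
  have h : grp [] = ⊥ := by
    unfold grp
    rw [Subgroup.closure_eq_bot_iff]
    rintro g ⟨t, ht, -⟩
    exact absurd ht List.not_mem_nil
  refine ⟨?_, ?_, List.nodup_singleton _⟩
  · intro t ht
    rw [List.mem_singleton] at ht
    subst ht
    exact ⟨1, Subgroup.one_mem _, rep_one⟩
  · intro g hg
    rw [h, Subgroup.mem_bot] at hg
    subst hg
    exact ⟨idT, List.mem_singleton.mpr rfl, rep_one⟩

/-- All the checks making `L` a polycyclic enumeration of `grp gT`. -/
def enumOK (gT L : List (List Nat)) : Bool := (L.take 1 == [idT]) && pcOK L 1 gT []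

theorem enum_pc (gT L : List (List Nat)) (h : enumOK gT L = true) : Enum (grp gT) L := by
  simp only [enumOK, Bool.and_eq_true, beq_iff_eq] at h
  have h0 : Enum (grp []) (L.take 1) := by rw [h.1]; exact enum_bot
  have h1 := pc_sound L gT 1 [] h0 h.2
  rw [grp_congr (a := gT.reverse ++ []) (b := gT) (by simp)] at h1
  exact h1

/-! ### The strongly closed certificate -/

/-- Every table other than the identity and `zT` comes with a witness `(j, p)`: the `j`-th
generator does not commute with it at the index `p`. -/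
def cenOK (gT : List (List Nat)) (zT : List Nat) : List (List Nat) → List (Nat × Nat) → Bool
  | [], _ => true
  | _ :: _, [] => false
  | t :: ts, (j, p) :: ws =>
    (t == idT || t == zT ||
      (match gT[j]? with
        | some s => decide (p < 24) && s.getD (t.getD p 0) 0 != t.getD (s.getD p 0) 0
        | none => false)) && cenOK gT zT ts ws

theorem cenOK_spec (gT : List (List Nat)) (zT : List Nat) :
    ∀ (L : List (List Nat)) (ws : List (Nat × Nat)), cenOK gT zT L ws = true →
      ∀ t ∈ L, t = idT ∨ t = zT ∨ ∃ s ∈ gT, ∃ p, p < 24 ∧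
        s.getD (t.getD p 0) 0 ≠ t.getD (s.getD p 0) 0
  | [], _, _ => by intro t ht; exact absurd ht List.not_mem_nil
  | _ :: _, [], h => by simp [cenOK] at h
  | t :: ts, (j, p) :: ws, h => by
    simp only [cenOK, Bool.and_eq_true, Bool.or_eq_true, beq_iff_eq] at h
    intro t' ht'
    rcases List.mem_cons.mp ht' with rfl | h'
    · rcases h.1 with (h1 | h1) | h1
      · exact Or.inl h1
      · exact Or.inr (Or.inl h1)
      · right; right
        cases hs : gT[j]? with
        | none => rw [hs] at h1; exact absurd h1 (by simp)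
        | some s =>
          rw [hs] at h1
          simp only [Bool.and_eq_true, decide_eq_true_eq, bne_iff_ne, ne_eq] at h1
          exact ⟨s, List.mem_of_getElem? hs, p, h1.1, h1.2⟩
    · exact cenOK_spec gT zT ts ws h.2 t' h'

theorem exists_rep_z (hE : Enum H L) (hp : IsPGroup 2 H) [Finite H]
    {K T : Subgroup (Equiv.Perm GolayPt)} (hHK : H ≤ K) (hTH : T ≤ H) (hT0 : T ≠ ⊥)
    (hcl : ∀ x ∈ T, ∀ g ∈ K, g * x * g⁻¹ ∈ H → g * x * g⁻¹ ∈ T)
    (gT : List (List Nat)) (hgT : ∀ s ∈ gT, ∃ g ∈ H, Rep g s) (zT : List Nat)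
    (ws : List (Nat × Nat)) (hcen : cenOK gT zT L ws = true) : ∃ x ∈ T, Rep x zT := by
  have : (T.subgroupOf H).Normal := by
    constructor
    intro n hn g
    rw [Subgroup.mem_subgroupOf] at hn ⊢
    exact hcl _ hn g (hHK g.2) (H.mul_mem (H.mul_mem g.2 n.2) (H.inv_mem g.2))
  have hne : T.subgroupOf H ≠ ⊥ := by
    intro h0
    apply hT0
    rw [eq_bot_iff]
    intro x hx
    have : (⟨x, hTH hx⟩ : H) ∈ T.subgroupOf H := by
      rw [Subgroup.mem_subgroupOf]; exact hx
    rw [h0, Subgroup.mem_bot] at this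
    rw [Subgroup.mem_bot]
    exact congrArg Subtype.val this
  obtain ⟨z, hzN, hz1, hzc⟩ :=
    Cfsg.Agent.Lib.Helper53.PGroupBasics.exists_center_mem_normal hp (T.subgroupOf H) hne
  rw [Subgroup.mem_subgroupOf] at hzN
  obtain ⟨t, ht, hrt⟩ := hE.cov z.1 z.2
  rcases cenOK_spec gT zT L ws hcen t ht with rfl | rfl | ⟨s, hs, p, hp24, hne'⟩
  · exfalso
    apply hz1
    apply Subtype.ext
    exact hrt.eq_one
  · exact ⟨z.1, hzN, hrt⟩
  · exfalso
    apply hne'
    obtain ⟨g, hg, hrg⟩ := hgT s hs
    have h1 := Subgroup.mem_center_iff.mp hzc ⟨g, hg⟩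
    have h2 : g * z.1 = z.1 * g := congrArg Subtype.val h1
    have e1 : s.getD (t.getD p 0) 0 = idx (g (z.1 (pt p))) := by
      have a1 := hrt.2 (pt p)
      rw [idx_pt hp24] at a1
      rw [a1, hrg.2]
    have e2 : t.getD (s.getD p 0) 0 = idx (z.1 (g (pt p))) := by
      have a1 := hrg.2 (pt p)
      rw [idx_pt hp24] at a1
      rw [a1, hrt.2]
    rw [e1, e2]
    have h3 := congrArg (fun f : Equiv.Perm GolayPt => f (pt p)) h2
    exact congrArg idx h3

/-- Check of a fusion program: each row `(c, i, j, t)` claims that `t` is the table of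
`g (x y) g⁻¹` where `g` is the `c`-th conjugator and `x`, `y` are the `i`-th and `j`-th known
tables, and that `t` is one of the tables of `L`. -/
def fusOK (L : List (List Nat)) (Cg : List (List Nat × List Nat)) :
    List (List Nat) → List (Nat × Nat × Nat × List Nat) → Bool
  | _, [] => true
  | known, (c, i, j, t) :: rest =>
    (t == tmul (tmul (Cg.getD c (idT, idT)).1 (tmul (known.getD i idT) (known.getD j idT)))
      (Cg.getD c (idT, idT)).2) && L.contains t && fusOK L Cg (known ++ [t]) rest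

theorem fus_sound (hE : Enum H L) {K T : Subgroup (Equiv.Perm GolayPt)}
    (hcl : ∀ x ∈ T, ∀ g ∈ K, g * x * g⁻¹ ∈ H → g * x * g⁻¹ ∈ T)
    (Cg : List (List Nat × List Nat)) (hCg : ∀ c ∈ Cg, ∃ g ∈ K, Rep g c.1 ∧ Rep g⁻¹ c.2) :
    ∀ (rows : List (Nat × Nat × Nat × List Nat)) (known : List (List Nat)),
      (∀ t ∈ known, ∃ x ∈ T, Rep x t) → fusOK L Cg known rows = true →
      ∀ t ∈ known ++ rows.map (fun r => r.2.2.2), ∃ x ∈ T, Rep x t := by
  intro rows
  induction rows with
  | nil => intro known hk _ t ht; simpa using hk t (by simpa using ht)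
  | cons row rows ih =>
    intro known hk hchk t ht
    obtain ⟨c, i, j, tb⟩ := row
    simp only [fusOK, Bool.and_eq_true, beq_iff_eq] at hchk
    obtain ⟨⟨htb, hL⟩, hrest⟩ := hchk
    have hconj : ∃ g ∈ K, Rep g (Cg.getD c (idT, idT)).1 ∧ Rep g⁻¹ (Cg.getD c (idT, idT)).2 := by
      rw [List.getD_eq_getElem?_getD]
      cases hc : Cg[c]? with
      | none => exact ⟨1, K.one_mem, rep_one, by rw [inv_one]; exact rep_one⟩
      | some cc => exact hCg cc (List.mem_of_getElem? hc)
    obtain ⟨g, hgK, hrg, hrg'⟩ := hconj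
    obtain ⟨x, hxT, hrx⟩ := getD_rep T known hk i
    obtain ⟨y, hyT, hry⟩ := getD_rep T known hk j
    have hr : Rep (g * (x * y) * g⁻¹) tb := by
      rw [htb]
      exact (hrg.mul (hrx.mul hry)).mul hrg'
    obtain ⟨s, hsH, hrs⟩ := hE.rep tb (List.contains_iff_mem.mp hL)
    have hmem : g * (x * y) * g⁻¹ ∈ T := by
      apply hcl _ (T.mul_mem hxT hyT) g hgK
      rw [Rep.ext hr hrs]
      exact hsH
    have hk' : ∀ t ∈ known ++ [tb], ∃ x ∈ T, Rep x t := by
      intro t' ht'
      rcases List.mem_append.mp ht' with h1 | h1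
      · exact hk t' h1
      · rw [List.mem_singleton] at h1
        subst h1
        exact ⟨_, hmem, hr⟩
    apply ih (known ++ [tb]) hk' hrest t
    simpa [List.append_assoc] using ht

/-- The full certificate: central tables, and a fusion program producing every generator. -/
def closedOK (L gT : List (List Nat)) (zT : List Nat) (ws : List (Nat × Nat))
    (Cg : List (List Nat × List Nat)) (rows : List (Nat × Nat × Nat × List Nat)) : Bool :=
  gT.all (fun t => invOK t t) && cenOK gT zT L ws && fusOK L Cg [zT] rows &&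
    gT.all (fun s => ([zT] ++ rows.map (fun r => r.2.2.2)).contains s)

theorem closed_grp {gT : List (List Nat)} (hE : Enum (grp gT) L)
    (hp : IsPGroup 2 (grp gT)) [Finite (grp gT)]
    {K : Subgroup (Equiv.Perm GolayPt)} (hHK : grp gT ≤ K) (zT : List Nat)
    (ws : List (Nat × Nat))
    (Cg : List (List Nat × List Nat)) (hCg : ∀ c ∈ Cg, ∃ g ∈ K, Rep g c.1 ∧ Rep g⁻¹ c.2)
    (rows : List (Nat × Nat × Nat × List Nat)) (h : closedOK L gT zT ws Cg rows = true)
    (T : Subgroup (Equiv.Perm GolayPt)) (hTH : T ≤ grp gT) (hT0 : T ≠ ⊥)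
    (hcl : ∀ x ∈ T, ∀ g ∈ K, g * x * g⁻¹ ∈ grp gT → g * x * g⁻¹ ∈ T) : grp gT ≤ T := by
  simp only [closedOK, Bool.and_eq_true] at h
  obtain ⟨⟨⟨hinv, hcen⟩, hfus⟩, hall⟩ := h
  obtain ⟨z, hzT, hrz⟩ :=
    exists_rep_z hE hp hHK hTH hT0 hcl gT (gens_rep gT hinv) zT ws hcen
  have hknown := fus_sound hE hcl Cg hCg rows [zT]
    (by intro t ht; rw [List.mem_singleton] at ht; subst ht; exact ⟨z, hzT, hrz⟩) hfus
  unfold grp
  rw [Subgroup.closure_le]
  rintro g ⟨s, hs, hrs⟩
  obtain ⟨x, hxT, hrx⟩ := hknown s (List.contains_iff_mem.mp (List.all_eq_true.mp hall s hs))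
  rw [Rep.ext hrs hrx]
  exact hxT

/-! ### Transfer to the subtype of the ambient group -/

section Transfer

variable {K : Subgroup (Equiv.Perm GolayPt)}

theorem card_subgroupOf (hHK : H ≤ K) : Nat.card (H.subgroupOf K) = Nat.card H :=
  Nat.card_congr (Subgroup.subgroupOfEquivOfLe hHK).toEquiv

theorem normalizer_subgroupOf_le (hHK : H ≤ K)
    (hN : K ⊓ Subgroup.normalizer (H : Set (Equiv.Perm GolayPt)) ≤ H) :
    Subgroup.normalizer ((H.subgroupOf K : Subgroup K) : Set K) ≤ H.subgroupOf K := by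
  intro x hx
  rw [Subgroup.mem_subgroupOf]
  apply hN
  rw [Subgroup.mem_normalizer_iff] at hx
  refine ⟨x.2, Subgroup.mem_normalizer_iff.mpr ?_⟩
  intro y
  constructor
  · intro hy
    have := (hx ⟨y, hHK hy⟩).mp (Subgroup.mem_subgroupOf.mpr hy)
    exact Subgroup.mem_subgroupOf.mp this
  · intro hy
    have hyK : y ∈ K := by
      have h1 : y = (x : Equiv.Perm GolayPt)⁻¹ * ((x : Equiv.Perm GolayPt) * y *
          (x : Equiv.Perm GolayPt)⁻¹) * (x : Equiv.Perm GolayPt) := by group
      rw [h1]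
      exact K.mul_mem (K.mul_mem (K.inv_mem x.2) (hHK hy)) x.2
    have := (hx ⟨y, hyK⟩).mpr (Subgroup.mem_subgroupOf.mpr hy)
    exact Subgroup.mem_subgroupOf.mp this

theorem closed_subgroupOf
    (hcl : ∀ T : Subgroup (Equiv.Perm GolayPt), T ≤ H → T ≠ ⊥ →
      (∀ x ∈ T, ∀ g ∈ K, g * x * g⁻¹ ∈ H → g * x * g⁻¹ ∈ T) → H ≤ T)
    (T : Subgroup K) (hT : T ≤ H.subgroupOf K) (hT0 : T ≠ ⊥)
    (hTc : ∀ x ∈ T, ∀ k : K, k * x * k⁻¹ ∈ H.subgroupOf K → k * x * k⁻¹ ∈ T) :
    H.subgroupOf K ≤ T := by
  have h1 : T.map K.subtype ≤ H := by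
    rintro _ ⟨x, hx, rfl⟩
    exact Subgroup.mem_subgroupOf.mp (hT hx)
  have h2 : T.map K.subtype ≠ ⊥ := by
    intro h0
    apply hT0
    rw [eq_bot_iff]
    intro x hx
    have : K.subtype x ∈ T.map K.subtype := Subgroup.mem_map_of_mem _ hx
    rw [h0, Subgroup.mem_bot] at this
    rw [Subgroup.mem_bot]
    exact Subtype.ext this
  have h3 : ∀ x ∈ T.map K.subtype, ∀ g ∈ K, g * x * g⁻¹ ∈ H → g * x * g⁻¹ ∈ T.map K.subtype := by
    rintro _ ⟨x, hx, rfl⟩ g hg hmem
    have := hTc x hx ⟨g, hg⟩ (Subgroup.mem_subgroupOf.mpr hmem)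
    exact ⟨_, this, rfl⟩
  have h4 := hcl _ h1 h2 h3
  intro x hx
  obtain ⟨y, hy, hyx⟩ := h4 (Subgroup.mem_subgroupOf.mp hx)
  have : y = x := Subtype.ext hyx
  rwa [← this]

end Transfer

end Cfsg.Agent.Lib.Helper86.TabGrp
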