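import Cfsg.Agent.Lib.Helper86.M24CenFive
import Cfsg.Agent.Lib.Helper35.M24BlkElts

set_option autoImplicit false

/-!
# S5006 piece CD11 (helper86): the centraliser of `r11` in `M24` has exponent 11
-/

namespace Cfsg.Agent.Lib.Helper86.M24BlkCD11

open Cfsg Cfsg.Agent.Lib.Helper7.GolayBase Cfsg.Agent.Lib.Helper7.GolayPerm
  Cfsg.Agent.Lib.Helper86.TabGrp Cfsg.Agent.Lib.Helper86.ChainEnum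
  Cfsg.Agent.Lib.Helper86.CenTab Cfsg.Agent.Lib.Helper86.M24CenFive
  Cfsg.Agent.Lib.Helper35.M24BlkElts

/-- Elements of `M24` mapping `23, 0, 1, 2, 3` to `q, r q, r² q, r³ q, r⁴ q`. -/
def Gs : List (List Nat) :=
  [[1, 2, 3, 16, 22, 15, 21, 18, 14, 10, 12, 23, 5, 9, 19, 7, 6, 8, 17, 13, 4, 20, 11, 0],
  [2, 3, 16, 17, 0, 9, 12, 22, 6, 10, 21, 14, 7, 8, 20, 11, 15, 4, 13, 5, 23, 18, 19, 1],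
  [3, 16, 17, 15, 9, 6, 10, 19, 18, 0, 7, 23, 13, 20, 11, 21, 1, 5, 8, 14, 22, 12, 4, 2],
  [16, 17, 15, 9, 23, 13, 1, 18, 2, 22, 20, 5, 6, 4, 7, 8, 10, 19, 11, 21, 12, 14, 0, 3],
  [5, 19, 20, 11, 6, 17, 8, 16, 9, 15, 23, 3, 21, 12, 14, 10, 0, 2, 13, 22, 18, 1, 7, 4],
  [19, 20, 11, 7, 2, 15, 1, 12, 9, 6, 23, 22, 10, 17, 8, 16, 4, 3, 0, 18, 21, 13, 14, 5],
  [13, 23, 0, 1, 16, 8, 11, 22, 20, 9, 2, 21, 4, 17, 10, 14, 7, 3, 15, 12, 18, 19, 5, 6],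
  [18, 10, 22, 14, 6, 9, 17, 8, 13, 5, 0, 19, 11, 3, 23, 16, 21, 20, 15, 2, 4, 12, 1, 7],
  [4, 5, 19, 20, 0, 1, 13, 7, 15, 9, 12, 21, 6, 14, 16, 23, 10, 22, 2, 18, 11, 17, 3, 8],
  [6, 13, 23, 0, 16, 2, 8, 17, 22, 10, 5, 1, 7, 4, 14, 12, 11, 18, 15, 19, 20, 21, 3, 9],
  [22, 14, 8, 4, 15, 7, 9, 16, 17, 11, 0, 3, 21, 2, 13, 6, 19, 1, 23, 12, 18, 5, 20, 10],
  [7, 18, 10, 22, 4, 13, 2, 0, 6, 12, 16, 17, 5, 23, 19, 1, 3, 15, 20, 21, 14, 9, 8, 11],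
  [0, 1, 2, 3, 4, 5, 6, 7, 8, 9, 10, 11, 12, 13, 14, 15, 16, 17, 18, 19, 20, 21, 22, 23],
  [23, 0, 1, 2, 5, 4, 6, 3, 18, 7, 14, 19, 17, 9, 22, 12, 11, 16, 15, 8, 20, 10, 21, 13],
  [8, 4, 5, 19, 23, 10, 1, 9, 15, 16, 11, 20, 12, 18, 0, 6, 2, 3, 13, 21, 7, 17, 22, 14],
  [9, 6, 13, 23, 18, 1, 11, 0, 21, 3, 2, 16, 14, 12, 22, 8, 19, 7, 5, 17, 20, 10, 4, 15],
  [17, 15, 9, 6, 5, 18, 14, 12, 10, 19, 7, 2, 8, 22, 20, 13, 0, 23, 21, 11, 3, 4, 1, 16],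
  [15, 9, 6, 13, 19, 0, 21, 4, 20, 5, 12, 16, 18, 1, 10, 8, 2, 11, 23, 3, 7, 22, 14, 17],
  [10, 22, 14, 8, 1, 11, 12, 4, 2, 9, 7, 16, 13, 17, 6, 20, 19, 0, 21, 15, 23, 3, 5, 18],
  [20, 11, 7, 18, 17, 4, 3, 5, 14, 12, 10, 22, 6, 21, 16, 2, 13, 9, 1, 8, 23, 15, 0, 19],
  [11, 7, 18, 10, 14, 5, 22, 12, 21, 19, 16, 15, 1, 8, 17, 9, 2, 6, 23, 0, 4, 3, 13, 20],
  [0, 1, 2, 3, 4, 5, 6, 7, 8, 9, 10, 11, 12, 13, 14, 15, 16, 17, 18, 19, 20, 21, 22, 23],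
  [14, 8, 4, 5, 10, 2, 17, 19, 20, 21, 0, 9, 3, 7, 18, 15, 13, 23, 11, 12, 16, 6, 1, 22],
  [0, 1, 2, 3, 4, 5, 6, 7, 8, 9, 10, 11, 12, 13, 14, 15, 16, 17, 18, 19, 20, 21, 22, 23]]

theorem main : ∀ x ∈ M24, x * r11 = r11 * x → x ^ 11 = 1 := by
  intro x hx hc
  obtain ⟨w, hw, hg⟩ := cen_all rep_r11 (t := t11) (by decide) (Gs := Gs) (by decide +kernel)
    (good := fun w => powT w 11 == idT) (by decide +kernel) hx hc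
  exact pow_eq_one_of_rep hw hg

end Cfsg.Agent.Lib.Helper86.M24BlkCD11
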