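import Cfsg.Agent.Lib.Helper86.M24CenFive
import Cfsg.Agent.Lib.Helper35.M24BlkElts

set_option autoImplicit false

/-!
# S5006 piece CD23 (helper86): the centraliser of `r23` in `M24` has exponent 23
-/

namespace Cfsg.Agent.Lib.Helper86.M24BlkCD23

open Cfsg Cfsg.Agent.Lib.Helper7.GolayBase Cfsg.Agent.Lib.Helper7.GolayPerm
  Cfsg.Agent.Lib.Helper86.TabGrp Cfsg.Agent.Lib.Helper86.ChainEnum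
  Cfsg.Agent.Lib.Helper86.CenTab Cfsg.Agent.Lib.Helper86.M24CenFive
  Cfsg.Agent.Lib.Helper35.M24BlkElts

/-- Elements of `M24` mapping `23, 0, 1, 2, 3` to `q, r q, r² q, r³ q, r⁴ q`. -/
def Gs : List (List Nat) :=
  [[1, 2, 3, 13, 22, 21, 12, 10, 5, 19, 15, 23, 17, 6, 18, 8, 11, 20, 14, 4, 16, 7, 9, 0],
  [2, 3, 13, 16, 4, 7, 19, 12, 0, 22, 15, 20, 21, 8, 6, 10, 5, 14, 18, 9, 17, 23, 11, 1],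
  [3, 13, 16, 8, 22, 17, 7, 1, 10, 4, 21, 0, 9, 19, 23, 15, 11, 18, 5, 14, 12, 6, 20, 2],
  [13, 16, 8, 4, 15, 0, 5, 6, 22, 23, 17, 21, 1, 14, 7, 18, 11, 20, 9, 12, 2, 19, 10, 3],
  [15, 11, 12, 10, 8, 1, 2, 18, 19, 16, 9, 22, 20, 3, 13, 14, 6, 23, 21, 5, 17, 7, 0, 4],
  [21, 14, 18, 7, 6, 10, 13, 20, 4, 9, 0, 19, 16, 2, 8, 22, 11, 15, 12, 17, 3, 23, 1, 5],
  [23, 0, 1, 2, 22, 7, 9, 4, 14, 10, 13, 15, 16, 18, 19, 3, 5, 21, 11, 17, 8, 12, 20, 6],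
  [17, 20, 6, 23, 16, 21, 1, 15, 5, 13, 9, 11, 18, 19, 12, 4, 8, 22, 10, 3, 14, 0, 2, 7],
  [4, 15, 11, 12, 9, 0, 10, 17, 19, 23, 16, 1, 14, 7, 3, 20, 21, 6, 18, 22, 2, 5, 13, 8],
  [0, 1, 2, 3, 4, 5, 6, 7, 8, 9, 10, 11, 12, 13, 14, 15, 16, 17, 18, 19, 20, 21, 22, 23],
  [22, 19, 5, 21, 0, 15, 13, 4, 1, 8, 23, 14, 17, 20, 3, 6, 9, 16, 18, 12, 7, 2, 11, 10],
  [12, 10, 22, 19, 9, 1, 20, 17, 2, 18, 23, 16, 15, 7, 3, 5, 4, 8, 0, 13, 21, 14, 6, 11],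
  [10, 22, 19, 5, 8, 13, 18, 6, 21, 17, 23, 14, 7, 11, 4, 15, 3, 2, 0, 16, 9, 20, 1, 12],
  [16, 8, 4, 15, 18, 17, 0, 3, 23, 14, 9, 21, 5, 12, 6, 2, 11, 1, 10, 20, 19, 7, 22, 13],
  [18, 7, 17, 20, 0, 12, 22, 4, 9, 1, 23, 16, 2, 10, 19, 8, 3, 15, 5, 21, 6, 11, 13, 14],
  [11, 12, 10, 22, 23, 0, 19, 5, 20, 3, 21, 8, 18, 4, 2, 17, 13, 16, 9, 14, 7, 6, 1, 15],
  [8, 4, 15, 11, 7, 20, 1, 13, 0, 18, 9, 14, 21, 10, 23, 3, 12, 2, 22, 6, 5, 17, 19, 16],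
  [20, 6, 23, 0, 7, 19, 5, 8, 2, 18, 9, 1, 11, 21, 14, 16, 12, 10, 13, 3, 15, 4, 22, 17],
  [7, 17, 20, 6, 14, 11, 2, 4, 21, 16, 13, 8, 9, 15, 10, 22, 12, 5, 3, 23, 1, 0, 19, 18],
  [5, 21, 14, 18, 9, 4, 7, 3, 20, 8, 22, 15, 0, 2, 12, 13, 23, 16, 1, 17, 11, 6, 10, 19],
  [6, 23, 0, 1, 11, 22, 4, 15, 10, 12, 16, 17, 14, 7, 5, 3, 8, 18, 19, 13, 2, 21, 9, 20],
  [14, 18, 7, 17, 2, 22, 6, 16, 10, 1, 9, 8, 5, 12, 4, 13, 3, 11, 15, 0, 19, 20, 23, 21],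
  [19, 5, 21, 14, 6, 8, 20, 7, 23, 15, 3, 0, 17, 12, 11, 10, 9, 13, 4, 2, 16, 18, 1, 22],
  [0, 1, 2, 3, 4, 5, 6, 7, 8, 9, 10, 11, 12, 13, 14, 15, 16, 17, 18, 19, 20, 21, 22, 23]]

theorem main : ∀ x ∈ M24, x * r23 = r23 * x → x ^ 23 = 1 := by
  intro x hx hc
  obtain ⟨w, hw, hg⟩ := cen_all rep_r23 (t := t23) (by decide) (Gs := Gs) (by decide +kernel)
    (good := fun w => powT w 23 == idT) (by decide +kernel) hx hc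
  exact pow_eq_one_of_rep hw hg

end Cfsg.Agent.Lib.Helper86.M24BlkCD23
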