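import Cfsg.Agent.Lib.Helper86.M24Inv
import Cfsg.Agent.Lib.Helper7.M24Octad

set_option autoImplicit false

/-!
# The two classes of involutions of `M24`

`gA` (fixed points an octad) and `gB` (no fixed points) are involutions of `M24`, and every
involution of `M24` is conjugate to exactly one of them.
-/

namespace Cfsg.Agent.Lib.Helper86.M24Inv2

open Cfsg Cfsg.Agent.Lib.Helper7.GolayBase Cfsg.Agent.Lib.Helper7.GolayCode
  Cfsg.Agent.Lib.Helper7.GolayRigid Cfsg.Agent.Lib.Helper7.GolayPerm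
  Cfsg.Agent.Lib.Helper86.TabGrp Cfsg.Agent.Lib.Helper86.TabMathieu
  Cfsg.Agent.Lib.Helper86.M24Inv
open scoped Pointwise

/-! ### Fixed points -/

/-- The fixed points of a permutation. -/
def fixedPts (g : Equiv.Perm GolayPt) : Finset GolayPt := Finset.univ.filter fun p => g p = p

theorem mem_fixedPts {g : Equiv.Perm GolayPt} {p : GolayPt} : p ∈ fixedPts g ↔ g p = p := by
  simp [fixedPts]

/-- The mask of the fixed indices of a table. -/
def fixMask (t : List Nat) : Nat := Nat.ofBits (fun i : Fin 24 => t.getD i 0 == (i : Nat))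

theorem fixedPts_eq_mk {g : Equiv.Perm GolayPt} {t : List Nat} (hr : Rep g t) :
    fixedPts g = mk (fixMask t) := by
  ext p
  rw [mem_fixedPts, mem_mk, fixMask, Nat.testBit_ofBits]
  simp only [idx_lt, dite_true, beq_iff_eq]
  rw [hr.2]
  constructor
  · intro h; rw [h]
  · intro h; exact idx_injective h

theorem fixedPts_conj (k g : Equiv.Perm GolayPt) : fixedPts (k * g * k⁻¹) = k • fixedPts g := by
  ext p
  rw [← Finset.inv_smul_mem_iff, mem_fixedPts, mem_fixedPts]
  show k (g (k⁻¹ p)) = p ↔ g (k⁻¹ p) = k⁻¹ p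
  constructor
  · intro h
    have h1 := congrArg (fun q => k⁻¹ q) h
    simpa using h1
  · intro h
    rw [h]
    simp

theorem fixedPts_of_conj {k g r : Equiv.Perm GolayPt} (h : k * g * k⁻¹ = r) :
    fixedPts g = k⁻¹ • fixedPts r := by
  rw [← h, fixedPts_conj, inv_smul_smul]

theorem card_fixedPts_of_conj {k g r : Equiv.Perm GolayPt} (h : k * g * k⁻¹ = r) :
    (fixedPts g).card = (fixedPts r).card := by
  rw [fixedPts_of_conj h, Finset.card_smul_finset]

/-! ### The representatives -/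

theorem exA : ∃ g ∈ M24, Rep g zA ∧ Rep g⁻¹ zA := exists_M24 zA zA (by decide +kernel)
theorem exB : ∃ g ∈ M24, Rep g zB ∧ Rep g⁻¹ zB := exists_M24 zB zB (by decide +kernel)

/-- The involution with eight fixed points. -/
noncomputable def gA : Equiv.Perm GolayPt := exA.choose
/-- The involution without fixed points. -/
noncomputable def gB : Equiv.Perm GolayPt := exB.choose

theorem gA_mem : gA ∈ M24 := exA.choose_spec.1
theorem gB_mem : gB ∈ M24 := exB.choose_spec.1
theorem rep_gA : Rep gA zA := exA.choose_spec.2.1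
theorem rep_gB : Rep gB zB := exB.choose_spec.2.1

theorem sq_of_rep {g : Equiv.Perm GolayPt} {t : List Nat} (hr : Rep g t)
    (h : tmul t t = idT) : g * g = 1 := by
  have := hr.mul hr
  rw [h] at this
  exact this.eq_one

theorem ne_one_of_rep {g : Equiv.Perm GolayPt} {t : List Nat} (hr : Rep g t)
    (h : t ≠ idT) : g ≠ 1 := by
  intro h1
  subst h1
  exact h (rep_unique hr rep_one)

theorem orderOf_two {g : Equiv.Perm GolayPt} (h : g * g = 1) (h1 : g ≠ 1) : orderOf g = 2 :=
  orderOf_eq_prime (by rw [pow_two]; exact h) h1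

theorem gA_sq : gA * gA = 1 := sq_of_rep rep_gA (by decide +kernel)
theorem gB_sq : gB * gB = 1 := sq_of_rep rep_gB (by decide +kernel)
theorem gA_ne : gA ≠ 1 := ne_one_of_rep rep_gA (by decide +kernel)
theorem gB_ne : gB ≠ 1 := ne_one_of_rep rep_gB (by decide +kernel)
theorem orderOf_gA : orderOf gA = 2 := orderOf_two gA_sq gA_ne
theorem orderOf_gB : orderOf gB = 2 := orderOf_two gB_sq gB_ne

/-- The mask of the fixed points of `gA`. -/
def mA : Nat := 1613974

theorem fixMask_zA : fixMask zA = mA := by decide +kernel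
theorem fixMask_zB : fixMask zB = 0 := by decide +kernel

theorem fixedPts_gA : fixedPts gA = mk mA := by rw [fixedPts_eq_mk rep_gA, fixMask_zA]

theorem mA_mem : mA ∈ octadList :=
  mem_octadList.mpr ⟨inCode_sound (by decide +kernel), by decide +kernel⟩

theorem fixedPts_gA_mem : fixedPts gA ∈ octads := by
  rw [fixedPts_gA]; exact (mem_octads_iff _).mpr ⟨mA, mA_mem, rfl⟩

theorem card_fixedPts_gA : (fixedPts gA).card = 8 := by
  rw [fixedPts_gA, card_mk]; decide +kernel

theorem fixedPts_gB : fixedPts gB = ∅ := by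
  rw [fixedPts_eq_mk rep_gB, fixMask_zB]
  ext p
  rw [mem_mk]
  simp

theorem gB_fpf (p : GolayPt) : gB p ≠ p := by
  intro h
  have : p ∈ fixedPts gB := mem_fixedPts.mpr h
  rw [fixedPts_gB] at this
  exact absurd this (Finset.notMem_empty p)

/-! ### The classification of involutions -/

/-- Every involution of `M24` is conjugate to `gA` or to `gB`. -/
theorem inv_cases {g : Equiv.Perm GolayPt} (hg : g ∈ M24) (h2 : orderOf g = 2) :
    ∃ k ∈ M24, k * g * k⁻¹ = gA ∨ k * g * k⁻¹ = gB := by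
  obtain ⟨k, hk, h | h⟩ := inv_conj hg h2
  · exact ⟨k, hk, Or.inl (h.ext rep_gA)⟩
  · exact ⟨k, hk, Or.inr (h.ext rep_gB)⟩

theorem fpf_of_conj_gB {k g : Equiv.Perm GolayPt} (h : k * g * k⁻¹ = gB) (p : GolayPt) :
    g p ≠ p := by
  intro hp
  have : p ∈ fixedPts g := mem_fixedPts.mpr hp
  rw [fixedPts_of_conj h, fixedPts_gB, Finset.smul_finset_empty] at this
  exact absurd this (Finset.notMem_empty p)

theorem octad_of_conj_gA {k g : Equiv.Perm GolayPt} (hk : k ∈ M24) (h : k * g * k⁻¹ = gA) :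
    fixedPts g ∈ octads := by
  rw [fixedPts_of_conj h]
  exact Cfsg.Agent.Lib.Helper7.M24Octad.smul_mem_octads (M24.inv_mem hk) fixedPts_gA_mem

theorem card_of_conj_gA {k g : Equiv.Perm GolayPt} (h : k * g * k⁻¹ = gA) :
    (fixedPts g).card = 8 := by
  rw [card_fixedPts_of_conj h, card_fixedPts_gA]

theorem exists_fixed_of_conj_gA {k g : Equiv.Perm GolayPt} (h : k * g * k⁻¹ = gA) :
    ∃ p, g p = p := by
  have h8 := card_of_conj_gA h
  have hne : (fixedPts g).Nonempty := by
    rw [← Finset.card_pos, h8]; norm_num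
  obtain ⟨p, hp⟩ := hne
  exact ⟨p, mem_fixedPts.mp hp⟩

/-- An involution of `M24` with a fixed point is conjugate to `gA`. -/
theorem conj_gA_of_fixed {g : Equiv.Perm GolayPt} (hg : g ∈ M24) (h2 : orderOf g = 2)
    {p : GolayPt} (hp : g p = p) : ∃ k ∈ M24, k * g * k⁻¹ = gA := by
  obtain ⟨k, hk, h | h⟩ := inv_cases hg h2
  · exact ⟨k, hk, h⟩
  · exact absurd hp (fpf_of_conj_gB h p)

/-- A fixed-point-free involution of `M24` is conjugate to `gB`. -/
theorem conj_gB_of_fpf {g : Equiv.Perm GolayPt} (hg : g ∈ M24) (h2 : orderOf g = 2)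
    (hp : ∀ p, g p ≠ p) : ∃ k ∈ M24, k * g * k⁻¹ = gB := by
  obtain ⟨k, hk, h | h⟩ := inv_cases hg h2
  · obtain ⟨p, hp'⟩ := exists_fixed_of_conj_gA h
    exact absurd hp' (hp p)
  · exact ⟨k, hk, h⟩

theorem conj_of_conj {k₁ k₂ g h r : Equiv.Perm GolayPt} (h1 : k₁ * g * k₁⁻¹ = r)
    (h2 : k₂ * h * k₂⁻¹ = r) : (k₂⁻¹ * k₁) * g * (k₂⁻¹ * k₁)⁻¹ = h := by
  have e : (k₂⁻¹ * k₁) * g * (k₂⁻¹ * k₁)⁻¹ = k₂⁻¹ * (k₁ * g * k₁⁻¹) * k₂ := by group
  rw [e, h1, ← h2]
  group

end Cfsg.Agent.Lib.Helper86.M24Inv2
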