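import Cfsg.Agent.Lib.Helper86.St12
import Cfsg.Agent.S0382
import Cfsg.Agent.S0383
import Cfsg.Agent.S0385

set_option autoImplicit false

/-! The automorphism group of any Steiner system `S(5, 6, 12)` is simple: it is isomorphic to
the stabiliser of a dodecad in the group of the binary Golay code, acting on the hexads of the
dodecad. -/

namespace Cfsg.Agent.Lib.Helper86.St12Simple

open Cfsg Cfsg.Agent.Lib.Helper8.AutTransport Cfsg.Agent.Lib.Helper86.SteinerAut
  Cfsg.Agent.Lib.Helper7.M24Octad
open scoped Pointwise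

/-- The hexad system of a dodecad. -/
def Hex (d : Finset GolayPt) : Set (Finset {p : GolayPt // p ∈ d}) :=
  {h | ∃ o ∈ octads, (o ∩ d).card = 6 ∧ h = Finset.subtype (fun p => p ∈ d) o}

theorem hex_steiner {d : Finset GolayPt} (hd : d ∈ dodecads) : IsSteinerSystem 5 6 (Hex d) :=
  Cfsg.Agent.S0385.result d hd

theorem card_pts {d : Finset GolayPt} (hd : d ∈ dodecads) :
    Fintype.card {p : GolayPt // p ∈ d} = 12 := by
  rw [Fintype.card_coe]; exact hd.2

theorem mem_iff {d : Finset GolayPt} {g : Equiv.Perm GolayPt} (hg : g • d = d) (x : GolayPt) :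
    g x ∈ d ↔ x ∈ d := by
  conv_lhs => rw [← hg]
  exact Finset.smul_mem_smul_finset_iff g

/-- The restriction to a dodecad of a permutation fixing it. -/
def res {d : Finset GolayPt} (g : Equiv.Perm GolayPt) (hg : g • d = d) :
    Equiv.Perm {p : GolayPt // p ∈ d} :=
  g.subtypePerm (mem_iff hg)

theorem res_apply {d : Finset GolayPt} (g : Equiv.Perm GolayPt) (hg : g • d = d)
    (x : {p : GolayPt // p ∈ d}) : ((res g hg x : {p : GolayPt // p ∈ d}) : GolayPt) = g x :=
  rfl

theorem image_res {d : Finset GolayPt} (g : Equiv.Perm GolayPt) (hg : g • d = d)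
    (o : Finset GolayPt) : (Finset.subtype (fun p => p ∈ d) o).image (res g hg) =
      Finset.subtype (fun p => p ∈ d) (g • o) := by
  ext x
  simp only [Finset.mem_image, Finset.mem_subtype]
  constructor
  · rintro ⟨y, hy, rfl⟩
    exact Finset.smul_mem_smul_finset hy
  · intro hx
    obtain ⟨y, hy, hyx⟩ := Finset.mem_smul_finset.mp hx
    have hyx' : g y = x.1 := hyx
    have hyd : y ∈ d := (mem_iff hg y).mp (by rw [hyx']; exact x.2)
    exact ⟨⟨y, hyd⟩, hy, Subtype.ext hyx'⟩

theorem res_image_mem {d : Finset GolayPt} {g : Equiv.Perm GolayPt} (hgM : g ∈ M24)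
    (hg : g • d = d) {b : Finset {p : GolayPt // p ∈ d}} (hb : b ∈ Hex d) :
    b.image (res g hg) ∈ Hex d := by
  obtain ⟨o, ho, h6, rfl⟩ := hb
  refine ⟨g • o, smul_mem_octads hgM ho, ?_, image_res g hg o⟩
  have : g • o ∩ d = g • (o ∩ d) := by rw [Finset.smul_finset_inter, hg]
  rw [this, Finset.card_smul_finset]
  exact h6

theorem res_mem_aut {d : Finset GolayPt} {g : Equiv.Perm GolayPt} (hgM : g ∈ M24)
    (hg : g • d = d) : res g hg ∈ setSystemAut (Hex d) := by
  rw [mem_aut_iff]
  apply Set.Subset.antisymm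
  · rintro c ⟨b, hb, rfl⟩
    exact res_image_mem hgM hg hb
  · intro b hb
    have hg' : g⁻¹ • d = d := by rw [inv_smul_eq_iff, hg]
    refine ⟨b.image (res g⁻¹ hg'), res_image_mem (M24.inv_mem hgM) hg' hb, ?_⟩
    show (b.image (res g⁻¹ hg')).image (res g hg) = b
    rw [Finset.image_image]
    have h1 : (res g hg : {p : GolayPt // p ∈ d} → {p : GolayPt // p ∈ d}) ∘ (res g⁻¹ hg') = id := by
      funext x
      apply Subtype.ext
      simp [res_apply]
    rw [h1, Finset.image_id]

theorem stab_smul {d : Finset GolayPt} (g : MulAction.stabilizer M24 d) :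
    ((g : M24) : Equiv.Perm GolayPt) • d = d :=
  MulAction.mem_stabilizer_iff.mp g.2

/-- The restriction homomorphism from the stabiliser of a dodecad to the automorphism group of
its hexad system. -/
def φ (d : Finset GolayPt) : MulAction.stabilizer M24 d →* setSystemAut (Hex d) where
  toFun g := ⟨res ((g : M24) : Equiv.Perm GolayPt) (stab_smul g), res_mem_aut (g : M24).2 _⟩
  map_one' := by
    apply Subtype.ext
    ext x
    rfl
  map_mul' a b := by
    apply Subtype.ext
    ext x
    rfl

theorem φ_injective {d : Finset GolayPt} (hd : d ∈ dodecads) : Function.Injective (φ d) := by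
  rw [injective_iff_map_eq_one]
  intro g hg
  have h1 : ((g : M24) : Equiv.Perm GolayPt) = 1 := by
    apply Cfsg.Agent.Lib.Helper7.M12Simple.m12_faithful hd (g : M24).2 (stab_smul g)
    intro x hx
    have h2 := congrArg (fun a : setSystemAut (Hex d) =>
      (((a : Equiv.Perm {p : GolayPt // p ∈ d}) ⟨x, hx⟩ : {p : GolayPt // p ∈ d}) : GolayPt)) hg
    exact h2
  apply Subtype.ext
  apply Subtype.ext
  exact h1

theorem aut_hex_card {d : Finset GolayPt} (hd : d ∈ dodecads) :
    Nat.card (setSystemAut (Hex d)) = 95040 := by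
  rw [(Cfsg.Agent.Lib.Helper86.St12.lbl (card_pts hd) (hex_steiner hd)).card_aut
    (Cfsg.Agent.Lib.Helper86.St12.rigid (card_pts hd) (hex_steiner hd))]
  decide

theorem aut_hex_simple {d : Finset GolayPt} (hd : d ∈ dodecads) :
    IsSimpleGroup (setSystemAut (Hex d)) := by
  have := Cfsg.Agent.S0383.result d hd
  have hbij : Function.Bijective (φ d) :=
    (Nat.bijective_iff_injective_and_card _).mpr
      ⟨φ_injective hd, by rw [Cfsg.Agent.S0382.result d hd, aut_hex_card hd]⟩
  exact (MulEquiv.ofBijective (φ d) hbij).isSimpleGroup_congr.mp inferInstance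

theorem aut_simple {α : Type*} [Fintype α] [DecidableEq α] (hα : Fintype.card α = 12)
    {B : Set (Finset α)} (hB : IsSteinerSystem 5 6 B) : IsSimpleGroup (setSystemAut B) := by
  have hd := Cfsg.Agent.Lib.Helper7.M12Core.mk_d0_mem
  obtain ⟨e, he⟩ := (Cfsg.Agent.Lib.Helper86.St12.lbl hα hB).setSystemIso
    (Cfsg.Agent.Lib.Helper86.St12.lbl (card_pts hd) (hex_steiner hd))
  have := aut_hex_simple hd
  exact (autCongr e he).isSimpleGroup_congr.mpr inferInstance

end Cfsg.Agent.Lib.Helper86.St12Simple
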