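import Cfsg.Agent.Lib.Helper86.St11
import Cfsg.Agent.Lib.Helper86.St12Simple
import Cfsg.Agent.Lib.Helper8.DerivedPlane
import Cfsg.Agent.S0387
import Cfsg.Agent.S0388

set_option autoImplicit false

/-! The automorphism group of any Steiner system `S(4, 5, 11)` is simple: it is isomorphic to
the stabiliser of a dodecad and one of its points in the group of the binary Golay code, acting
on the derived design of the hexad system. -/

namespace Cfsg.Agent.Lib.Helper86.St11Simple

open Cfsg Cfsg.Agent.Lib.Helper8.AutTransport Cfsg.Agent.Lib.Helper86.SteinerAut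
  Cfsg.Agent.Lib.Helper8.DerivedPlane Cfsg.Agent.Lib.Helper86.St12Simple
open scoped Pointwise

section General

variable {α : Type*} [DecidableEq α]

/-- The restriction to the complement of `J` of a permutation mapping `J` to itself. -/
def rest {J : Finset α} (r : Equiv.Perm α) (hJ : ∀ x, r x ∉ J ↔ x ∉ J) : Equiv.Perm (Co J) :=
  r.subtypePerm hJ

theorem rest_image_mem {B : Set (Finset α)} {J : Finset α} (r : Equiv.Perm α)
    (hJ : ∀ x, r x ∉ J ↔ x ∉ J) (hJi : J.image r = J) (hr : ∀ b ∈ B, b.image r ∈ B)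
    {l : Finset (Co J)} (hl : l ∈ lines J B) : l.image (rest r hJ) ∈ lines J B := by
  have h1 := hr _ hl
  have h2 : (J ∪ l.map (Function.Embedding.subtype _)).image r =
      J ∪ (l.image (rest r hJ)).map (Function.Embedding.subtype _) := by
    rw [Finset.image_union, hJi]
    congr 1
    ext x
    simp only [Finset.mem_image, Finset.mem_map, Function.Embedding.subtype_apply]
    constructor
    · rintro ⟨y, ⟨z, hz, rfl⟩, rfl⟩
      exact ⟨rest r hJ z, ⟨z, hz, rfl⟩, rfl⟩
    · rintro ⟨y, ⟨z, hz, rfl⟩, rfl⟩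
      exact ⟨z, ⟨z, hz, rfl⟩, rfl⟩
  rw [h2] at h1
  exact h1

theorem rest_mem_aut {B : Set (Finset α)} {J : Finset α} (r : Equiv.Perm α)
    (hJ : ∀ x, r x ∉ J ↔ x ∉ J) (hJi : J.image r = J) (hr : r ∈ setSystemAut B) :
    rest r hJ ∈ setSystemAut (lines J B) := by
  have hr1 : ∀ b ∈ B, b.image r ∈ B := by
    intro b hb
    have : b.image r ∈ (fun b : Finset α => b.image r) '' B := Set.mem_image_of_mem _ hb
    rw [mem_aut_iff.mp hr] at this
    exact this
  obtain ⟨s, hs⟩ : ∃ s : Equiv.Perm α, s = r⁻¹ := ⟨_, rfl⟩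
  have hrs : ∀ x, r (s x) = x := by
    intro x
    rw [hs]
    exact Equiv.apply_symm_apply r x
  have hsr : ∀ x, s (r x) = x := by
    intro x
    rw [hs]
    exact Equiv.symm_apply_apply r x
  have hri : s ∈ setSystemAut B := by rw [hs]; exact Subgroup.inv_mem _ hr
  have hr2 : ∀ b ∈ B, b.image s ∈ B := by
    intro b hb
    have : b.image s ∈ (fun b : Finset α => b.image s) '' B := Set.mem_image_of_mem _ hb
    rw [mem_aut_iff.mp hri] at this
    exact this
  have hJ' : ∀ x, s x ∉ J ↔ x ∉ J := by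
    intro x
    have := hJ (s x)
    rw [hrs] at this
    exact this.symm
  have hJi' : J.image s = J := by
    conv_lhs => rw [← hJi]
    rw [Finset.image_image]
    have : (s : α → α) ∘ r = id := by funext x; exact hsr x
    rw [this, Finset.image_id]
  rw [mem_aut_iff]
  apply Set.Subset.antisymm
  · rintro c ⟨l, hl, rfl⟩
    exact rest_image_mem r hJ hJi hr1 hl
  · intro l hl
    refine ⟨l.image (rest s hJ'), rest_image_mem s hJ' hJi' hr2 hl, ?_⟩
    show (l.image (rest s hJ')).image (rest r hJ) = l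
    rw [Finset.image_image]
    have h1 : (rest r hJ : Co J → Co J) ∘ (rest s hJ') = id := by
      funext x
      apply Subtype.ext
      show r (s x.1) = x.1
      exact hrs _
    rw [h1, Finset.image_id]

end General

/-- The point `p` of the dodecad `d`, as a one-element set of points of `d`. -/
def Jp {d : Finset GolayPt} {p : GolayPt} (hp : p ∈ d) : Finset {q : GolayPt // q ∈ d} :=
  {⟨p, hp⟩}

theorem der_steiner {d : Finset GolayPt} (hd : d ∈ dodecads) {p : GolayPt} (hp : p ∈ d) :
    IsSteinerSystem 4 5 (lines (Jp hp) (Hex d)) :=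
  derived (j := 1) (Finset.card_singleton _) (hex_steiner hd)

theorem card_der {d : Finset GolayPt} (hd : d ∈ dodecads) {p : GolayPt} (hp : p ∈ d) :
    Fintype.card (Co (Jp hp)) = 11 := by
  rw [card_co, card_pts hd, Jp, Finset.card_singleton]

theorem stab_smul' {d : Finset GolayPt} {p : GolayPt}
    (g : ↥(MulAction.stabilizer M24 d ⊓ MulAction.stabilizer M24 p)) :
    ((g : M24) : Equiv.Perm GolayPt) • d = d :=
  MulAction.mem_stabilizer_iff.mp g.2.1

theorem stab_pt {d : Finset GolayPt} {p : GolayPt}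
    (g : ↥(MulAction.stabilizer M24 d ⊓ MulAction.stabilizer M24 p)) :
    ((g : M24) : Equiv.Perm GolayPt) p = p :=
  MulAction.mem_stabilizer_iff.mp g.2.2

theorem res_fix {d : Finset GolayPt} {p : GolayPt} (hp : p ∈ d) {g : Equiv.Perm GolayPt}
    (hg : g • d = d) (hgp : g p = p) (x : {q : GolayPt // q ∈ d}) :
    res g hg x ∉ Jp hp ↔ x ∉ Jp hp := by
  simp only [Jp, Finset.mem_singleton]
  constructor
  · intro h hx
    apply h
    subst hx
    exact Subtype.ext hgp
  · intro h hx
    apply h
    apply Subtype.ext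
    have h1 : g x.1 = p := congrArg Subtype.val hx
    show x.1 = p
    rw [← hgp] at h1
    exact g.injective h1

theorem res_img {d : Finset GolayPt} {p : GolayPt} (hp : p ∈ d) {g : Equiv.Perm GolayPt}
    (hg : g • d = d) (hgp : g p = p) : (Jp hp).image (res g hg) = Jp hp := by
  rw [Jp, Finset.image_singleton]
  congr 1
  exact Subtype.ext hgp

/-- The restriction homomorphism. -/
def ψ {d : Finset GolayPt} {p : GolayPt} (hp : p ∈ d) :
    ↥(MulAction.stabilizer M24 d ⊓ MulAction.stabilizer M24 p) →*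
      setSystemAut (lines (Jp hp) (Hex d)) where
  toFun g := ⟨rest (res ((g : M24) : Equiv.Perm GolayPt) (stab_smul' g))
      (res_fix hp (stab_smul' g) (stab_pt g)),
    rest_mem_aut _ _ (res_img hp (stab_smul' g) (stab_pt g)) (res_mem_aut (g : M24).2 _)⟩
  map_one' := by
    apply Subtype.ext
    ext x
    rfl
  map_mul' a b := by
    apply Subtype.ext
    ext x
    rfl

theorem ψ_injective {d : Finset GolayPt} (hd : d ∈ dodecads) {p : GolayPt} (hp : p ∈ d) :
    Function.Injective (ψ hp) := by
  rw [injective_iff_map_eq_one]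
  intro g hg
  have h1 : ((g : M24) : Equiv.Perm GolayPt) = 1 := by
    apply Cfsg.Agent.Lib.Helper7.M12Simple.m12_faithful hd (g : M24).2 (stab_smul' g)
    intro x hx
    by_cases hxp : x = p
    · rw [hxp]; exact stab_pt g
    · have hxJ : (⟨x, hx⟩ : {q : GolayPt // q ∈ d}) ∉ Jp hp := by
        simp only [Jp, Finset.mem_singleton]
        intro h
        exact hxp (congrArg Subtype.val h)
      have h2 := congrArg (fun a : setSystemAut (lines (Jp hp) (Hex d)) =>
        ((((a : Equiv.Perm (Co (Jp hp))) ⟨⟨x, hx⟩, hxJ⟩ : Co (Jp hp)) :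
          {q : GolayPt // q ∈ d}) : GolayPt)) hg
      exact h2
  apply Subtype.ext
  apply Subtype.ext
  exact h1

theorem aut_der_card {d : Finset GolayPt} (hd : d ∈ dodecads) {p : GolayPt} (hp : p ∈ d) :
    Nat.card (setSystemAut (lines (Jp hp) (Hex d))) = 7920 := by
  rw [(Cfsg.Agent.Lib.Helper86.St11.lbl (card_der hd hp) (der_steiner hd hp)).card_aut
    (Cfsg.Agent.Lib.Helper86.St11.rigid (card_der hd hp) (der_steiner hd hp))]
  decide

theorem aut_der_simple {d : Finset GolayPt} (hd : d ∈ dodecads) {p : GolayPt} (hp : p ∈ d) :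
    IsSimpleGroup (setSystemAut (lines (Jp hp) (Hex d))) := by
  have := Cfsg.Agent.S0388.result d hd p hp
  have hbij : Function.Bijective (ψ hp) :=
    (Nat.bijective_iff_injective_and_card _).mpr
      ⟨ψ_injective hd hp, by rw [Cfsg.Agent.S0387.result d hd p hp, aut_der_card hd hp]⟩
  exact (MulEquiv.ofBijective (ψ hp) hbij).isSimpleGroup_congr.mp inferInstance

theorem aut_simple {α : Type*} [Fintype α] [DecidableEq α] (hα : Fintype.card α = 11)
    {B : Set (Finset α)} (hB : IsSteinerSystem 4 5 B) : IsSimpleGroup (setSystemAut B) := by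
  have hd := Cfsg.Agent.Lib.Helper7.M12Core.mk_d0_mem
  have hcard : (Cfsg.Agent.Lib.Helper7.GolayBase.mk Cfsg.Agent.Lib.Helper7.M12Core.d0).card = 12 :=
    hd.2
  obtain ⟨p, hp⟩ : ∃ p, p ∈ Cfsg.Agent.Lib.Helper7.GolayBase.mk Cfsg.Agent.Lib.Helper7.M12Core.d0 := by
    apply Finset.card_pos.mp
    rw [hcard]; norm_num
  obtain ⟨e, he⟩ := (Cfsg.Agent.Lib.Helper86.St11.lbl hα hB).setSystemIso
    (Cfsg.Agent.Lib.Helper86.St11.lbl (card_der hd hp) (der_steiner hd hp))
  have := aut_der_simple hd hp
  exact (autCongr e he).isSimpleGroup_congr.mpr inferInstance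

end Cfsg.Agent.Lib.Helper86.St11Simple
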