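import Cfsg.Agent.Lib.Helper86.CenBData
import Cfsg.Prelude.Def_SporadicCombinatorics

set_option autoImplicit false

/-!
# The centraliser in `M24` of a fixed-point-free involution

For the representative `gB`: the centraliser has order 7680, is transitive on the 24 points and
preserves the sextet `S0` (which `gB` preserves too).
-/

namespace Cfsg.Agent.Lib.Helper86.CenB

open Cfsg Cfsg.Agent.Lib.Helper7.GolayBase Cfsg.Agent.Lib.Helper7.GolayCode
  Cfsg.Agent.Lib.Helper7.GolayRigid Cfsg.Agent.Lib.Helper7.GolayPerm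
  Cfsg.Agent.Lib.Helper7.ChainGen Cfsg.Agent.Lib.Helper86.TabGrp
  Cfsg.Agent.Lib.Helper86.TabMathieu Cfsg.Agent.Lib.Helper86.ChainEnum
  Cfsg.Agent.Lib.Helper86.CenTab Cfsg.Agent.Lib.Helper86.M24Inv
  Cfsg.Agent.Lib.Helper86.M24Inv2 Cfsg.Agent.Lib.Helper86.CenBData
open scoped Pointwise

theorem rep_gB_inv : Rep gB⁻¹ zB := exB.choose_spec.2.2

theorem hP0 : ∀ g ∈ Cen gB ⊓ FixL [], ∀ c ∈ ([] : List Nat), Pres g c := by
  intro g _ c hc
  exact absurd hc List.not_mem_nil

theorem hP1 : ∀ g ∈ Cen gB ⊓ FixL [0], ∀ c ∈ [1, 256, atom Om 0], Pres g c := by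
  intro g hg c hc
  have hg0 : g (pt 0) = pt 0 := hg.2 0 (by simp)
  have hcomm := (mem_Cen.mp hg.1).2
  simp only [List.mem_cons, List.not_mem_nil, or_false] at hc
  rcases hc with rfl | rfl | rfl
  · exact pres_single (i := 0) (by decide) hg0
  · exact pres_single (i := 8) (by decide)
      (fix_img_idx rep_gB hcomm (by decide) (by decide +kernel) hg0)
  · obtain ⟨h1, h2⟩ := closed_Cen rep_gB_inv Om_ok hg.1
    exact pres_atom h1 h2 (by decide) hg0

theorem stab_eq : Cen gB ⊓ FixL [3, 0] = Subgroup.centralizer {gB} ⊓ (M24 ⊓ FixL F4) := by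
  ext g
  simp only [Subgroup.mem_inf]
  constructor
  · rintro ⟨hc, hf⟩
    have hcomm := (mem_Cen.mp hc).2
    have h0 : g (pt 0) = pt 0 := hf 0 (by simp)
    have h3 : g (pt 3) = pt 3 := hf 3 (by simp)
    have h8 : g (pt 8) = pt 8 := fix_img_idx rep_gB hcomm (by decide) (by decide +kernel) h0
    have h16 : g (pt 16) = pt 16 := fix_img_idx rep_gB hcomm (by decide) (by decide +kernel) h3
    refine ⟨hc.2, hc.1, ?_⟩
    intro f hf'
    simp only [F4, List.mem_cons, List.not_mem_nil, or_false] at hf'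
    rcases hf' with rfl | rfl | rfl | rfl
    · exact h16
    · exact h3
    · exact h8
    · exact h0
  · rintro ⟨hc, hm, hf⟩
    refine ⟨⟨hm, hc⟩, ?_⟩
    intro f hf'
    simp only [List.mem_cons, List.not_mem_nil, or_false] at hf'
    rcases hf' with rfl | rfl
    · exact hf 3 (by simp [F4])
    · exact hf 0 (by simp [F4])

theorem card_stab : Nat.card ↥(Cen gB ⊓ FixL [3, 0]) = 160 := by
  rw [stab_eq, card_filter_inf hE4 (commT zB), count4]
  intro g _
  rw [Subgroup.mem_centralizer_iff]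
  simp only [Set.mem_singleton_iff, forall_eq]
  rw [← commT_iff rep_gB (rep_tabOf g)]
  exact eq_comm

/-- The centraliser of `gB` in `M24` has order 7680. -/
theorem card_CenB : Nat.card ↥(Cen gB) = 7680 := by
  have e0 := card_level hW0 hP0 lvl0
  have e1 := card_level hW1 hP1 lvl1
  rw [card_stab] at e1
  rw [e1] at e0
  have h2 : Cen gB ⊓ FixL [] = Cen gB := by rw [FixL_nil, inf_top_eq]
  rw [h2] at e0
  rw [e0]
  rfl

/-- The centraliser of `gB` in `M24` is transitive. -/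
theorem trans_CenB (p q : GolayPt) : ∃ c ∈ Cen gB, c p = q := by
  have key : ∀ r : GolayPt, ∃ c ∈ Cen gB, c (pt 0) = r := by
    intro r
    obtain ⟨g, hg, hgr⟩ := exists_of_lvl hW0 lvl0 (q := idx r) (idx_lt r)
      (by
        have : atom [] 0 = full := rfl
        rw [this]
        exact full_testBit (idx_lt r))
      List.not_mem_nil
    exact ⟨g, hg.1, by rw [hgr, pt_idx]⟩
  obtain ⟨c1, hc1, h1⟩ := key p
  obtain ⟨c2, hc2, h2⟩ := key q
  refine ⟨c2 * c1⁻¹, (Cen gB).mul_mem hc2 ((Cen gB).inv_mem hc1), ?_⟩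
  show c2 (c1⁻¹ p) = q
  rw [← h1]
  simp [h2]

/-! ### The sextet -/

theorem mk_or (a b : Nat) : mk (a ||| b) = mk a ∪ mk b := by
  ext p
  simp only [mem_mk, Finset.mem_union, Nat.testBit_or, Bool.or_eq_true]

/-- The sextet preserved by the centraliser of `gB`. -/
def S0 : Finset (Finset GolayPt) := (tetL.map mk).toFinset

theorem mem_S0 {s : Finset GolayPt} : s ∈ S0 ↔ ∃ m ∈ tetL, mk m = s := by
  simp [S0]

theorem tet_spec {m : Nat} (hm : m ∈ tetL) : popc m = 4 ∧ m < 2 ^ 24 ∧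
    ∀ m' ∈ tetL, m = m' ∨ (m ||| m') ∈ octadList := by
  have h := List.all_eq_true.mp tet_sextet m hm
  simp only [Bool.and_eq_true, beq_iff_eq, decide_eq_true_eq, List.all_eq_true,
    Bool.or_eq_true] at h
  refine ⟨h.1.1, h.1.2, fun m' hm' => ?_⟩
  rcases h.2 m' hm' with h1 | h1
  · exact Or.inl h1
  · exact Or.inr (mem_octadList.mpr ⟨inCode_sound h1.1, h1.2⟩)

theorem card_S0 : S0.card = 6 := by
  unfold S0
  rw [List.toFinset_card_of_nodup]
  · rw [List.length_map, tetL_eq]; rfl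
  · apply List.Nodup.map_on
    · intro x hx y hy hxy
      exact mk_injOn (tet_spec hx).2.1 (tet_spec hy).2.1 hxy
    · rw [tetL_eq]; decide

theorem S0_mem : S0 ∈ sextets := by
  refine ⟨card_S0, ?_, ?_⟩
  · intro t ht
    obtain ⟨m, hm, rfl⟩ := mem_S0.mp ht
    rw [card_mk, (tet_spec hm).1]
  · intro t ht u hu hne
    obtain ⟨m, hm, rfl⟩ := mem_S0.mp ht
    obtain ⟨m', hm', rfl⟩ := mem_S0.mp hu
    rcases (tet_spec hm).2.2 m' hm' with h | h
    · exact absurd (by rw [h]) hne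
    · rw [← mk_or]
      exact (mem_octads_iff _).mpr ⟨_, h, rfl⟩

theorem smul_S0 {c : Equiv.Perm GolayPt} (hc : c ∈ Cen gB) : c • S0 = S0 := by
  obtain ⟨h1, h2⟩ := closed_Cen rep_gB_inv Om_ok hc
  apply Finset.eq_of_subset_of_card_le
  · intro s hs
    obtain ⟨s', hs', rfl⟩ := Finset.mem_smul_finset.mp hs
    obtain ⟨m, hm, rfl⟩ := mem_S0.mp hs'
    unfold tetL at hm
    rw [List.mem_map] at hm
    obtain ⟨i, hi, rfl⟩ := hm
    have hi24 : i < 24 := by
      have : ∀ j ∈ tetReps, j < 24 := by decide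
      exact this i hi
    have e := smul_mk_atom h1 h2 (pt i)
    rw [idx_pt hi24] at e
    rw [e]
    apply mem_S0.mpr
    refine ⟨_, ?_, rfl⟩
    have := List.all_eq_true.mp tet_cover (idx (c (pt i))) (List.mem_range.mpr (idx_lt _))
    exact List.contains_iff_mem.mp this
  · rw [Finset.card_smul_finset]

theorem gB_mem_Cen : gB ∈ Cen gB := mem_Cen.mpr ⟨gB_mem, rfl⟩

theorem smul_mem_sextets {g : Equiv.Perm GolayPt} (hg : g ∈ M24) {S : Finset (Finset GolayPt)}
    (hS : S ∈ sextets) : g • S ∈ sextets := by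
  obtain ⟨h1, h2, h3⟩ := hS
  refine ⟨by rw [Finset.card_smul_finset]; exact h1, ?_, ?_⟩
  · intro t ht
    obtain ⟨t', ht', rfl⟩ := Finset.mem_smul_finset.mp ht
    rw [Finset.card_smul_finset]
    exact h2 t' ht'
  · intro t ht u hu hne
    obtain ⟨t', ht', rfl⟩ := Finset.mem_smul_finset.mp ht
    obtain ⟨u', hu', rfl⟩ := Finset.mem_smul_finset.mp hu
    have hne' : t' ≠ u' := fun h => hne (by rw [h])
    rw [← Finset.smul_finset_union]
    exact Cfsg.Agent.Lib.Helper7.M24Octad.smul_mem_octads hg (h3 t' ht' u' hu' hne')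

end Cfsg.Agent.Lib.Helper86.CenB
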