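import Mathlib
import Cfsg.Agent.Lib.Helper86.FSSimple

set_option autoImplicit false

/-!
# Simplicity of `F_S(G)` from data on one explicit Sylow subgroup

If one subgroup `S₀` of the finite group `G` has the order of a Sylow `p`-subgroup, is
self-normalizing, is nontrivial, and every nontrivial subgroup of `S₀` closed under
`G`-conjugation inside `S₀` is `S₀` itself, then for every Sylow `p`-subgroup `S` of `G` the
fusion system `F_S(G)` is simple and `N_G(S) = S`.
-/

namespace Cfsg.Agent.Lib.Helper86.SylowSimple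

open Cfsg Cfsg.Agent.Lib.Helper86.FSSimple

variable {G : Type*} [Group G]

theorem simple_of_selfNormalizing [Finite G] (p : ℕ) [Fact p.Prime] (S : Sylow p G)
    (hS1 : (S : Subgroup G) ≠ ⊥)
    (hN : Subgroup.normalizer ((S : Subgroup G) : Set G) ≤ (S : Subgroup G))
    (hcl : ∀ T : Subgroup G, T ≤ (S : Subgroup G) → T ≠ ⊥ →
      (∀ x ∈ T, ∀ g : G, g * x * g⁻¹ ∈ (S : Subgroup G) → g * x * g⁻¹ ∈ T) →
      (S : Subgroup G) ≤ T) :
    (groupFusionSystem (S : Subgroup G)).IsSimple p := by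
  apply simple_of_aut_pGroup p S hS1
  · intro T hT
    by_cases hT0 : T = ⊥
    · exact Or.inl hT0
    · exact Or.inr (le_antisymm hT.1
        (hcl T hT.1 hT0 (fun x hx g hg => stronglyClosed_conj hT hx g hg)))
  · intro n hn
    have hnS : n ∈ (S : Subgroup G) := hN hn
    obtain ⟨k, hk⟩ := S.isPGroup' ⟨n, hnS⟩
    refine ⟨k, fun x _ => ?_⟩
    have h1 : n ^ p ^ k = 1 := by
      have := congrArg Subtype.val hk
      simpa using this
    rw [h1]
    simp

theorem mem_map_conj (S₀ : Subgroup G) (g x : G) :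
    x ∈ S₀.map (MulAut.conj g).toMonoidHom ↔ g⁻¹ * x * g ∈ S₀ := by
  constructor
  · rintro ⟨y, hy, rfl⟩
    have : g⁻¹ * (MulAut.conj g).toMonoidHom y * g = y := by
      show g⁻¹ * (g * y * g⁻¹) * g = y
      group
    rw [this]
    exact hy
  · intro h
    refine ⟨g⁻¹ * x * g, h, ?_⟩
    show g * (g⁻¹ * x * g) * g⁻¹ = x
    group

theorem exists_conj_of_card [Finite G] (p : ℕ) [Fact p.Prime] (S₀ : Subgroup G)
    (hcard : Nat.card S₀ = p ^ (Nat.card G).factorization p) (S : Sylow p G) :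
    ∃ g : G, (S : Subgroup G) = S₀.map (MulAut.conj g).toMonoidHom := by
  obtain ⟨g, hg⟩ := MulAction.exists_smul_eq G (Sylow.ofCard S₀ hcard) S
  refine ⟨g, ?_⟩
  rw [← hg, Sylow.coe_subgroup_smul, Subgroup.pointwise_smul_def]
  rfl

theorem normalizer_map_conj_le (S₀ : Subgroup G) (g : G)
    (hN : Subgroup.normalizer (S₀ : Set G) ≤ S₀) :
    Subgroup.normalizer ((S₀.map (MulAut.conj g).toMonoidHom : Subgroup G) : Set G) ≤
      S₀.map (MulAut.conj g).toMonoidHom := by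
  intro n hn
  rw [mem_map_conj]
  apply hN
  rw [Subgroup.mem_normalizer_iff] at hn ⊢
  intro h
  have h1 := hn (g * h * g⁻¹)
  rw [mem_map_conj, mem_map_conj] at h1
  have e1 : g⁻¹ * (g * h * g⁻¹) * g = h := by group
  have e2 : g⁻¹ * (n * (g * h * g⁻¹) * n⁻¹) * g = g⁻¹ * n * g * h * (g⁻¹ * n * g)⁻¹ := by group
  rw [e1, e2] at h1
  exact h1

theorem closed_map_conj (S₀ : Subgroup G) (g : G)
    (hcl : ∀ T : Subgroup G, T ≤ S₀ → T ≠ ⊥ →
      (∀ x ∈ T, ∀ k : G, k * x * k⁻¹ ∈ S₀ → k * x * k⁻¹ ∈ T) → S₀ ≤ T)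
    (T : Subgroup G) (hT : T ≤ S₀.map (MulAut.conj g).toMonoidHom) (hT0 : T ≠ ⊥)
    (hTc : ∀ x ∈ T, ∀ k : G, k * x * k⁻¹ ∈ S₀.map (MulAut.conj g).toMonoidHom →
      k * x * k⁻¹ ∈ T) :
    S₀.map (MulAut.conj g).toMonoidHom ≤ T := by
  -- the subgroup `g⁻¹ T g`
  let T₀ : Subgroup G := T.map (MulAut.conj g⁻¹).toMonoidHom
  have hmem : ∀ x, x ∈ T₀ ↔ g * x * g⁻¹ ∈ T := by
    intro x
    have := mem_map_conj T g⁻¹ x
    rw [inv_inv] at this
    exact this
  have h1 : T₀ ≤ S₀ := by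
    intro x hx
    have := hT ((hmem x).mp hx)
    rw [mem_map_conj] at this
    have e : g⁻¹ * (g * x * g⁻¹) * g = x := by group
    rwa [e] at this
  have h2 : T₀ ≠ ⊥ := by
    intro h0
    apply hT0
    rw [eq_bot_iff]
    intro x hx
    have hx' : g⁻¹ * x * g ∈ T₀ := by
      rw [hmem]
      have e : g * (g⁻¹ * x * g) * g⁻¹ = x := by group
      rwa [e]
    rw [h0, Subgroup.mem_bot] at hx'
    rw [Subgroup.mem_bot]
    have e : x = g * (g⁻¹ * x * g) * g⁻¹ := by group
    rw [e, hx']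
    group
  have h3 : ∀ x ∈ T₀, ∀ k : G, k * x * k⁻¹ ∈ S₀ → k * x * k⁻¹ ∈ T₀ := by
    intro x hx k hk
    rw [hmem]
    have e : g * (k * x * k⁻¹) * g⁻¹ = (g * k * g⁻¹) * (g * x * g⁻¹) * (g * k * g⁻¹)⁻¹ := by
      group
    rw [e]
    apply hTc _ ((hmem x).mp hx)
    rw [← e, mem_map_conj]
    have e' : g⁻¹ * (g * (k * x * k⁻¹) * g⁻¹) * g = k * x * k⁻¹ := by group
    rwa [e']
  have h4 := hcl T₀ h1 h2 h3
  intro x hx
  rw [mem_map_conj] at hx
  have := (hmem _).mp (h4 hx)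
  have e : g * (g⁻¹ * x * g) * g⁻¹ = x := by group
  rwa [e] at this

/-- Simplicity of `F_S(G)` for every Sylow `p`-subgroup, from data on one subgroup `S₀` of
Sylow order. -/
theorem simple_of_data [Finite G] (p : ℕ) [Fact p.Prime] (S₀ : Subgroup G)
    (hcard : Nat.card S₀ = p ^ (Nat.card G).factorization p) (hne : S₀ ≠ ⊥)
    (hN : Subgroup.normalizer (S₀ : Set G) ≤ S₀)
    (hcl : ∀ T : Subgroup G, T ≤ S₀ → T ≠ ⊥ →
      (∀ x ∈ T, ∀ k : G, k * x * k⁻¹ ∈ S₀ → k * x * k⁻¹ ∈ T) → S₀ ≤ T)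
    (S : Sylow p G) : (groupFusionSystem (S : Subgroup G)).IsSimple p := by
  obtain ⟨g, hg⟩ := exists_conj_of_card p S₀ hcard S
  apply simple_of_selfNormalizing p S
  · rw [hg]
    intro h0
    apply hne
    rw [eq_bot_iff]
    intro x hx
    have : (MulAut.conj g).toMonoidHom x ∈ S₀.map (MulAut.conj g).toMonoidHom :=
      Subgroup.mem_map_of_mem _ hx
    rw [h0, Subgroup.mem_bot] at this
    rw [Subgroup.mem_bot]
    exact (MulAut.conj g).injective (by rw [map_one]; exact this)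
  · rw [hg]
    exact normalizer_map_conj_le S₀ g hN
  · rw [hg]
    exact closed_map_conj S₀ g hcl

/-- Every Sylow `p`-subgroup is self-normalizing if one subgroup of Sylow order is. -/
theorem normalizer_eq_of_data [Finite G] (p : ℕ) [Fact p.Prime] (S₀ : Subgroup G)
    (hcard : Nat.card S₀ = p ^ (Nat.card G).factorization p)
    (hN : Subgroup.normalizer (S₀ : Set G) ≤ S₀) (S : Sylow p G) :
    Subgroup.normalizer ((S : Subgroup G) : Set G) = (S : Subgroup G) := by
  obtain ⟨g, hg⟩ := exists_conj_of_card p S₀ hcard S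
  apply le_antisymm
  · rw [hg]
    exact normalizer_map_conj_le S₀ g hN
  · exact Subgroup.le_normalizer

/-- The `p`-part of the order, for a group of order `p ^ k * m` with `p ∤ m`. -/
theorem factorization_of_card (p k m n : ℕ) [Fact p.Prime] (h : n = p ^ k * m) (hm : ¬ p ∣ m) :
    n.factorization p = k := by
  have hp : p.Prime := Fact.out
  have hm0 : m ≠ 0 := by
    rintro rfl
    exact hm (dvd_zero p)
  rw [h, Nat.factorization_def _ hp,
    padicValNat.mul (pow_ne_zero _ hp.ne_zero) hm0, padicValNat.prime_pow,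
    padicValNat.eq_zero_of_not_dvd hm, add_zero]

end Cfsg.Agent.Lib.Helper86.SylowSimple
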