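import Cfsg.Agent.Lib.Helper86.TabMathieu
import Cfsg.Agent.Lib.Helper86.SylowSimple

set_option autoImplicit false

/-!
# Conjugacy class representatives from table certificates

* `conj_into`: an element of prime power order of `K` is `K`-conjugate into any subgroup `H`
  of Sylow order.
* `classOK` / `class_enum`: a certificate that every nontrivial element `g` with `g ^ n = 1` of
  an enumerated subgroup is conjugate in `K` to one of a list of representative tables.
-/

namespace Cfsg.Agent.Lib.Helper86.ClassTab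

open Cfsg Cfsg.Agent.Lib.Helper7.GolayBase Cfsg.Agent.Lib.Helper7.GolayPerm
  Cfsg.Agent.Lib.Helper86.TabGrp Cfsg.Agent.Lib.Helper86.SylowSimple

/-- An element of prime power order is conjugate into a subgroup of Sylow order. -/
theorem conj_into (p : ℕ) [Fact p.Prime] {K H : Subgroup (Equiv.Perm GolayPt)} (hHK : H ≤ K)
    (hcard : Nat.card H = p ^ (Nat.card K).factorization p)
    {g : Equiv.Perm GolayPt} (hg : g ∈ K) {n : ℕ} (hord : orderOf g = p ^ n) :
    ∃ k ∈ K, k * g * k⁻¹ ∈ H := by
  have hord' : orderOf (⟨g, hg⟩ : K) = p ^ n := by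
    rw [← hord]; exact Subgroup.orderOf_mk g hg
  have hpg : IsPGroup p (Subgroup.zpowers (⟨g, hg⟩ : K)) :=
    IsPGroup.of_card (n := n) (by rw [Nat.card_zpowers, hord'])
  obtain ⟨Q, hQ⟩ := hpg.exists_le_sylow
  have hc : Nat.card (H.subgroupOf K) = p ^ (Nat.card K).factorization p := by
    rw [card_subgroupOf hHK, hcard]
  obtain ⟨k, hk⟩ := exists_conj_of_card p (H.subgroupOf K) hc Q
  have hmem : (⟨g, hg⟩ : K) ∈ (Q : Subgroup K) := hQ (Subgroup.mem_zpowers _)
  rw [hk, mem_map_conj] at hmem
  refine ⟨(k : Equiv.Perm GolayPt)⁻¹, K.inv_mem k.2, ?_⟩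
  have h1 := Subgroup.mem_subgroupOf.mp hmem
  simpa using h1

/-- Iterating a table. -/
def iterT (t : List Nat) : Nat → Nat → Nat
  | 0, i => i
  | n + 1, i => t.getD (iterT t n i) 0

theorem iterT_spec {g : Equiv.Perm GolayPt} {t : List Nat} (hr : Rep g t) {i : Nat}
    (hi : i < 24) : ∀ n : Nat, iterT t n i = idx ((g ^ n) (pt i))
  | 0 => by simp [iterT, idx_pt hi]
  | n + 1 => by
    rw [iterT, iterT_spec hr hi n, hr.2, pow_succ', Equiv.Perm.mul_apply]

/-- One row of a class certificate for the table `t`: either `t` is the identity, or an index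
witnesses that the `n`-th power of `t` is not the identity, or a conjugating table (with its
inverse) takes `t` to one of the representatives. -/
def rowOK (f : List Nat → List Nat → Bool) (n : Nat) (reps : List (List Nat)) (t : List Nat)
    (row : Nat × List Nat × List Nat) : Bool :=
  t == idT ||
    (if row.2.1.isEmpty then decide (row.1 < 24) && iterT t n row.1 != row.1
      else f row.2.1 row.2.2 && reps.contains (tmul (tmul row.2.1 t) row.2.2))

/-- A class certificate: one row for each table. -/
def classOK (f : List Nat → List Nat → Bool) (n : Nat) (reps : List (List Nat)) :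
    List (List Nat) → List (Nat × List Nat × List Nat) → Bool
  | [], _ => true
  | _ :: _, [] => false
  | t :: ts, row :: rows => rowOK f n reps t row && classOK f n reps ts rows

theorem class_sound {K : Subgroup (Equiv.Perm GolayPt)} {f : List Nat → List Nat → Bool}
    (hf : ∀ t t', f t t' = true → ∃ g ∈ K, Rep g t ∧ Rep g⁻¹ t') (n : Nat)
    (reps : List (List Nat)) :
    ∀ (L : List (List Nat)) (rows : List (Nat × List Nat × List Nat)),
      classOK f n reps L rows = true → ∀ t ∈ L, ∀ g : Equiv.Perm GolayPt, Rep g t →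
        g ^ n = 1 → g ≠ 1 → ∃ k ∈ K, ∃ r ∈ reps, Rep (k * g * k⁻¹) r
  | [], _, _ => by intro t ht; exact absurd ht List.not_mem_nil
  | _ :: _, [], h => by simp [classOK] at h
  | t :: ts, row :: rows, h => by
    simp only [classOK, Bool.and_eq_true] at h
    intro t' ht' g hr hgn hg1
    rcases List.mem_cons.mp ht' with rfl | h'
    · have h1 := h.1
      simp only [rowOK, Bool.or_eq_true, beq_iff_eq] at h1
      rcases h1 with h1 | h1
      · subst h1
        exact absurd hr.eq_one hg1
      · by_cases hc : row.2.1.isEmpty = true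
        · rw [if_pos hc] at h1
          simp only [Bool.and_eq_true, decide_eq_true_eq, bne_iff_ne, ne_eq] at h1
          exfalso
          apply h1.2
          rw [iterT_spec hr h1.1, hgn, Equiv.Perm.one_apply, idx_pt h1.1]
        · rw [if_neg hc] at h1
          simp only [Bool.and_eq_true, List.contains_iff_mem] at h1
          obtain ⟨k, hk, hrk, hrk'⟩ := hf _ _ h1.1
          exact ⟨k, hk, _, h1.2, (hrk.mul hr).mul hrk'⟩
    · exact class_sound hf n reps ts rows h.2 t' h' g hr hgn hg1

/-- Every nontrivial element with `g ^ n = 1` of an enumerated subgroup is conjugate to a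
representative. -/
theorem class_enum {H K : Subgroup (Equiv.Perm GolayPt)} {L : List (List Nat)} (hE : Enum H L)
    {f : List Nat → List Nat → Bool}
    (hf : ∀ t t', f t t' = true → ∃ g ∈ K, Rep g t ∧ Rep g⁻¹ t') (n : Nat)
    (reps : List (List Nat)) (rows : List (Nat × List Nat × List Nat))
    (h : classOK f n reps L rows = true) {g : Equiv.Perm GolayPt} (hg : g ∈ H)
    (hgn : g ^ n = 1) (hg1 : g ≠ 1) : ∃ k ∈ K, ∃ r ∈ reps, Rep (k * g * k⁻¹) r := by
  obtain ⟨t, ht, hr⟩ := hE.cov g hg
  exact class_sound hf n reps L rows h t ht g hr hgn hg1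

/-- Every element of order `p` of `K` is conjugate to a representative, given a class
certificate for an enumerated subgroup of Sylow order. -/
theorem class_sylow (p : ℕ) [Fact p.Prime] {H K : Subgroup (Equiv.Perm GolayPt)}
    {L : List (List Nat)} (hE : Enum H L) (hHK : H ≤ K)
    (hcard : Nat.card H = p ^ (Nat.card K).factorization p)
    {f : List Nat → List Nat → Bool}
    (hf : ∀ t t', f t t' = true → ∃ g ∈ K, Rep g t ∧ Rep g⁻¹ t')
    (reps : List (List Nat)) (rows : List (Nat × List Nat × List Nat))
    (h : classOK f p reps L rows = true) {g : Equiv.Perm GolayPt} (hg : g ∈ K)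
    (hord : orderOf g = p) : ∃ k ∈ K, ∃ r ∈ reps, Rep (k * g * k⁻¹) r := by
  have hp : p.Prime := Fact.out
  obtain ⟨k₁, hk₁, hmem⟩ := conj_into p hHK hcard hg (n := 1) (by rw [hord, pow_one])
  have hpow : (k₁ * g * k₁⁻¹) ^ p = 1 := by
    rw [conj_pow, ← hord, pow_orderOf_eq_one, mul_one, mul_inv_cancel]
  have hne : k₁ * g * k₁⁻¹ ≠ 1 := by
    intro h1
    have h2 : g = 1 := by
      have : g = k₁⁻¹ * (k₁ * g * k₁⁻¹) * k₁ := by group
      rw [this, h1]; group
    rw [h2, orderOf_one] at hord
    exact hp.one_lt.ne hord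
  obtain ⟨k₂, hk₂, r, hr, hrep⟩ := class_enum hE hf p reps rows h hmem hpow hne
  refine ⟨k₂ * k₁, K.mul_mem hk₂ hk₁, r, hr, ?_⟩
  have e : k₂ * k₁ * g * (k₂ * k₁)⁻¹ = k₂ * (k₁ * g * k₁⁻¹) * k₂⁻¹ := by group
  rw [e]
  exact hrep

end Cfsg.Agent.Lib.Helper86.ClassTab
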