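import Cfsg.Agent.Lib.Helper86.Syl3Data
import Cfsg.Agent.Lib.Helper86.ClassTab
import Cfsg.Agent.Lib.Helper86.CenB

set_option autoImplicit false

/-!
# Elements of order 3 of `M24`

* `ord3_fix`: an element of order 3 of `M24` has exactly six fixed points or none.
* `exists_fixed_of_not_dvd`: a permutation of prime power order fixes a point of an invariant
  set whose cardinality is prime to the prime.
* `ord3_cenB`: an element of order 3 commuting with the fixed-point-free involution `gB` has no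
  fixed point.
-/

namespace Cfsg.Agent.Lib.Helper86.Ord3

open Cfsg Cfsg.Agent.Lib.Helper7.GolayBase Cfsg.Agent.Lib.Helper7.GolayPerm
  Cfsg.Agent.Lib.Helper86.TabGrp Cfsg.Agent.Lib.Helper86.TabMathieu
  Cfsg.Agent.Lib.Helper86.ClassTab Cfsg.Agent.Lib.Helper86.SylowSimple
  Cfsg.Agent.Lib.Helper86.M24Inv2 Cfsg.Agent.Lib.Helper86.CenTab
  Cfsg.Agent.Lib.Helper86.CenB Cfsg.Agent.Lib.Helper86.Syl3Data
open scoped Pointwise

theorem orderOf_conj' (k x : Equiv.Perm GolayPt) : orderOf (k * x * k⁻¹) = orderOf x := by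
  have := MulEquiv.orderOf_eq (MulAut.conj k) x
  rwa [MulAut.conj_apply] at this

theorem mk_zero : mk 0 = ∅ := by
  ext p
  rw [mem_mk]
  simp

theorem fix_ok : L.all (fun t => t == idT || popc (fixMask t) == 6 || fixMask t == 0) = true := by
  decide +kernel

theorem yfix_ok : yL.all (fun t => t == idT || fixMask t == 0) = true := by decide +kernel

theorem ne_one_of_order3 {g : Equiv.Perm GolayPt} (h3 : orderOf g = 3) : g ≠ 1 := by
  intro h
  rw [h, orderOf_one] at h3
  omega

/-- An element of order 3 of `M24` has six fixed points or none. -/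
theorem ord3_fix {g : Equiv.Perm GolayPt} (hg : g ∈ M24) (h3 : orderOf g = 3) :
    (fixedPts g).card = 6 ∨ fixedPts g = ∅ := by
  have : Fact (Nat.Prime 3) := ⟨by norm_num⟩
  have hc : Nat.card (grp gT) = 3 ^ (Nat.card M24).factorization 3 := by
    rw [card_grp, factorization_of_card 3 3 9067520 _
      (by rw [Cfsg.Agent.Lib.Helper7.M24Main.card_M24]; norm_num) (by norm_num)]
    norm_num
  obtain ⟨k, hk, hmem⟩ := conj_into 3 grpLe hc hg (n := 1) (by rw [h3, pow_one])
  obtain ⟨t, ht, hr⟩ := hE.cov _ hmem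
  have h1 := List.all_eq_true.mp fix_ok t ht
  simp only [Bool.or_eq_true, beq_iff_eq] at h1
  have hfix : fixedPts g = k⁻¹ • fixedPts (k * g * k⁻¹) := fixedPts_of_conj rfl
  rcases h1 with (h1 | h1) | h1
  · exfalso
    subst h1
    have h2 : k * g * k⁻¹ = 1 := hr.eq_one
    have h4 := orderOf_conj' k g
    rw [h2, orderOf_one, h3] at h4
    omega
  · left
    rw [hfix, Finset.card_smul_finset, fixedPts_eq_mk hr, card_mk, h1]
  · right
    rw [hfix, fixedPts_eq_mk hr, h1, mk_zero, Finset.smul_finset_empty]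

/-- A permutation of prime power order fixes a point of an invariant set of cardinality prime
to the prime. -/
theorem exists_fixed_of_not_dvd (g : Equiv.Perm GolayPt) (p n : ℕ) [Fact p.Prime]
    (hg : g ^ p ^ n = 1) (s : Finset GolayPt) (hs : ∀ x, g x ∈ s ↔ x ∈ s)
    (hcard : ¬ p ∣ s.card) : ∃ x ∈ s, g x = x := by
  have h1 : (g.subtypePerm hs) ^ p ^ n = 1 := by
    ext x
    rw [Equiv.Perm.subtypePerm_pow]
    simp [hg]
  have h2 : ¬ p ∣ Fintype.card {x // x ∈ s} := by rwa [Fintype.card_coe]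
  obtain ⟨a, ha⟩ := Equiv.Perm.exists_fixed_point_of_prime h2 h1
  refine ⟨a.1, a.2, ?_⟩
  have := congrArg Subtype.val ha
  simpa using this

theorem yT_mem : ∀ t ∈ yT, ∃ g ∈ Cen gB, Rep g t := all_Cen rep_gB yT (by decide +kernel)

/-- An element of order 3 commuting with `gB` has no fixed point. -/
theorem ord3_cenB {x : Equiv.Perm GolayPt} (hx : x ∈ Cen gB) (h3 : orderOf x = 3) :
    fixedPts x = ∅ := by
  have : Fact (Nat.Prime 3) := ⟨by norm_num⟩
  have hle : grp yT ≤ Cen gB := grp_le yT (Cen gB) yT_mem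
  have hc : Nat.card (grp yT) = 3 ^ (Nat.card (Cen gB)).factorization 3 := by
    rw [card_y, factorization_of_card 3 1 2560 _ (by rw [card_CenB]; norm_num) (by norm_num)]
    norm_num
  obtain ⟨k, hk, hmem⟩ := conj_into 3 hle hc hx (n := 1) (by rw [h3, pow_one])
  obtain ⟨t, ht, hr⟩ := hEy.cov _ hmem
  have h1 := List.all_eq_true.mp yfix_ok t ht
  simp only [Bool.or_eq_true, beq_iff_eq] at h1
  have hfix : fixedPts x = k⁻¹ • fixedPts (k * x * k⁻¹) := fixedPts_of_conj rfl
  rcases h1 with h1 | h1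
  · exfalso
    subst h1
    have h2 : k * x * k⁻¹ = 1 := hr.eq_one
    have h4 := orderOf_conj' k x
    rw [h2, orderOf_one, h3] at h4
    omega
  · rw [hfix, fixedPts_eq_mk hr, h1, mk_zero, Finset.smul_finset_empty]

end Cfsg.Agent.Lib.Helper86.Ord3
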