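import Mathlib
import Cfsg.Agent.Lib.Helper12.AOStmt

/-!
# S4068 piece D9 (helper86)
-/

set_option autoImplicit false

namespace Cfsg.Agent.Lib.Helper86.AOD9

open Cfsg.Agent.Lib.Helper12.AOStmt

universe u

theorem main : Cfsg.Agent.Lib.Helper12.AOStmt.D9 := by
  intro P hP
  have hsr : ∀ i : ZMod 9, DihedralGroup.sr i ∉ P := by
    intro i hi
    have h1 : orderOf (DihedralGroup.sr i) = 2 := DihedralGroup.orderOf_sr i
    have h2 : orderOf (⟨DihedralGroup.sr i, hi⟩ : P) ∣ Nat.card P := orderOf_dvd_natCard _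
    rw [Subgroup.orderOf_mk, h1, hP] at h2
    omega
  have hsub : (P : Set (DihedralGroup 9)) ⊆ Set.range (DihedralGroup.r : ZMod 9 → DihedralGroup 9) := by
    intro x hx
    cases x with
    | r i => exact ⟨i, rfl⟩
    | sr i => exact absurd hx (hsr i)
  have hinj : Function.Injective (DihedralGroup.r : ZMod 9 → DihedralGroup 9) := by
    intro a b hab
    exact DihedralGroup.r.inj hab
  have hcardR : (Set.range (DihedralGroup.r : ZMod 9 → DihedralGroup 9)).ncard = 9 := by
    rw [← Set.image_univ, Set.ncard_image_of_injective _ hinj, Set.ncard_univ, Nat.card_eq_fintype_card,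
      ZMod.card]
  have hcardP : (P : Set (DihedralGroup 9)).ncard = 9 := by
    have h1 : (P : Set (DihedralGroup 9)).ncard = Nat.card P := rfl
    rw [h1, hP]
  have heq : (P : Set (DihedralGroup 9)) = Set.range (DihedralGroup.r : ZMod 9 → DihedralGroup 9) :=
    Set.eq_of_subset_of_ncard_le hsub (by rw [hcardR, hcardP]) (Set.toFinite _)
  refine ⟨DihedralGroup.r 1, ?_, DihedralGroup.orderOf_r_one⟩
  have h1 : DihedralGroup.r (1 : ZMod 9) ∈ (P : Set (DihedralGroup 9)) := by
    rw [heq]
    exact ⟨1, rfl⟩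
  exact h1

end Cfsg.Agent.Lib.Helper86.AOD9
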