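import Mathlib
import Cfsg.Agent.Lib.Helper12.AOStmt

/-!
# S4068 piece IDX2 (helper86)
-/

set_option autoImplicit false

namespace Cfsg.Agent.Lib.Helper86.AOIDX2

open Cfsg.Agent.Lib.Helper12.AOStmt

universe u

theorem main : Cfsg.Agent.Lib.Helper12.AOStmt.Idx2.{u} := by
  intro G _ _ T hT
  have : Fact (Nat.Prime 2) := ⟨Nat.prime_two⟩
  have hP : Subgroup.normalizer ((T : Subgroup G) : Set G) ≤
      Subgroup.centralizer ((T : Subgroup G) : Set G) := by
    intro g hg
    rw [Subgroup.mem_centralizer_iff]
    intro t ht
    by_cases ht1 : t = 1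
    · subst ht1
      simp
    · have hgt : g * t * g⁻¹ ∈ (T : Subgroup G) := (Subgroup.mem_normalizer_iff.mp hg t).mp ht
      have hgt1 : g * t * g⁻¹ ≠ 1 := by
        intro h1
        apply ht1
        have h2 : g * t = g := by
          have h3 := congrArg (fun z => z * g) h1
          simpa using h3
        exact mul_eq_left.mp h2
      -- a group of order 2 has only one nonidentity element
      have hcard : Nat.card (T : Subgroup G) = 2 := hT
      have key : ∀ a b : (T : Subgroup G), a ≠ 1 → b ≠ 1 → a = b := by
        intro a b ha hb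
        by_contra hab
        have h3 : 2 < Nat.card (T : Subgroup G) := by
          have : Fintype (T : Subgroup G) := Fintype.ofFinite _
          rw [Nat.card_eq_fintype_card]
          exact Fintype.two_lt_card_iff.mpr ⟨1, a, b, Ne.symm ha, Ne.symm hb, hab⟩
        omega
      have h4 := key ⟨g * t * g⁻¹, hgt⟩ ⟨t, ht⟩
        (fun h => hgt1 (congrArg Subtype.val h)) (fun h => ht1 (congrArg Subtype.val h))
      have h5 : g * t * g⁻¹ = t := congrArg Subtype.val h4
      have h6 : g * t = t * g := by
        have h7 := congrArg (fun z => z * g) h5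
        simpa using h7
      exact h6.symm
  exact ⟨_, inferInstance, MonoidHom.ker_transferSylow_isComplement' T hP⟩

end Cfsg.Agent.Lib.Helper86.AOIDX2
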