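import Cfsg.Agent.Lib.Helper86.CenTab
import Cfsg.Agent.Lib.Helper86.M24Inv2

set_option autoImplicit false

/-! Generated data for the centraliser in `M24` of the fixed-point-free involution `gB`:
invariant octads, coset representatives, and the stabiliser of four points. -/

namespace Cfsg.Agent.Lib.Helper86.CenBData

open Cfsg Cfsg.Agent.Lib.Helper7.GolayBase Cfsg.Agent.Lib.Helper7.GolayCode Cfsg.Agent.Lib.Helper7.GolayRigid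
  Cfsg.Agent.Lib.Helper7.GolayPerm Cfsg.Agent.Lib.Helper7.ChainGen
  Cfsg.Agent.Lib.Helper86.TabGrp Cfsg.Agent.Lib.Helper86.ChainEnum
  Cfsg.Agent.Lib.Helper86.CenTab Cfsg.Agent.Lib.Helper86.M24Inv Cfsg.Agent.Lib.Helper86.M24Inv2

/-- The octads invariant under `gB`. -/
def Om : List Nat := [213833, 622863, 705094, 1122713, 1204944, 1613974, 2430217, 2512448, 2921478, 3421328, 12650793, 12733024, 13142054, 13641904, 14949408]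

theorem Om_ok : invOctsOK zB Om = true := by decide +kernel

/-- Representatives of the cosets of the stabiliser of the index `0` in the centraliser. -/
def W0 : List (List Nat) := [
  [0, 1, 2, 3, 4, 5, 6, 7, 8, 9, 10, 11, 12, 13, 14, 15, 16, 17, 18, 19, 20, 21, 22, 23],
  [1, 3, 16, 19, 18, 9, 22, 10, 2, 23, 4, 6, 13, 21, 5, 8, 15, 11, 7, 0, 12, 20, 17, 14],
  [2, 18, 10, 19, 13, 3, 5, 20, 1, 11, 9, 16, 17, 4, 23, 21, 15, 22, 6, 12, 7, 14, 8, 0],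
  [3, 1, 2, 0, 13, 23, 6, 20, 16, 9, 21, 22, 18, 4, 14, 15, 8, 17, 12, 19, 7, 10, 11, 5],
  [4, 3, 16, 13, 6, 1, 12, 9, 7, 21, 11, 2, 23, 14, 18, 8, 20, 10, 5, 0, 17, 22, 15, 19],
  [5, 2, 1, 23, 21, 3, 6, 12, 11, 9, 4, 16, 20, 10, 14, 19, 22, 17, 7, 15, 18, 13, 8, 0],
  [6, 5, 11, 14, 19, 3, 7, 15, 9, 4, 10, 16, 12, 1, 13, 23, 17, 20, 18, 22, 2, 21, 8, 0],
  [7, 15, 19, 20, 11, 12, 6, 5, 4, 9, 8, 21, 3, 22, 17, 2, 13, 14, 0, 1, 23, 16, 10, 18],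
  [8, 18, 10, 3, 20, 6, 1, 13, 0, 2, 22, 9, 5, 4, 19, 12, 16, 15, 23, 21, 7, 11, 14, 17],
  [9, 21, 12, 17, 3, 2, 13, 16, 6, 20, 23, 1, 5, 8, 7, 18, 14, 4, 22, 10, 0, 11, 15, 19],
  [10, 23, 22, 12, 3, 6, 19, 16, 18, 15, 13, 9, 7, 8, 2, 5, 21, 1, 20, 11, 0, 4, 17, 14],
  [11, 20, 13, 22, 6, 15, 3, 9, 5, 16, 21, 19, 18, 17, 0, 4, 23, 8, 12, 7, 14, 10, 2, 1],
  [12, 19, 15, 18, 16, 20, 6, 3, 21, 9, 11, 13, 23, 8, 17, 1, 10, 14, 5, 2, 0, 22, 4, 7],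
  [13, 17, 14, 7, 21, 1, 23, 12, 20, 22, 8, 2, 16, 10, 5, 9, 4, 11, 0, 6, 18, 3, 19, 15],
  [14, 22, 23, 6, 13, 10, 19, 20, 17, 15, 8, 18, 16, 4, 2, 11, 9, 1, 0, 5, 7, 3, 21, 12],
  [15, 23, 22, 2, 16, 12, 7, 3, 19, 4, 9, 21, 14, 8, 20, 11, 1, 13, 6, 5, 0, 17, 10, 18],
  [16, 5, 11, 0, 9, 7, 19, 6, 3, 15, 18, 4, 12, 17, 1, 22, 8, 2, 10, 23, 14, 21, 13, 20],
  [17, 13, 20, 6, 16, 22, 2, 3, 14, 1, 10, 23, 21, 8, 15, 4, 9, 19, 18, 7, 0, 12, 11, 5],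
  [18, 7, 4, 21, 14, 3, 2, 17, 10, 1, 11, 16, 22, 9, 19, 13, 12, 15, 5, 20, 6, 23, 8, 0],
  [19, 12, 21, 2, 23, 9, 13, 22, 15, 20, 8, 6, 16, 11, 7, 10, 1, 4, 0, 18, 5, 3, 14, 17],
  [20, 15, 19, 7, 22, 18, 6, 23, 13, 9, 16, 10, 0, 11, 17, 2, 4, 14, 3, 1, 5, 8, 21, 12],
  [21, 7, 4, 18, 9, 0, 2, 6, 12, 1, 23, 8, 5, 14, 19, 13, 10, 15, 22, 20, 17, 11, 16, 3],
  [22, 20, 13, 5, 12, 6, 2, 21, 23, 1, 16, 9, 0, 10, 15, 7, 11, 19, 3, 4, 18, 8, 14, 17],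
  [23, 2, 1, 5, 10, 0, 6, 18, 22, 9, 13, 8, 7, 21, 14, 19, 11, 17, 20, 15, 12, 4, 16, 3]]

/-- Representatives of the cosets of the next stabiliser. -/
def W1 : List (List Nat) := [
  [0, 1, 2, 3, 4, 5, 6, 7, 8, 9, 10, 11, 12, 13, 14, 15, 16, 17, 18, 19, 20, 21, 22, 23],
  [0, 12, 21, 16, 13, 17, 1, 20, 8, 2, 22, 14, 5, 7, 19, 18, 3, 15, 23, 10, 4, 11, 9, 6]]

theorem hW0 : ∀ w ∈ W0, ∃ g ∈ Cen gB, Rep g w := all_Cen rep_gB W0 (by decide +kernel)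
theorem hW1 : ∀ w ∈ W1, ∃ g ∈ Cen gB, Rep g w := all_Cen rep_gB W1 (by decide +kernel)

theorem lvl0 : lvlOK [] [] 0 W0 = true := by decide +kernel
theorem lvl1 : lvlOK [1, 256, atom Om 0] [0] 3 W1 = true := by decide +kernel

/-- Four fixed indices. -/
def F4 : List Nat := [16, 3, 8, 0]

/-- Coset representatives of a level of the chain of the four-point stabiliser. -/
def W5 : List (List Nat) := [
  [0, 1, 2, 3, 4, 5, 6, 7, 8, 9, 10, 11, 12, 13, 14, 15, 16, 17, 18, 19, 20, 21, 22, 23],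
  [0, 2, 19, 3, 4, 18, 11, 13, 8, 5, 17, 12, 6, 20, 22, 15, 16, 23, 9, 1, 7, 14, 21, 10],
  [0, 4, 7, 3, 14, 2, 18, 6, 8, 21, 22, 15, 23, 17, 12, 20, 16, 10, 5, 13, 9, 11, 19, 1],
  [0, 5, 11, 3, 15, 7, 14, 1, 8, 6, 10, 20, 18, 19, 9, 23, 16, 17, 21, 22, 2, 12, 13, 4],
  [0, 6, 9, 3, 15, 13, 18, 19, 8, 10, 5, 20, 23, 2, 21, 14, 16, 12, 11, 17, 1, 22, 4, 7],
  [0, 7, 20, 3, 11, 19, 6, 22, 8, 17, 18, 15, 12, 5, 9, 4, 16, 14, 21, 13, 23, 10, 1, 2],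
  [0, 9, 14, 3, 15, 21, 11, 1, 8, 23, 13, 12, 4, 19, 5, 6, 16, 22, 7, 17, 2, 20, 10, 18],
  [0, 10, 18, 3, 6, 19, 11, 9, 8, 5, 20, 15, 4, 17, 22, 12, 16, 23, 13, 21, 14, 7, 1, 2],
  [0, 11, 5, 3, 15, 20, 9, 1, 8, 17, 18, 7, 10, 19, 14, 22, 16, 6, 12, 23, 2, 21, 4, 13],
  [0, 12, 21, 3, 6, 2, 23, 9, 8, 22, 7, 1, 13, 17, 5, 10, 16, 11, 4, 18, 14, 20, 15, 19],
  [0, 13, 7, 3, 6, 22, 15, 9, 8, 2, 21, 11, 12, 17, 19, 4, 16, 1, 10, 20, 14, 18, 23, 5],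
  [0, 14, 17, 3, 15, 7, 12, 19, 8, 21, 22, 4, 11, 2, 10, 6, 16, 18, 23, 9, 1, 5, 20, 13],
  [0, 15, 19, 3, 10, 17, 23, 12, 8, 5, 20, 6, 13, 18, 11, 1, 16, 22, 7, 2, 21, 4, 9, 14],
  [0, 17, 9, 3, 15, 23, 4, 2, 8, 7, 18, 11, 12, 1, 20, 6, 16, 13, 21, 14, 19, 10, 5, 22],
  [0, 18, 21, 3, 6, 13, 15, 17, 8, 19, 23, 4, 11, 14, 1, 12, 16, 2, 5, 10, 9, 22, 7, 20],
  [0, 19, 1, 3, 4, 9, 12, 20, 8, 18, 23, 6, 11, 7, 21, 15, 16, 10, 5, 2, 13, 22, 14, 17],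
  [0, 20, 13, 3, 6, 2, 12, 14, 8, 10, 5, 15, 11, 9, 18, 4, 16, 21, 22, 7, 17, 23, 19, 1],
  [0, 21, 10, 3, 15, 20, 11, 2, 8, 22, 14, 4, 6, 1, 23, 12, 16, 5, 17, 18, 19, 9, 13, 7],
  [0, 22, 23, 3, 15, 13, 6, 1, 8, 14, 21, 4, 12, 19, 17, 11, 16, 9, 10, 5, 2, 18, 7, 20],
  [0, 23, 5, 3, 15, 10, 4, 19, 8, 13, 9, 12, 6, 2, 7, 11, 16, 20, 14, 22, 1, 17, 18, 21]]

/-- Coset representatives of a level of the chain of the four-point stabiliser. -/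
def W6 : List (List Nat) := [
  [0, 1, 2, 3, 4, 5, 6, 7, 8, 9, 10, 11, 12, 13, 14, 15, 16, 17, 18, 19, 20, 21, 22, 23],
  [0, 1, 15, 3, 4, 21, 5, 13, 8, 11, 9, 10, 14, 20, 23, 19, 16, 22, 17, 2, 7, 6, 18, 12],
  [0, 1, 19, 3, 4, 6, 21, 20, 8, 10, 11, 9, 23, 7, 12, 2, 16, 18, 22, 15, 13, 5, 17, 14]]

/-- Coset representatives of a level of the chain of the four-point stabiliser. -/
def W7 : List (List Nat) := [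
  [0, 1, 2, 3, 4, 5, 6, 7, 8, 9, 10, 11, 12, 13, 14, 15, 16, 17, 18, 19, 20, 21, 22, 23],
  [0, 1, 2, 3, 5, 4, 21, 23, 8, 18, 14, 13, 17, 11, 10, 15, 16, 12, 9, 19, 22, 6, 20, 7],
  [0, 1, 2, 3, 6, 21, 4, 9, 8, 7, 22, 12, 11, 17, 20, 15, 16, 13, 23, 19, 14, 5, 10, 18],
  [0, 1, 2, 3, 7, 23, 9, 4, 8, 6, 12, 22, 10, 20, 17, 15, 16, 14, 21, 19, 13, 18, 11, 5],
  [0, 1, 2, 3, 9, 18, 7, 6, 8, 4, 11, 10, 22, 14, 13, 15, 16, 20, 5, 19, 17, 23, 12, 21],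
  [0, 1, 2, 3, 10, 14, 22, 12, 8, 11, 4, 9, 7, 18, 5, 15, 16, 23, 13, 19, 21, 20, 6, 17],
  [0, 1, 2, 3, 11, 13, 12, 22, 8, 10, 9, 4, 6, 5, 18, 15, 16, 21, 14, 19, 23, 17, 7, 20],
  [0, 1, 2, 3, 12, 17, 11, 10, 8, 22, 7, 6, 4, 21, 23, 15, 16, 5, 20, 19, 18, 13, 9, 14],
  [0, 1, 2, 3, 13, 11, 17, 20, 8, 14, 18, 5, 21, 4, 9, 15, 16, 6, 10, 19, 7, 12, 23, 22],
  [0, 1, 2, 3, 14, 10, 20, 17, 8, 13, 5, 18, 23, 9, 4, 15, 16, 7, 11, 19, 6, 22, 21, 12],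
  [0, 1, 2, 3, 17, 12, 13, 14, 8, 20, 23, 21, 5, 6, 7, 15, 16, 4, 22, 19, 9, 11, 18, 10],
  [0, 1, 2, 3, 18, 9, 23, 21, 8, 5, 13, 14, 20, 10, 11, 15, 16, 22, 4, 19, 12, 7, 17, 6],
  [0, 1, 2, 3, 20, 22, 14, 13, 8, 17, 21, 23, 18, 7, 6, 15, 16, 9, 12, 19, 4, 10, 5, 11],
  [0, 1, 2, 3, 21, 6, 5, 18, 8, 23, 20, 17, 13, 12, 22, 15, 16, 11, 7, 19, 10, 4, 14, 9],
  [0, 1, 2, 3, 22, 20, 10, 11, 8, 12, 6, 7, 9, 23, 21, 15, 16, 18, 17, 19, 5, 14, 4, 13],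
  [0, 1, 2, 3, 23, 7, 18, 5, 8, 21, 17, 20, 14, 22, 12, 15, 16, 10, 6, 19, 11, 9, 13, 4]]

/-- The tables of the stabiliser of the four indices in `M24`. -/
def L960 : List (List Nat) := prodL W5 (prodL W6 (prodL W7 [idT]))

theorem hW5 : ∀ w ∈ W5, ∃ g ∈ M24, Rep g w := all_inM24 W5 (by decide +kernel)
theorem hW6 : ∀ w ∈ W6, ∃ g ∈ M24, Rep g w := all_inM24 W6 (by decide +kernel)
theorem hW7 : ∀ w ∈ W7, ∃ g ∈ M24, Rep g w := all_inM24 W7 (by decide +kernel)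

theorem hE7 : Enum (M24 ⊓ FixL (4 :: 2 :: 1 :: F4)) [idT] :=
  enum_bot (bot_of_rigid (le_refl _) _ 2 (by decide +kernel))

theorem hE6 : Enum (M24 ⊓ FixL (2 :: 1 :: F4)) (prodL W7 [idT]) :=
  enum_level hW7 (pres_octs (le_refl _) (P := [622863]) (by decide +kernel)) (by decide +kernel) hE7

theorem hE5 : Enum (M24 ⊓ FixL (1 :: F4)) (prodL W6 (prodL W7 [idT])) :=
  enum_level hW6 (pres_octs (le_refl _) (P := [622863]) (by decide +kernel)) (by decide +kernel) hE6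

theorem hE4 : Enum (M24 ⊓ FixL F4) L960 :=
  enum_level hW5 (pres_octs (le_refl _) (P := []) (by decide +kernel)) (by decide +kernel) hE5

set_option maxHeartbeats 4000000 in
theorem count4 : L960.countP (commT zB) = 160 := by decide +kernel

/-- One index in each tetrad. -/
def tetReps : List Nat := [0, 1, 4, 5, 6, 10]

/-- The six tetrads. -/
def tetL : List Nat := tetReps.map (atom Om)

theorem tetL_eq : tetL = [65801, 557062, 1056912, 12584992, 148032, 2364416] := by decide +kernel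

theorem tet_cover : (List.range 24).all (fun i => tetL.contains (atom Om i)) = true := by
  decide +kernel

theorem tet_sextet : tetL.all (fun m => popc m == 4 && decide (m < 2 ^ 24) && tetL.all (fun m' =>
    m == m' || (inCode (m ||| m') && popc (m ||| m') == 8))) = true := by decide +kernel

end Cfsg.Agent.Lib.Helper86.CenBData
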