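import Cfsg.Agent.Lib.Helper86.ChainEnum
import Cfsg.Agent.Lib.Helper7.M24Octad

set_option autoImplicit false

/-!
# Centralisers in `M24` by tables

`Cen τ` is the centraliser of `τ` in `M24`.  Table test for commuting, the fixed points forced
by commuting, and the family of `τ`-invariant octads, which `Cen τ` maps to itself.
-/

namespace Cfsg.Agent.Lib.Helper86.CenTab

open Cfsg Cfsg.Agent.Lib.Helper7.GolayBase Cfsg.Agent.Lib.Helper7.GolayCode
  Cfsg.Agent.Lib.Helper7.M24Mem Cfsg.Agent.Lib.Helper7.GolayRigid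
  Cfsg.Agent.Lib.Helper7.GolayPerm Cfsg.Agent.Lib.Helper7.ChainGen
  Cfsg.Agent.Lib.Helper86.TabGrp Cfsg.Agent.Lib.Helper86.ChainEnum
open scoped Pointwise

/-- The centraliser of `τ` in `M24`. -/
def Cen (τ : Equiv.Perm GolayPt) : Subgroup (Equiv.Perm GolayPt) :=
  M24 ⊓ Subgroup.centralizer {τ}

theorem mem_Cen {τ g : Equiv.Perm GolayPt} : g ∈ Cen τ ↔ g ∈ M24 ∧ g * τ = τ * g := by
  unfold Cen
  rw [Subgroup.mem_inf, Subgroup.mem_centralizer_iff]
  simp only [Set.mem_singleton_iff, forall_eq]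
  constructor
  · rintro ⟨h1, h2⟩; exact ⟨h1, h2.symm⟩
  · rintro ⟨h1, h2⟩; exact ⟨h1, h2.symm⟩

theorem Cen_le (τ : Equiv.Perm GolayPt) : Cen τ ≤ M24 := inf_le_left

/-- Table test: the table `w` commutes with the table `t`. -/
def commT (t w : List Nat) : Bool :=
  (List.range 24).all (fun i => w.getD (t.getD i 0) 0 == t.getD (w.getD i 0) 0)

theorem commT_iff {τ g : Equiv.Perm GolayPt} {t w : List Nat} (hτ : Rep τ t) (hg : Rep g w) :
    g * τ = τ * g ↔ commT t w = true := by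
  have key : ∀ i, i < 24 → w.getD (t.getD i 0) 0 = idx (g (τ (pt i))) ∧
      t.getD (w.getD i 0) 0 = idx (τ (g (pt i))) := by
    intro i hi
    have a1 := hτ.2 (pt i)
    have a2 := hg.2 (pt i)
    rw [idx_pt hi] at a1 a2
    rw [a1, a2, hg.2, hτ.2]
    exact ⟨rfl, rfl⟩
  simp only [commT, List.all_eq_true, List.mem_range, beq_iff_eq]
  constructor
  · intro h i hi
    rw [(key i hi).1, (key i hi).2]
    have := congrArg (fun f : Equiv.Perm GolayPt => f (pt i)) h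
    exact congrArg idx this
  · intro h
    apply Equiv.ext
    intro p
    have := h (idx p) (idx_lt p)
    rw [(key _ (idx_lt p)).1, (key _ (idx_lt p)).2, pt_idx] at this
    exact idx_injective this

theorem exists_Cen {τ : Equiv.Perm GolayPt} {t : List Nat} (hτ : Rep τ t) (w : List Nat)
    (h : (inM24' w && commT t w) = true) : ∃ g ∈ Cen τ, Rep g w := by
  rw [Bool.and_eq_true] at h
  obtain ⟨g, hg, hr⟩ := exists_M24' w h.1
  exact ⟨g, mem_Cen.mpr ⟨hg, (commT_iff hτ hr).mpr h.2⟩, hr⟩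

theorem all_Cen {τ : Equiv.Perm GolayPt} {t : List Nat} (hτ : Rep τ t) (W : List (List Nat))
    (h : W.all (fun w => inM24' w && commT t w) = true) : ∀ w ∈ W, ∃ g ∈ Cen τ, Rep g w :=
  fun w hw => exists_Cen hτ w (List.all_eq_true.mp h w hw)

/-- A fixed point of an element commuting with `τ` has a fixed image under `τ`. -/
theorem fix_img {τ g : Equiv.Perm GolayPt} (hc : g * τ = τ * g) {p : GolayPt} (hp : g p = p) :
    g (τ p) = τ p := by
  have := congrArg (fun f : Equiv.Perm GolayPt => f p) hc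
  simp only [Equiv.Perm.mul_apply] at this
  rw [this, hp]

theorem fix_img_idx {τ g : Equiv.Perm GolayPt} {t : List Nat} (hτ : Rep τ t)
    (hc : g * τ = τ * g) {f f' : Nat} (hf : f < 24) (hff : t.getD f 0 = f')
    (hp : g (pt f) = pt f) : g (pt f') = pt f' := by
  have := fix_img hc hp
  rwa [hτ.apply_eq hf hff] at this

/-- The listed masks are exactly the octads invariant under the permutation with inverse
table `t'`. -/
def invOctsOK (t' : List Nat) (Ω : List Nat) : Bool :=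
  Ω.all (fun o => inCode o && popc o == 8 && permMask t' o == o) &&
    octadList.all (fun o => permMask t' o != o || Ω.contains o)

theorem permMask_lt (t' : List Nat) (m : Nat) : permMask t' m < 2 ^ 24 := by
  unfold permMask
  exact Nat.ofBits_lt_two_pow _

theorem closed_of_comm {τ g : Equiv.Perm GolayPt} {t' : List Nat} {Ω : List Nat}
    (hτ' : Rep τ⁻¹ t') (h : invOctsOK t' Ω = true) (hg : g ∈ M24) (hc : g * τ = τ * g) :
    Closed g Ω := by
  simp only [invOctsOK, Bool.and_eq_true, List.all_eq_true, beq_iff_eq, Bool.or_eq_true,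
    bne_iff_ne, ne_eq, List.contains_iff_mem] at h
  obtain ⟨h1, h2⟩ := h
  intro o ho
  obtain ⟨⟨hcode, hpop⟩, hinv⟩ := h1 o ho
  have hoL : o ∈ octadList := mem_octadList.mpr ⟨inCode_sound hcode, hpop⟩
  have hoct : g • mk o ∈ octads :=
    Cfsg.Agent.Lib.Helper7.M24Octad.smul_mem_octads hg ((mem_octads_iff _).mpr ⟨o, hoL, rfl⟩)
  obtain ⟨o', ho', he⟩ := (mem_octads_iff _).mp hoct
  refine ⟨o', ?_, he.symm⟩
  have hτo : τ • mk o = mk o := by rw [← mk_permMask hτ', hinv]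
  have hτo' : τ • mk o' = mk o' := by
    rw [he, smul_smul, ← hc, ← smul_smul, hτo]
  have hpm : permMask t' o' = o' := by
    apply mk_injOn (permMask_lt _ _) (codeList_lt o' (mem_octadList.mp ho').1)
    rw [mk_permMask hτ', hτo']
  rcases h2 o' ho' with h3 | h3
  · exact absurd hpm h3
  · exact h3

theorem closed_Cen {τ g : Equiv.Perm GolayPt} {t' : List Nat} {Ω : List Nat}
    (hτ' : Rep τ⁻¹ t') (h : invOctsOK t' Ω = true) (hg : g ∈ Cen τ) :
    Closed g Ω ∧ Closed g⁻¹ Ω := by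
  have h1 := mem_Cen.mp hg
  have h2 := mem_Cen.mp ((Cen τ).inv_mem hg)
  exact ⟨closed_of_comm hτ' h h1.1 h1.2, closed_of_comm hτ' h h2.1 h2.2⟩

/-! ### Conjugation -/

theorem card_Cen_conj {k t r : Equiv.Perm GolayPt} (hk : k ∈ M24) (h : k * t * k⁻¹ = r) :
    Nat.card {c : Equiv.Perm GolayPt // c ∈ M24 ∧ c * t = t * c} = Nat.card ↥(Cen r) := by
  apply Nat.card_congr
  refine ⟨fun c => ⟨k * c.1 * k⁻¹, mem_Cen.mpr ⟨M24.mul_mem (M24.mul_mem hk c.2.1)
    (M24.inv_mem hk), ?_⟩⟩, fun c => ⟨k⁻¹ * c.1 * k, M24.mul_mem (M24.mul_mem (M24.inv_mem hk)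
    (mem_Cen.mp c.2).1) hk, ?_⟩, ?_, ?_⟩
  · rw [← h]
    have e1 : k * c.1 * k⁻¹ * (k * t * k⁻¹) = k * (c.1 * t) * k⁻¹ := by group
    have e2 : k * t * k⁻¹ * (k * c.1 * k⁻¹) = k * (t * c.1) * k⁻¹ := by group
    rw [e1, e2, c.2.2]
  · have ht : t = k⁻¹ * r * k := by rw [← h]; group
    have hc := (mem_Cen.mp c.2).2
    rw [ht]
    have e1 : k⁻¹ * c.1 * k * (k⁻¹ * r * k) = k⁻¹ * (c.1 * r) * k := by group
    have e2 : k⁻¹ * r * k * (k⁻¹ * c.1 * k) = k⁻¹ * (r * c.1) * k := by group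
    rw [e1, e2, hc]
  · intro c
    apply Subtype.ext
    show k⁻¹ * (k * c.1 * k⁻¹) * k = c.1
    group
  · intro c
    apply Subtype.ext
    show k * (k⁻¹ * c.1 * k) * k⁻¹ = c.1
    group

theorem mem_Cen_conj {k t r c : Equiv.Perm GolayPt} (hk : k ∈ M24) (h : k * t * k⁻¹ = r)
    (hc : c ∈ M24) (hct : c * t = t * c) : k * c * k⁻¹ ∈ Cen r := by
  refine mem_Cen.mpr ⟨M24.mul_mem (M24.mul_mem hk hc) (M24.inv_mem hk), ?_⟩
  rw [← h]
  have e1 : k * c * k⁻¹ * (k * t * k⁻¹) = k * (c * t) * k⁻¹ := by group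
  have e2 : k * t * k⁻¹ * (k * c * k⁻¹) = k * (t * c) * k⁻¹ := by group
  rw [e1, e2, hct]

theorem conj_mem_Cen {k t r c : Equiv.Perm GolayPt} (hk : k ∈ M24) (h : k * t * k⁻¹ = r)
    (hc : c ∈ Cen r) : k⁻¹ * c * k ∈ M24 ∧ (k⁻¹ * c * k) * t = t * (k⁻¹ * c * k) := by
  have h1 := mem_Cen.mp hc
  refine ⟨M24.mul_mem (M24.mul_mem (M24.inv_mem hk) h1.1) hk, ?_⟩
  have ht : t = k⁻¹ * r * k := by rw [← h]; group
  rw [ht]
  have e1 : k⁻¹ * c * k * (k⁻¹ * r * k) = k⁻¹ * (c * r) * k := by group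
  have e2 : k⁻¹ * r * k * (k⁻¹ * c * k) = k⁻¹ * (r * c) * k := by group
  rw [e1, e2, h1.2]

end Cfsg.Agent.Lib.Helper86.CenTab
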