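import Cfsg.Agent.Lib.Helper86.TabMathieu

set_option autoImplicit false

/-!
# Enumerating and counting stabiliser chains by tables

* `atom_testBit`, `smul_atom`, `pres_atom`, `smul_mk_atom`: atoms of a family of masks that is
  mapped to itself by a permutation.
* `mk_permMask`: the image of a mask under a permutation given by its inverse table.
* `prodL`, `enum_step`, `enum_level`, `card_level`: one level of a stabiliser chain, with the
  orbit bounded by the atom of a family of preserved masks.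
* `presM24`, `bot_of_rigid`: preserved octads and rigidity for point stabilisers of `M24`.
* `card_filter_inf`: the order of a subgroup cut out of an enumerated subgroup by a test on
  tables.
-/

namespace Cfsg.Agent.Lib.Helper86.ChainEnum

open Cfsg Cfsg.Agent.Lib.Helper7.GolayBase Cfsg.Agent.Lib.Helper7.GolayCode
  Cfsg.Agent.Lib.Helper7.M24Mem Cfsg.Agent.Lib.Helper7.GolayRigid
  Cfsg.Agent.Lib.Helper7.GolayPerm Cfsg.Agent.Lib.Helper7.ChainGen
  Cfsg.Agent.Lib.Helper86.TabGrp
open scoped Pointwise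

/-! ### Atoms -/

theorem atom_fold_testBit (P : List Nat) (i : Nat) {j : Nat} (hj : j < 24) :
    ∀ acc : Nat,
      (P.foldl (fun acc c => acc &&& (if c.testBit i = true then c else c ^^^ full)) acc).testBit j
        = true ↔ acc.testBit j = true ∧ ∀ c ∈ P, c.testBit j = c.testBit i := by
  induction P with
  | nil => intro acc; simp
  | cons c P ih =>
    intro acc
    simp only [List.foldl_cons]
    rw [ih, Nat.testBit_and, Bool.and_eq_true]
    have key : (if c.testBit i = true then c else c ^^^ full).testBit j = true ↔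
        c.testBit j = c.testBit i := by
      by_cases hi : c.testBit i = true
      · simp only [hi, if_true]
      · simp only [Bool.not_eq_true] at hi
        rw [if_neg (by simp [hi]), Nat.testBit_xor, full_testBit hj, hi]
        cases c.testBit j <;> simp
    rw [key]
    simp only [List.mem_cons, forall_eq_or_imp]
    tauto

theorem atom_testBit (P : List Nat) (i : Nat) {j : Nat} (hj : j < 24) :
    (atom P i).testBit j = true ↔ ∀ c ∈ P, c.testBit j = c.testBit i := by
  unfold atom
  rw [atom_fold_testBit P i hj, full_testBit hj]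
  simp

/-! ### Images of masks -/

theorem mk_permMask {g : Equiv.Perm GolayPt} {t' : List Nat} (hr' : Rep g⁻¹ t') (m : Nat) :
    mk (permMask t' m) = g • mk m := by
  ext p
  rw [← Finset.inv_smul_mem_iff, mem_mk, mem_mk, permMask, Nat.testBit_ofBits]
  simp only [idx_lt, dite_true]
  rw [hr'.2 p]
  rfl

theorem testBit_of_smul {g : Equiv.Perm GolayPt} {c c' : Nat} (h : g • mk c = mk c')
    (q : GolayPt) : c'.testBit (idx (g q)) = c.testBit (idx q) := by
  rw [Bool.eq_iff_iff, ← mem_mk, ← mem_mk, ← h]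
  exact Finset.smul_mem_smul_finset_iff g

/-! ### Families mapped to themselves -/

/-- The permutation maps every member of the family to a member of the family. -/
def Closed (g : Equiv.Perm GolayPt) (Ω : List Nat) : Prop :=
  ∀ o ∈ Ω, ∃ o' ∈ Ω, g • mk o = mk o'

theorem smul_atom {g : Equiv.Perm GolayPt} {Ω : List Nat} (h : Closed g Ω)
    (h' : Closed g⁻¹ Ω) (p q : GolayPt) :
    (atom Ω (idx (g p))).testBit (idx (g q)) = (atom Ω (idx p)).testBit (idx q) := by
  rw [Bool.eq_iff_iff, atom_testBit Ω _ (idx_lt _), atom_testBit Ω _ (idx_lt _)]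
  constructor
  · intro hl c hc
    obtain ⟨c', hc', he⟩ := h c hc
    rw [← testBit_of_smul he q, ← testBit_of_smul he p]
    exact hl c' hc'
  · intro hr c hc
    obtain ⟨c', hc', he⟩ := h' c hc
    have e1 := testBit_of_smul he (g q)
    have e2 := testBit_of_smul he (g p)
    have a1 : g⁻¹ (g q) = q := by simp
    have a2 : g⁻¹ (g p) = p := by simp
    rw [a1] at e1
    rw [a2] at e2
    rw [← e1, ← e2]
    exact hr c' hc'

theorem pres_atom {g : Equiv.Perm GolayPt} {Ω : List Nat} (h : Closed g Ω)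
    (h' : Closed g⁻¹ Ω) {f : Nat} (hf : f < 24) (hfix : g (pt f) = pt f) :
    Pres g (atom Ω f) := by
  intro p
  have := smul_atom h h' (pt f) p
  rwa [hfix, idx_pt hf] at this

theorem smul_mk_atom {g : Equiv.Perm GolayPt} {Ω : List Nat} (h : Closed g Ω)
    (h' : Closed g⁻¹ Ω) (p : GolayPt) :
    g • mk (atom Ω (idx p)) = mk (atom Ω (idx (g p))) := by
  ext q
  rw [← Finset.inv_smul_mem_iff, mem_mk, mem_mk]
  have := smul_atom h h' p (g⁻¹ q)
  have a1 : g (g⁻¹ q) = q := by simp
  rw [a1] at this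
  rw [this]
  rfl

/-! ### One level of a chain -/

/-- Products of coset representatives with the tables of the next stabiliser. -/
def prodL (W L' : List (List Nat)) : List (List Nat) :=
  W.flatMap (fun w => L'.map (fun l => tmul w l))

theorem enum_bot {H : Subgroup (Equiv.Perm GolayPt)} (h : H = ⊥) : Enum H [idT] := by
  refine ⟨?_, ?_, List.nodup_singleton _⟩
  · intro t ht
    rw [List.mem_singleton] at ht
    subst ht
    exact ⟨1, H.one_mem, rep_one⟩
  · intro g hg
    rw [h, Subgroup.mem_bot] at hg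
    subst hg
    exact ⟨idT, List.mem_singleton.mpr rfl, rep_one⟩

theorem enum_step {K : Subgroup (Equiv.Perm GolayPt)} {F : List Nat} {b : Nat} (hb : b < 24)
    {W L' : List (List Nat)} (hE' : Enum (K ⊓ FixL (b :: F)) L')
    (hW : ∀ w ∈ W, ∃ g ∈ K ⊓ FixL F, Rep g w)
    (hnd : (W.map (fun w => w.getD b 0)).Nodup)
    (hub : ∀ g ∈ K ⊓ FixL F, ∃ w ∈ W, w.getD b 0 = idx (g (pt b))) :
    Enum (K ⊓ FixL F) (prodL W L') := by
  have hle : K ⊓ FixL (b :: F) ≤ K ⊓ FixL F := by
    intro g hg
    exact ⟨hg.1, (mem_FixL_cons.mp hg.2).2⟩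
  have hwb : ∀ {g : Equiv.Perm GolayPt} {w : List Nat}, Rep g w →
      w.getD b 0 = idx (g (pt b)) := by
    intro g w hr
    have := hr.2 (pt b)
    rwa [idx_pt hb] at this
  refine ⟨?_, ?_, ?_⟩
  · intro t ht
    simp only [prodL, List.mem_flatMap, List.mem_map] at ht
    obtain ⟨w, hw, l, hl, rfl⟩ := ht
    obtain ⟨g, hg, hrg⟩ := hW w hw
    obtain ⟨h, hh, hrh⟩ := hE'.rep l hl
    exact ⟨g * h, Subgroup.mul_mem _ hg (hle hh), hrg.mul hrh⟩
  · intro g hg
    obtain ⟨w, hw, hwq⟩ := hub g hg
    obtain ⟨u, hu, hru⟩ := hW w hw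
    have hub' : u (pt b) = g (pt b) := by
      have := hwb hru
      rw [hwq] at this
      exact (idx_injective this).symm
    have hmem : u⁻¹ * g ∈ K ⊓ FixL (b :: F) := by
      have h1 : u⁻¹ * g ∈ K ⊓ FixL F := Subgroup.mul_mem _ (Subgroup.inv_mem _ hu) hg
      refine ⟨h1.1, mem_FixL_cons.mpr ⟨?_, h1.2⟩⟩
      show u⁻¹ (g (pt b)) = pt b
      rw [← hub']
      simp
    obtain ⟨l, hl, hrl⟩ := hE'.cov _ hmem
    refine ⟨tmul w l, ?_, ?_⟩
    · simp only [prodL, List.mem_flatMap, List.mem_map]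
      exact ⟨w, hw, l, hl, rfl⟩
    · have := hru.mul hrl
      rwa [mul_inv_cancel_left] at this
  · unfold prodL
    rw [List.nodup_flatMap]
    constructor
    · intro w hw
      obtain ⟨u, hu, hru⟩ := hW w hw
      apply List.Nodup.map_on _ hE'.nodup
      intro x hx y hy hxy
      obtain ⟨h1, -, hr1⟩ := hE'.rep x hx
      obtain ⟨h2, -, hr2⟩ := hE'.rep y hy
      have e : u * h1 = u * h2 := by
        have a := hru.mul hr1
        have b' := hru.mul hr2
        rw [hxy] at a
        exact a.ext b'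
      have e2 : h1 = h2 := mul_left_cancel e
      subst e2
      exact rep_unique hr1 hr2
    · have hnd' : List.Pairwise (fun w1 w2 : List Nat => w1.getD b 0 ≠ w2.getD b 0) W := by
        have := hnd
        unfold List.Nodup at this
        rwa [List.pairwise_map] at this
      refine hnd'.imp_of_mem ?_
      intro w1 w2 hw1 hw2 hne
      show List.Disjoint _ _
      intro t ht1 ht2
      simp only [List.mem_map] at ht1 ht2
      obtain ⟨l1, hl1, rfl⟩ := ht1
      obtain ⟨l2, hl2, he⟩ := ht2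
      obtain ⟨u1, -, hru1⟩ := hW w1 hw1
      obtain ⟨u2, -, hru2⟩ := hW w2 hw2
      obtain ⟨h1, hh1, hr1⟩ := hE'.rep l1 hl1
      obtain ⟨h2, hh2, hr2⟩ := hE'.rep l2 hl2
      have e : u1 * h1 = u2 * h2 := by
        have a := hru1.mul hr1
        have b' := hru2.mul hr2
        rw [he] at b'
        exact a.ext b'
      have f1 : h1 (pt b) = pt b := (mem_FixL_cons.mp hh1.2).1
      have f2 : h2 (pt b) = pt b := (mem_FixL_cons.mp hh2.2).1
      have e3 := congrArg (fun f : Equiv.Perm GolayPt => f (pt b)) e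
      simp only [Equiv.Perm.mul_apply, f1, f2] at e3
      apply hne
      rw [hwb hru1, hwb hru2, e3]

/-- The side conditions of a level: the base index is new, the coset representatives fix the
fixed indices and take the base index to distinct indices covering its atom. -/
def lvlOK (P : List Nat) (F : List Nat) (b : Nat) (W : List (List Nat)) : Bool :=
  decide (b < 24) && F.all (fun f => decide (f < 24)) && !F.contains b &&
    decide ((W.map (fun w => w.getD b 0)).Nodup) &&
    W.all (fun w => F.all (fun f => w.getD f 0 == f)) &&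
    (List.range 24).all (fun q => !(atom P b).testBit q || F.contains q ||
      W.any (fun w => w.getD b 0 == q))

theorem lvlOK_spec {P F : List Nat} {b : Nat} {W : List (List Nat)}
    (h : lvlOK P F b W = true) :
    b < 24 ∧ (∀ f ∈ F, f < 24) ∧ b ∉ F ∧ (W.map (fun w => w.getD b 0)).Nodup ∧
      (∀ w ∈ W, ∀ f ∈ F, w.getD f 0 = f) ∧
      ∀ q, q < 24 → (atom P b).testBit q = true → q ∉ F → ∃ w ∈ W, w.getD b 0 = q := by
  simp only [lvlOK, Bool.and_eq_true, decide_eq_true_eq, List.all_eq_true, Bool.not_eq_true',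
    beq_iff_eq, List.mem_range, Bool.or_eq_true, List.any_eq_true] at h
  obtain ⟨⟨⟨⟨⟨h1, h2⟩, h3⟩, h4⟩, h5⟩, h6⟩ := h
  refine ⟨h1, h2, ?_, h4, h5, ?_⟩
  · intro hb
    have := List.contains_iff_mem.mpr hb
    rw [h3] at this
    exact Bool.false_ne_true this
  · intro q hq hbit hqF
    rcases h6 q hq with (h7 | h7) | h7
    · rw [hbit] at h7; exact absurd h7 (by simp)
    · exact absurd (List.contains_iff_mem.mp h7) hqF
    · exact h7

theorem wit_of_lvl {K : Subgroup (Equiv.Perm GolayPt)} {P F : List Nat} {b : Nat}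
    {W : List (List Nat)} (hW : ∀ w ∈ W, ∃ g ∈ K, Rep g w) (h : lvlOK P F b W = true) :
    ∀ w ∈ W, ∃ g ∈ K ⊓ FixL F, Rep g w := by
  obtain ⟨-, hF, -, -, hfix, -⟩ := lvlOK_spec h
  intro w hw
  obtain ⟨g, hg, hr⟩ := hW w hw
  refine ⟨g, ⟨hg, ?_⟩, hr⟩
  intro f hf
  exact hr.apply_eq (hF f hf) (hfix w hw f hf)

theorem hub_of_lvl {K : Subgroup (Equiv.Perm GolayPt)} {P F : List Nat} {b : Nat}
    {W : List (List Nat)} (hP : ∀ g ∈ K ⊓ FixL F, ∀ c ∈ P, Pres g c)
    (h : lvlOK P F b W = true) :
    ∀ g ∈ K ⊓ FixL F, ∃ w ∈ W, w.getD b 0 = idx (g (pt b)) := by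
  obtain ⟨hb, -, hbF, -, -, hcov⟩ := lvlOK_spec h
  intro g hg
  apply hcov _ (idx_lt _)
  · have := atom_spec (hP g hg) (pt b)
    rwa [idx_pt hb] at this
  · intro hq
    have h1 := hg.2 _ hq
    rw [pt_idx] at h1
    have h2 : g (pt b) = pt b := g.injective h1
    have h3 := congrArg idx h2
    rw [idx_pt hb] at h3
    exact hbF (h3 ▸ hq)

/-- Enumeration of a level from the enumeration of the next one. -/
theorem enum_level {K : Subgroup (Equiv.Perm GolayPt)} {P F : List Nat} {b : Nat}
    {W L' : List (List Nat)} (hW : ∀ w ∈ W, ∃ g ∈ K, Rep g w)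
    (hP : ∀ g ∈ K ⊓ FixL F, ∀ c ∈ P, Pres g c) (h : lvlOK P F b W = true)
    (hE' : Enum (K ⊓ FixL (b :: F)) L') : Enum (K ⊓ FixL F) (prodL W L') :=
  enum_step (lvlOK_spec h).1 hE' (wit_of_lvl hW h) (lvlOK_spec h).2.2.2.1 (hub_of_lvl hP h)

/-- The order of a level from the order of the next one. -/
theorem card_level {K : Subgroup (Equiv.Perm GolayPt)} {P F : List Nat} {b : Nat}
    {W : List (List Nat)} (hW : ∀ w ∈ W, ∃ g ∈ K, Rep g w)
    (hP : ∀ g ∈ K ⊓ FixL F, ∀ c ∈ P, Pres g c) (h : lvlOK P F b W = true) :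
    Nat.card ↥(K ⊓ FixL F) = Nat.card ↥(K ⊓ FixL (b :: F)) * W.length := by
  obtain ⟨hb, -, -, hnd, -, -⟩ := lvlOK_spec h
  have hwb : ∀ {g : Equiv.Perm GolayPt} {w : List Nat}, Rep g w →
      w.getD b 0 = idx (g (pt b)) := by
    intro g w hr
    have := hr.2 (pt b)
    rwa [idx_pt hb] at this
  have h1 := card_step (K := K) (L := F) (b := b) (T := W.map (fun w => w.getD b 0)) hnd
    (by
      intro q hq
      rw [List.mem_map] at hq
      obtain ⟨w, hw, rfl⟩ := hq
      obtain ⟨g, -, hr⟩ := hW w hw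
      rw [hwb hr]
      exact idx_lt _)
    (by
      intro g hg
      obtain ⟨w, hw, hwq⟩ := hub_of_lvl hP h g hg
      exact ⟨_, List.mem_map.mpr ⟨w, hw, rfl⟩, by rw [hwq, pt_idx]⟩)
    (by
      intro q hq
      rw [List.mem_map] at hq
      obtain ⟨w, hw, rfl⟩ := hq
      obtain ⟨g, hg, hr⟩ := wit_of_lvl hW h w hw
      exact ⟨g, hg, by rw [hwb hr, pt_idx]⟩)
  rw [h1, List.length_map]

/-- Existence of an element moving the base index to any index of the atom. -/
theorem exists_of_lvl {K : Subgroup (Equiv.Perm GolayPt)} {P F : List Nat} {b : Nat}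
    {W : List (List Nat)} (hW : ∀ w ∈ W, ∃ g ∈ K, Rep g w) (h : lvlOK P F b W = true)
    {q : Nat} (hq : q < 24) (hbit : (atom P b).testBit q = true) (hqF : q ∉ F) :
    ∃ g ∈ K ⊓ FixL F, g (pt b) = pt q := by
  obtain ⟨hb, -, -, -, -, hcov⟩ := lvlOK_spec h
  obtain ⟨w, hw, hwq⟩ := hcov q hq hbit hqF
  obtain ⟨g, hg, hr⟩ := wit_of_lvl hW h w hw
  exact ⟨g, hg, hr.apply_eq hb hwq⟩

/-! ### Point stabilisers of `M24` -/

/-- The mask of a list of indices. -/
def listMask (F : List Nat) : Nat := Nat.ofBits (fun i : Fin 24 => F.contains (i : Nat))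

theorem fixed_listMask {g : Equiv.Perm GolayPt} {F : List Nat} (hg : g ∈ FixL F) :
    ∀ p : GolayPt, (listMask F).testBit (idx p) = true → g p = p := by
  apply fixed_of_list hg
  intro i hi hbit
  unfold listMask at hbit
  rw [Nat.testBit_ofBits] at hbit
  simp only [hi, dite_true] at hbit
  exact List.contains_iff_mem.mp hbit

/-- The octads with five fixed points are preserved. -/
theorem presM24 {K : Subgroup (Equiv.Perm GolayPt)} (hK : K ≤ M24) (F : List Nat) :
    ∀ g ∈ K ⊓ FixL F, ∀ c ∈ presList [] (listMask F), Pres g c := by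
  intro g hg
  exact presList_pres (hK hg.1) (by intro c hc; exact absurd hc List.not_mem_nil)
    (fixed_listMask hg.2)

theorem bot_of_rigid {K : Subgroup (Equiv.Perm GolayPt)} (hK : K ≤ M24) (F : List Nat)
    (n : Nat) (h : fixIter [] n (listMask F) = full) : K ⊓ FixL F = ⊥ := by
  rw [eq_bot_iff]
  intro g hg
  rw [Subgroup.mem_bot]
  exact rigid (hK hg.1) (extra := []) (by intro c hc; exact absurd hc List.not_mem_nil) n
    (fixed_listMask hg.2) h

/-! ### Membership in `M24` from a table alone -/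

/-- The inverse table. -/
def invT (t : List Nat) : List Nat := (List.range 24).map (fun i => t.idxOf i)

/-- Table test for membership in `M24`. -/
def inM24' (t : List Nat) : Bool := Cfsg.Agent.Lib.Helper86.TabMathieu.inM24 t (invT t)

theorem exists_M24' (t : List Nat) (h : inM24' t = true) : ∃ g ∈ M24, Rep g t := by
  obtain ⟨g, hg, hr, -⟩ := Cfsg.Agent.Lib.Helper86.TabMathieu.exists_M24 t (invT t) h
  exact ⟨g, hg, hr⟩

theorem exists_M24_inv (t : List Nat) (h : inM24' t = true) :
    ∃ g ∈ M24, Rep g t ∧ Rep g⁻¹ (invT t) :=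
  Cfsg.Agent.Lib.Helper86.TabMathieu.exists_M24 t (invT t) h

theorem all_inM24 (W : List (List Nat)) (h : W.all inM24' = true) :
    ∀ w ∈ W, ∃ g ∈ M24, Rep g w :=
  fun w hw => exists_M24' w (List.all_eq_true.mp h w hw)

/-! ### Octads with five fixed points -/

/-- The listed masks are octads with at least five of the fixed indices. -/
def octsOK (F : List Nat) (P : List Nat) : Bool :=
  P.all (fun o => inCode o && popc o == 8 && decide (5 ≤ popc (o &&& listMask F)))

theorem pres_octs {K : Subgroup (Equiv.Perm GolayPt)} (hK : K ≤ M24) {F P : List Nat}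
    (h : octsOK F P = true) : ∀ g ∈ K ⊓ FixL F, ∀ c ∈ P, Pres g c := by
  intro g hg c hc
  have h1 := List.all_eq_true.mp h c hc
  simp only [Bool.and_eq_true, beq_iff_eq, decide_eq_true_eq] at h1
  exact pres_octad (hK hg.1) (mem_octadList.mpr ⟨inCode_sound h1.1.1, h1.1.2⟩)
    (fixed_listMask hg.2) h1.2

/-! ### Cutting out a subgroup by a test on tables -/

theorem card_filter_inf {K₀ H : Subgroup (Equiv.Perm GolayPt)} {L : List (List Nat)}
    (hE : Enum H L) (P : List Nat → Bool)
    (hP : ∀ g ∈ H, (g ∈ K₀ ↔ P (tabOf g) = true)) : Nat.card ↥(K₀ ⊓ H) = L.countP P := by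
  rw [← hE.card_filter P]
  apply Nat.card_congr
  apply Equiv.subtypeEquivRight
  intro g
  rw [Subgroup.mem_inf]
  constructor
  · rintro ⟨h1, h2⟩
    exact ⟨h2, (hP g h2).mp h1⟩
  · rintro ⟨h1, h2⟩
    exact ⟨(hP g h1).mpr h2, h1⟩

end Cfsg.Agent.Lib.Helper86.ChainEnum
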