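import Mathlib
import Cfsg.Agent.Lib.Helper41.EMStmt
import Cfsg.Agent.Lib.Helper44.NegPairs

set_option autoImplicit false

/-!
# S5990 / C2FIX (minus form): helper lemmas (helper86)

Minus-form ports of the S5974C pieces PLUSSUM and QUADVAN (helper53, helper95), stated as plain
theorems for `Cfsg.quadFormMinus (d - 1) F a₀ b₀` on `M d → F`:

* `plusSumM`: the orthogonal sum of two plus-type subspaces is of plus type (any characteristic);
* `sing_of_plusM`: a plus-type subspace of positive finrank contains a nonzero singular vector;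
* `quadVanM`: char 2, `x * x = 1` isometry: if `β(w, x w) = 0` on the singular vectors of a
  nondegenerate `A` containing a nonzero singular vector, then `β(u, x u) = 0` on all of `A`;
* `exists_sing_ne`: the contrapositive: some `u ∈ A` with `β(u, x u) ≠ 0` gives a singular one;
* `Q_sub_eq`: char 2: `Q (x u - u) = β(u, x u)` for an isometry `x`.
-/

namespace Cfsg.Agent.Lib.Helper86.EMC2Lib

open QuadraticMap
open scoped Matrix
open Cfsg.Agent.Lib.Helper44.NegPairs (minusQ)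
open Cfsg.Agent.Lib.Helper45.OMiStmt (M Aniso FxM NDegM StabM)
open Cfsg.Agent.Lib.Helper41.TMTwoStmt (PlusM TSubM)

universe u

theorem plusSumM (F : Type u) [Field F] (a₀ b₀ : F) (d : ℕ) (A B : Submodule F (M d → F))
    (horth : ∀ u ∈ A, ∀ v ∈ B, polar (Cfsg.quadFormMinus (d - 1) F a₀ b₀) u v = 0)
    (hAB : A ⊓ B = ⊥) (hPA : PlusM d F a₀ b₀ A) (hPB : PlusM d F a₀ b₀ B) :
    PlusM d F a₀ b₀ (A ⊔ B) := by
  obtain ⟨UA, hUA, hTA, hfA⟩ := hPA
  obtain ⟨UB, hUB, hTB, hfB⟩ := hPB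
  refine ⟨UA ⊔ UB, sup_le_sup hUA hUB, ?_, ?_⟩
  · intro w hw
    obtain ⟨u, hu, v, hv, rfl⟩ := Submodule.mem_sup.mp hw
    have h := horth u (hUA hu) v (hUB hv)
    have e : Cfsg.quadFormMinus (d - 1) F a₀ b₀ (u + v) =
        Cfsg.quadFormMinus (d - 1) F a₀ b₀ u + Cfsg.quadFormMinus (d - 1) F a₀ b₀ v +
        QuadraticMap.polar (Cfsg.quadFormMinus (d - 1) F a₀ b₀) u v := by
      unfold QuadraticMap.polar; ring
    rw [e, hTA u hu, hTB v hv, h]; simp
  · have h1 := Submodule.finrank_sup_add_finrank_inf_eq UA UB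
    have h2 := Submodule.finrank_sup_add_finrank_inf_eq A B
    have h3 : UA ⊓ UB = ⊥ := by
      rw [eq_bot_iff, ← hAB]; exact inf_le_inf hUA hUB
    rw [h3, finrank_bot] at h1
    rw [hAB, finrank_bot] at h2
    omega

theorem sing_of_plusM (F : Type u) [Field F] (a₀ b₀ : F) (d : ℕ) (W : Submodule F (M d → F))
    (hP : PlusM d F a₀ b₀ W) (hW : 0 < Module.finrank F ↥W) :
    ∃ e ∈ W, e ≠ 0 ∧ Cfsg.quadFormMinus (d - 1) F a₀ b₀ e = 0 := by
  obtain ⟨U, hUW, hts, hUdim⟩ := hP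
  have hUne : U ≠ ⊥ := by
    intro hU
    have h0 : Module.finrank F ↥U = 0 := by rw [hU]; exact finrank_bot F (M d → F)
    omega
  obtain ⟨e, he, he0⟩ := Submodule.exists_mem_ne_zero_of_ne_bot hUne
  exact ⟨e, hUW he, he0, hts e he⟩

theorem quadVanM (F : Type u) [Field F] (a₀ b₀ : F) [CharP F 2] (d : ℕ)
    (x : Matrix.GeneralLinearGroup (M d) F)
    (hx : x ∈ Cfsg.isometryGroup F (Cfsg.quadFormMinus (d - 1) F a₀ b₀))
    (hxx : (x : Matrix (M d) (M d) F) * (x : Matrix (M d) (M d) F) = 1)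
    (A : Submodule F (M d → F)) (hND : NDegM d F a₀ b₀ A)
    (hsingex : ∃ e ∈ A, e ≠ 0 ∧ Cfsg.quadFormMinus (d - 1) F a₀ b₀ e = 0)
    (hsing : ∀ w ∈ A, Cfsg.quadFormMinus (d - 1) F a₀ b₀ w = 0 →
      polar (Cfsg.quadFormMinus (d - 1) F a₀ b₀) w ((x : Matrix (M d) (M d) F) *ᵥ w) = 0) :
    ∀ u ∈ A,
      polar (Cfsg.quadFormMinus (d - 1) F a₀ b₀) u ((x : Matrix (M d) (M d) F) *ᵥ u) = 0 := by
  classical
  obtain ⟨Q, hQ⟩ : ∃ Q : QuadraticForm F (M d → F), Q = minusQ (d - 1) F a₀ b₀ := ⟨_, rfl⟩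
  obtain ⟨X, hX⟩ : ∃ X : (M d → F) →ₗ[F] (M d → F),
      X = Matrix.toLin' (x : Matrix (M d) (M d) F) := ⟨_, rfl⟩
  have h2 : (2 : F) = 0 := CharTwo.two_eq_zero
  have hXX : ∀ v, X (X v) = v := by
    intro v
    rw [hX, Matrix.toLin'_apply, Matrix.toLin'_apply, Matrix.mulVec_mulVec, hxx,
      Matrix.one_mulVec]
  have hXQ : ∀ v, Q (X v) = Q v := by
    intro v
    rw [hX, hQ, Matrix.toLin'_apply]
    exact hx v v
  have hXB : ∀ a b, polar Q (X a) (X b) = polar Q a b := by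
    intro a b
    unfold polar
    rw [← map_add, hXQ, hXQ, hXQ]
  have hsing' : ∀ w ∈ A, Q w = 0 → polar Q w (X w) = 0 := by
    intro w hw hw0
    rw [hQ] at hw0
    have h := hsing w hw hw0
    rw [hX, hQ, Matrix.toLin'_apply]
    exact h
  have hadd : ∀ u v, polar Q (u + v) (X (u + v)) = polar Q u (X u) + polar Q v (X v) := by
    intro u v
    have h1 : polar Q v (X u) = polar Q u (X v) := by
      have h := hXB v (X u)
      rw [hXX] at h
      rw [← h, polar_comm]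
    rw [map_add, polar_add_left, polar_add_right, polar_add_right, h1]
    have h3 : polar Q u (X v) + polar Q u (X v) = 0 := by
      rw [← two_mul, h2, zero_mul]
    linear_combination h3
  have hsmul : ∀ (c : F) u, polar Q (c • u) (X (c • u)) = c * c * polar Q u (X u) := by
    intro c u
    rw [map_smul, polar_smul_left, polar_smul_right]
    simp only [smul_eq_mul]
    ring
  obtain ⟨e, heA, he0, heQ⟩ := hsingex
  have heQ' : Q e = 0 := by rw [hQ]; exact heQ
  have key : ∀ f ∈ A, polar Q e f ≠ 0 → polar Q f (X f) = 0 := by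
    intro f hf hne
    have hw : f + (Q f / polar Q e f) • e ∈ A := A.add_mem hf (A.smul_mem _ heA)
    have hQw : Q (f + (Q f / polar Q e f) • e) = 0 := by
      rw [QuadraticMap.map_add Q f, QuadraticMap.map_smul, heQ', polar_smul_right,
        polar_comm Q f e]
      simp only [smul_eq_mul, mul_zero, add_zero]
      rw [div_mul_cancel₀ _ hne, ← two_mul, h2, zero_mul]
    have h1 := hsing' _ hw hQw
    rw [hadd, hsmul, hsing' e heA heQ', mul_zero, add_zero] at h1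
    exact h1
  intro u hu
  have goal : polar Q u (X u) = 0 := by
    by_cases hex : polar Q e u ≠ 0
    · exact key u hu hex
    · have hex' : polar Q e u = 0 := not_not.mp hex
      obtain ⟨-, f₁, hf₁, hne⟩ := hND e heA he0
      have hne' : polar Q e f₁ ≠ 0 := by
        rw [hQ]
        exact hne
      have h1 := key f₁ hf₁ hne'
      have h3 := key (u + f₁) (A.add_mem hu hf₁)
        (by rw [polar_add_right, hex', zero_add]; exact hne')
      rw [hadd, h1, add_zero] at h3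
      exact h3
  rw [hX, hQ, Matrix.toLin'_apply] at goal
  exact goal

theorem exists_sing_ne (F : Type u) [Field F] (a₀ b₀ : F) [CharP F 2] (d : ℕ)
    (x : Matrix.GeneralLinearGroup (M d) F)
    (hx : x ∈ Cfsg.isometryGroup F (Cfsg.quadFormMinus (d - 1) F a₀ b₀))
    (hxx : (x : Matrix (M d) (M d) F) * (x : Matrix (M d) (M d) F) = 1)
    (A : Submodule F (M d → F)) (hND : NDegM d F a₀ b₀ A)
    (hsingex : ∃ e ∈ A, e ≠ 0 ∧ Cfsg.quadFormMinus (d - 1) F a₀ b₀ e = 0)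
    (hne : ∃ u ∈ A,
      polar (Cfsg.quadFormMinus (d - 1) F a₀ b₀) u ((x : Matrix (M d) (M d) F) *ᵥ u) ≠ 0) :
    ∃ w ∈ A, Cfsg.quadFormMinus (d - 1) F a₀ b₀ w = 0 ∧
      polar (Cfsg.quadFormMinus (d - 1) F a₀ b₀) w ((x : Matrix (M d) (M d) F) *ᵥ w) ≠ 0 := by
  by_contra hcon
  obtain ⟨u, hu, hune⟩ := hne
  refine hune (quadVanM F a₀ b₀ d x hx hxx A hND hsingex (fun w hw hw0 => ?_) u hu)
  by_contra hwne
  exact hcon ⟨w, hw, hw0, hwne⟩

theorem Q_sub_eq (F : Type u) [Field F] (a₀ b₀ : F) [CharP F 2] (d : ℕ)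
    (x : Matrix.GeneralLinearGroup (M d) F)
    (hx : x ∈ Cfsg.isometryGroup F (Cfsg.quadFormMinus (d - 1) F a₀ b₀)) (u : M d → F) :
    Cfsg.quadFormMinus (d - 1) F a₀ b₀ ((x : Matrix (M d) (M d) F) *ᵥ u - u) =
      polar (Cfsg.quadFormMinus (d - 1) F a₀ b₀) u ((x : Matrix (M d) (M d) F) *ᵥ u) := by
  have h2 : (2 : F) = 0 := CharTwo.two_eq_zero
  have hQx : Cfsg.quadFormMinus (d - 1) F a₀ b₀ ((x : Matrix (M d) (M d) F) *ᵥ u) =
      Cfsg.quadFormMinus (d - 1) F a₀ b₀ u := hx u u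
  have h1 : polar (Cfsg.quadFormMinus (d - 1) F a₀ b₀) u ((x : Matrix (M d) (M d) F) *ᵥ u - u)
      = polar (Cfsg.quadFormMinus (d - 1) F a₀ b₀) u ((x : Matrix (M d) (M d) F) *ᵥ u) := by
    have hs := QuadraticMap.polar_sub_right (minusQ (d - 1) F a₀ b₀) u
      ((x : Matrix (M d) (M d) F) *ᵥ u) u
    have hself := QuadraticMap.polar_self (minusQ (d - 1) F a₀ b₀) u
    have hself' : polar (⇑(minusQ (d - 1) F a₀ b₀)) u u = 0 := by
      rw [hself, two_smul, ← two_mul, h2, zero_mul]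
    rw [hself', sub_zero] at hs
    exact hs
  have h3 : Cfsg.quadFormMinus (d - 1) F a₀ b₀ ((x : Matrix (M d) (M d) F) *ᵥ u) =
      Cfsg.quadFormMinus (d - 1) F a₀ b₀ u +
      Cfsg.quadFormMinus (d - 1) F a₀ b₀ ((x : Matrix (M d) (M d) F) *ᵥ u - u) +
      polar (Cfsg.quadFormMinus (d - 1) F a₀ b₀) u ((x : Matrix (M d) (M d) F) *ᵥ u - u) := by
    unfold QuadraticMap.polar
    have : u + ((x : Matrix (M d) (M d) F) *ᵥ u - u) = (x : Matrix (M d) (M d) F) *ᵥ u := by abel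
    rw [this]; ring
  rw [h1, hQx] at h3
  have h4 : polar (Cfsg.quadFormMinus (d - 1) F a₀ b₀) u ((x : Matrix (M d) (M d) F) *ᵥ u) +
      polar (Cfsg.quadFormMinus (d - 1) F a₀ b₀) u ((x : Matrix (M d) (M d) F) *ᵥ u) = 0 := by
    rw [← two_mul, h2, zero_mul]
  linear_combination -h3 - h4

end Cfsg.Agent.Lib.Helper86.EMC2Lib
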