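import Mathlib
import Cfsg.Agent.Lib.Helper68.FixStmt

/-!
# S4414 piece CARD (helper86): `q` divides the size of the `H`-orbit of `w0`
-/

set_option autoImplicit false

namespace Cfsg.Agent.Lib.Helper86.FixCARD

open Cfsg.Agent.Lib.Helper68.FixStmt

universe u v

theorem main : Cfsg.Agent.Lib.Helper68.FixStmt.CARD.{u, v} := by
  intro k _ S _ _ M _ _ ρ V H lam w0 q a hVn hq hq2 hHcard hw0 heig hno
  let act : MulAction ↥H M :=
    MulAction.compHom M ((ρ : S →* Module.End k M).comp H.subtype)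
  have hsmul : ∀ (h : ↥H) (m : M), h • m = ρ (h : S) m := fun h m => rfl
  have hset : (MulAction.orbit ↥H w0 : Set M) = {m : M | ∃ h ∈ H, ρ h w0 = m} := by
    ext m
    constructor
    · rintro ⟨h, rfl⟩
      exact ⟨h.1, h.2, rfl⟩
    · rintro ⟨h, hh, rfl⟩
      exact ⟨⟨h, hh⟩, rfl⟩
  have hcardO : Nat.card {m : M // ∃ h ∈ H, ρ h w0 = m} =
      Nat.card (MulAction.orbit ↥H w0) := by
    rw [hset]
    rfl
  rw [hcardO]
  have h1 : Nat.card (MulAction.stabilizer ↥H w0) * Nat.card (MulAction.orbit ↥H w0) =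
      Nat.card ↥H := by
    have h := Subgroup.card_mul_index (MulAction.stabilizer ↥H w0)
    rw [MulAction.index_stabilizer, ← Nat.card_coe_set_eq] at h
    exact h
  have hnd : ¬ q ∣ Nat.card (MulAction.stabilizer ↥H w0) := by
    intro hd
    have hqf : Fact q.Prime := ⟨hq⟩
    obtain ⟨y, hy⟩ := exists_prime_orderOf_dvd_card' q hd
    have hyS : orderOf ((y : ↥H) : S) = q := by
      rw [Subgroup.orderOf_coe, Subgroup.orderOf_coe]
      exact hy
    have hfix : ρ ((y : ↥H) : S) w0 = w0 := y.2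
    apply hno ((y : ↥H) : S) (y : ↥H).2 hyS
    intro v hv
    have hconj : ((y : ↥H) : S)⁻¹ * v * ((y : ↥H) : S) ∈ V := by
      have h := hVn.conj_mem v hv ((y : ↥H) : S)⁻¹
      simpa using h
    have e1 := heig _ hconj
    have e2 := heig v hv
    have hinv : ρ ((y : ↥H) : S)⁻¹ w0 = w0 := by
      have h : ρ (((y : ↥H) : S)⁻¹) (ρ ((y : ↥H) : S) w0) = w0 := by
        rw [← Module.End.mul_apply, ← map_mul, inv_mul_cancel, map_one, Module.End.one_apply]
      rw [hfix] at h
      exact h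
    have e3 : ρ (((y : ↥H) : S)⁻¹ * v * ((y : ↥H) : S)) w0 = lam v • w0 := by
      rw [map_mul, map_mul, Module.End.mul_apply, Module.End.mul_apply, hfix, e2, map_smul, hinv]
    rw [e3] at e1
    exact (smul_left_injective k hw0 e1).symm
  rw [hHcard] at h1
  have hdvd : q ∣ Nat.card (MulAction.stabilizer ↥H w0) * Nat.card (MulAction.orbit ↥H w0) := by
    rw [h1]
    exact dvd_mul_left q _
  exact (hq.dvd_mul.mp hdvd).resolve_left hnd

end Cfsg.Agent.Lib.Helper86.FixCARD
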