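import Mathlib
import Cfsg.Agent.Lib.Helper68.FixStmt

/-!
# S4414 piece NOQ (helper86): a fixed-point-free element does not fix `lam`
-/

set_option autoImplicit false

namespace Cfsg.Agent.Lib.Helper86.FixNOQ

open Cfsg.Agent.Lib.Helper68.FixStmt

universe u v

theorem main : Cfsg.Agent.Lib.Helper68.FixStmt.NOQ.{u, v} := by
  intro k _ S _ _ M _ _ ρ V lam w y hVn hVab hw heig hne hfpf hfix
  obtain ⟨v0, hv0, hlam0⟩ := hne
  -- `lam` is multiplicative on `V`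
  have hmul : ∀ a ∈ V, ∀ b ∈ V, lam (a * b) = lam a * lam b := by
    intro a ha b hb
    have h1 := heig (a * b) (V.mul_mem ha hb)
    have h2 : ρ (a * b) w = (lam a * lam b) • w := by
      rw [map_mul, Module.End.mul_apply, heig b hb, map_smul, heig a ha, smul_smul, mul_comm]
    rw [h2] at h1
    exact (smul_left_injective k hw h1).symm
  have hone : lam 1 = 1 := by
    have h1 := heig 1 V.one_mem
    rw [map_one, Module.End.one_apply] at h1
    have h2 : (1 : k) • w = lam 1 • w := by rw [one_smul]; exact h1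
    exact (smul_left_injective k hw h2).symm
  have hconj : ∀ u ∈ V, y⁻¹ * u * y ∈ V := by
    intro u hu
    have h := hVn.conj_mem u hu y⁻¹
    simpa using h
  -- the map `u ↦ u⁻¹ * (y⁻¹ * u * y)` of `V`
  obtain ⟨f, hf⟩ : ∃ f : ↥V → ↥V, ∀ u : ↥V, ((f u : ↥V) : S) = (u : S)⁻¹ * (y⁻¹ * (u : S) * y) :=
    ⟨fun u => ⟨(u : S)⁻¹ * (y⁻¹ * (u : S) * y), V.mul_mem (V.inv_mem u.2) (hconj u u.2)⟩,
      fun _ => rfl⟩
  have hinj : Function.Injective f := by
    intro u u' huu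
    have h : (u : S)⁻¹ * (y⁻¹ * (u : S) * y) = (u' : S)⁻¹ * (y⁻¹ * (u' : S) * y) := by
      rw [← hf, ← hf, huu]
    have h2 : y⁻¹ * ((u : S) * (u' : S)⁻¹) * y = (u : S) * (u' : S)⁻¹ := by
      calc y⁻¹ * ((u : S) * (u' : S)⁻¹) * y
          = (u : S) * ((u : S)⁻¹ * (y⁻¹ * (u : S) * y)) * (y⁻¹ * (u' : S) * y)⁻¹ := by group
        _ = (u : S) * ((u' : S)⁻¹ * (y⁻¹ * (u' : S) * y)) * (y⁻¹ * (u' : S) * y)⁻¹ := by rw [h]
        _ = (u : S) * (u' : S)⁻¹ := by group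
    have h3 : y * ((u : S) * (u' : S)⁻¹) * y⁻¹ = (u : S) * (u' : S)⁻¹ := by
      calc y * ((u : S) * (u' : S)⁻¹) * y⁻¹
          = y * (y⁻¹ * ((u : S) * (u' : S)⁻¹) * y) * y⁻¹ := by rw [h2]
        _ = (u : S) * (u' : S)⁻¹ := by group
    have h4 := hfpf _ (V.mul_mem u.2 (V.inv_mem u'.2)) h3
    exact Subtype.ext (mul_inv_eq_one.mp h4)
  have hsurj : Function.Surjective f := Finite.injective_iff_surjective.mp hinj
  apply hlam0
  obtain ⟨u, hu⟩ := hsurj ⟨v0, hv0⟩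
  have hv0eq : v0 = (u : S)⁻¹ * (y⁻¹ * (u : S) * y) := by
    rw [← hf, hu]
  rw [hv0eq, hmul _ (V.inv_mem u.2) _ (hconj u u.2), hfix u u.2, ← hmul _ (V.inv_mem u.2) _ u.2,
    inv_mul_cancel, hone]

end Cfsg.Agent.Lib.Helper86.FixNOQ
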