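import Mathlib
import Cfsg.Agent.Lib.Helper8.GFZ1BStmt

/-!
# S5886 / Z1B sub-piece CONJ1 (helper86): `h⁻¹ * E(m_a) * h = E(A⁻¹ ∘ m_a ∘ D)`
-/

set_option autoImplicit false

namespace Cfsg.Agent.Lib.Helper86.GFZ1BCONJ1

open Cfsg.Agent.Lib.Helper40.GFStmt Cfsg.Agent.Lib.Helper8.GFZ1BStmt

universe u

theorem main : Cfsg.Agent.Lib.Helper8.GFZ1BStmt.Conj1.{u} := by
  intro F L _ _ _ _ c h v v₂ ψ χ A D X d A' hA' a
  obtain ⟨e₀, he₀, hx₀⟩ := inSig_mulLeft c v ψ d.psi_v a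
  have hsurj : Function.Surjective A := Finite.injective_iff_surjective.mp d.Ainj
  have hAA' : ∀ s, A (A' s) = s := by
    intro s
    obtain ⟨t, rfl⟩ := hsurj s
    rw [hA' t]
  have hAv : ∀ s, h (A' s • v) = s • v := by
    intro s
    have h1 := d.act (A' s) 0
    rw [zero_smul, add_zero, map_zero, add_zero, map_zero, zero_smul, add_zero, hAA'] at h1
    exact h1
  have hψh : ∀ x, ψ (h x) = D (ψ x) := by
    intro x
    have hx : h x = h (χ x • v + ψ x • v₂) := congrArg h (d.dec x)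
    rw [d.act] at hx
    rw [hx, map_add, map_smul, map_smul, d.psi_v, d.psi_v2, smul_zero, zero_add, smul_eq_mul,
      mul_one]
  refine ⟨h⁻¹ * e₀ * h, c.M.mul_mem (c.M.mul_mem (c.M.inv_mem d.hM) he₀) d.hM, fun x => ?_⟩
  apply h.injective
  have h1 : h ((h⁻¹ * e₀ * h) x) = e₀ (h x) := by
    have h2 : (h⁻¹ * e₀ * h) x = h⁻¹ (e₀ (h x)) := rfl
    rw [h2, ← LinearEquiv.mul_apply, mul_inv_cancel]
    rfl
  rw [h1, hx₀, map_add, hψh, LinearMap.mulLeft_apply, LinearMap.comp_apply, LinearMap.comp_apply,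
    LinearMap.mulLeft_apply, hAv]

end Cfsg.Agent.Lib.Helper86.GFZ1BCONJ1
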