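import Mathlib
import Cfsg.Agent.Lib.Helper8.GFZ1BStmt

/-!
# S5886 / Z1B sub-piece NORM1 (helper86): normalization `h₁ = g * h`, `h₁ v = v`
-/

set_option autoImplicit false

namespace Cfsg.Agent.Lib.Helper86.GFZ1BNORM1

open Cfsg.Agent.Lib.Helper40.GFStmt Cfsg.Agent.Lib.Helper8.GFZ1BStmt

universe u

theorem main (hT : Cfsg.Agent.Lib.Helper40.GFStmt.GLTrans.{u}) :
    Cfsg.Agent.Lib.Helper8.GFZ1BStmt.Norm1.{u} := by
  intro F L _ _ _ _ c hF2 hr h hh hnl x₀ hx₀ hline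
  have hfd : Module.Finite F L := Module.finite_of_finrank_pos (by omega)
  have hhx : h x₀ ≠ 0 := by
    intro h0
    exact hx₀ (h.map_eq_zero_iff.mp h0)
  obtain ⟨g, hg⟩ := hT L 2 (h x₀) x₀ hhx hx₀
  have hone : ∀ a : F, a ≠ 0 → a = 1 := by
    intro a ha
    obtain ⟨y, hy, huniq⟩ := (Nat.card_eq_two_iff' (0 : F)).mp hF2
    rw [huniq a ha, huniq 1 one_ne_zero]
  have hdet : LinearMap.det (g : V 2 L →ₗ[L] V 2 L) ≠ 0 := (LinearEquiv.isUnit_det' g).ne_zero
  have hnorm : Algebra.norm F (LinearMap.det (g : V 2 L →ₗ[L] V 2 L)) = 1 := by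
    apply hone
    rw [Ne, Algebra.norm_eq_zero_iff]
    exact hdet
  have hgM : g.restrictScalars F ∈ c.M := c.hsub g hnorm
  refine ⟨g.restrictScalars F * h, c.M.mul_mem hgM hh, x₀, hx₀, ?_, ?_, ?_⟩
  · intro hall
    apply hnl
    intro x a
    obtain ⟨a', ha'⟩ := hall x a
    refine ⟨a', ?_⟩
    apply g.injective
    have e1 : (g.restrictScalars F * h) (a • x) = g (h (a • x)) := rfl
    have e2 : (g.restrictScalars F * h) x = g (h x) := rfl
    rw [e1, e2] at ha'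
    rw [ha', map_smul]
  · show g (h x₀) = x₀
    exact hg
  · intro a
    obtain ⟨a', ha'⟩ := hline a
    refine ⟨a', ?_⟩
    show g (h (a • x₀)) = a' • x₀
    rw [ha', map_smul, hg]

end Cfsg.Agent.Lib.Helper86.GFZ1BNORM1
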