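import Mathlib
import Cfsg.Agent.Lib.Helper96.HallAltStmt
import Cfsg.Agent.Lib.Helper11.HSFACT
/-!
# S2538 piece ARB (helper86)
-/

set_option autoImplicit false

namespace Cfsg.Agent.Lib.Helper86.HAARB

open Equiv Cfsg.Agent.Lib.Helper96.HallSymStmt Cfsg.Agent.Lib.Helper96.HallAltStmt

theorem main : Cfsg.Agent.Lib.Helper96.HallAltStmt.ARB := by
  intro a b m k o ha hb hm ho h1 h2 h3
  have hF := Cfsg.Agent.Lib.Helper11.HSFACT.main a b ha
  have h4 : 2 ^ b * m ∣ 2 * (m * o) := by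
    rw [← h3]
    calc 2 ^ b * m ∣ 2 ^ b * (k * b.factorial) := mul_dvd_mul_left _ h2
      _ = (2 ^ b * k) * b.factorial := by ring
      _ ∣ a.factorial ^ b * b.factorial := mul_dvd_mul_right h1 _
      _ ∣ (a * b).factorial := hF
  obtain ⟨b', rfl⟩ : ∃ b', b = b' + 2 := ⟨b - 2, by omega⟩
  have h5 : (2 * m) * 2 ∣ (2 * m) * o := by
    calc (2 * m) * 2 ∣ (2 * m) * 2 * 2 ^ b' := Dvd.intro _ rfl
      _ = 2 ^ (b' + 2) * m := by ring
      _ ∣ 2 * (m * o) := h4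
      _ = (2 * m) * o := by ring
  have h6 : 2 ∣ o := (Nat.mul_dvd_mul_iff_left (by positivity)).mp h5
  exact (Nat.not_even_iff_odd.mpr ho) (even_iff_two_dvd.mpr h6)

end Cfsg.Agent.Lib.Helper86.HAARB
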