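import Mathlib
import Cfsg.Agent.Lib.Helper96.HallAltStmt

/-!
# S2538 piece INVC (helper86)
-/

set_option autoImplicit false

namespace Cfsg.Agent.Lib.Helper86.HAINVC

open Equiv Cfsg.Agent.Lib.Helper96.HallSymStmt Cfsg.Agent.Lib.Helper96.HallAltStmt

theorem main : Cfsg.Agent.Lib.Helper96.HallAltStmt.INVC := by
  intro Ω _ _ c w hc hsupp hodd hw hcomm
  have hw2 : w ^ 2 = 1 := by
    rw [sq]
    exact hw
  have h2 : 2 ∣ w.support.card := Equiv.Perm.two_dvd_card_support hw2
  obtain ⟨x0, hx0⟩ : ∃ x0, x0 ∉ w.support := by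
    by_contra hall
    push Not at hall
    have h3 : w.support = Finset.univ := Finset.eq_univ_iff_forall.mpr hall
    rw [h3, Finset.card_univ] at h2
    exact (Nat.not_even_iff_odd.mpr hodd) (even_iff_two_dvd.mpr h2)
  rw [Perm.notMem_support] at hx0
  have hcs : c.support = Finset.univ := Finset.eq_univ_of_card _ hsupp
  have hcomm' : ∀ j : ℕ, w * c ^ j = c ^ j * w := by
    intro j
    exact (Commute.pow_right (show Commute w c from hcomm) j).eq
  ext y
  have hx0c : x0 ∈ c.support := by
    rw [hcs]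
    exact Finset.mem_univ _
  have hyc : y ∈ c.support := by
    rw [hcs]
    exact Finset.mem_univ _
  obtain ⟨j, hj⟩ := hc.exists_pow_eq (Perm.mem_support.mp hx0c) (Perm.mem_support.mp hyc)
  rw [← hj, ← Perm.mul_apply, hcomm' j, Perm.mul_apply, hx0, Perm.one_apply]

end Cfsg.Agent.Lib.Helper86.HAINVC
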