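import Mathlib
import Cfsg.Agent.Lib.Helper96.HallAltStmt

/-!
# S2538 piece PD1 (helper86)
-/

set_option autoImplicit false

namespace Cfsg.Agent.Lib.Helper86.HAPD1

open Equiv Cfsg.Agent.Lib.Helper96.HallSymStmt Cfsg.Agent.Lib.Helper96.HallAltStmt
open scoped commutatorElement

theorem main : Cfsg.Agent.Lib.Helper96.HallAltStmt.PD1 := by
  intro G _ _ hsolv hnt
  classical
  have hex : ∃ n, derivedSeries G n = ⊥ := hsolv.solvable
  have hm : derivedSeries G (Nat.find hex) = ⊥ := Nat.find_spec hex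
  have hm0 : Nat.find hex ≠ 0 := by
    intro h0
    rw [h0, derivedSeries_zero] at hm
    exact top_ne_bot hm
  obtain ⟨k, hk⟩ := Nat.exists_eq_succ_of_ne_zero hm0
  refine ⟨derivedSeries G k, inferInstance, ?_, ?_⟩
  · intro hbot
    have h1 : Nat.find hex ≤ k := Nat.find_min' hex hbot
    omega
  · intro a ha b hb
    have h1 : ⁅a, b⁆ ∈ derivedSeries G (k + 1) := by
      rw [derivedSeries_succ]
      exact Subgroup.commutator_mem_commutator ha hb
    rw [← Nat.succ_eq_add_one, ← hk, hm, Subgroup.mem_bot] at h1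
    exact commutatorElement_eq_one_iff_mul_comm.mp h1

end Cfsg.Agent.Lib.Helper86.HAPD1
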