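import Mathlib
import Cfsg.Agent.Lib.Helper26.J3Stmt
import Cfsg.Agent.Lib.Helper5.SL2Card

/-!
# S3366 piece COORD (helper86): the normal form is a bijection
-/

set_option autoImplicit false

namespace Cfsg.Agent.Lib.Helper86.J3COORD

open Cfsg.Agent.Lib.Helper26.J3Stmt

universe u

theorem card_SL' : Nat.card SL = 24 := by
  have h := Cfsg.Agent.Lib.Helper5.SL2Card.card_SL_two (F := ZMod 3) (q := 3) (ZMod.card 3)
  exact h.trans (by norm_num)

theorem main : Cfsg.Agent.Lib.Helper26.J3Stmt.COORD.{u} := by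
  intro X _ hH hZ t K ι z κ hT hS hF hκinj hκK hκact
  obtain ⟨hKt, hKR, hKcard⟩ := hS
  obtain ⟨hιR, hιt, hzZ, hz1, hRform, hRuniq, hlaw⟩ := hF
  obtain ⟨hZcard, hZR, hZcomm, hZchar, hZcent⟩ := hZ
  obtain ⟨hfin, hES, hRcard, hRexp, ⟨eq⟩, hO2, hE⟩ := hH
  have hzR : z ∈ R X := hZR hzZ
  refine ⟨ι, z, κ, ?_, hRexp z hzR, fun x => hZcent z hzZ x, hlaw, hκact⟩
  have hmemR : ∀ (u : V) (c : ZMod 3), ι u * z ^ c.val ∈ R X := fun u c =>
    (R X).mul_mem (hιR u) ((R X).pow_mem hzR _)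
  have hinj : Function.Injective
      (fun p : V × ZMod 3 × SL => ι p.1 * z ^ p.2.1.val * κ p.2.2) := by
    rintro ⟨u, c, A⟩ ⟨u', c', A'⟩ h
    simp only at h
    have h1 : (ι u' * z ^ c'.val)⁻¹ * (ι u * z ^ c.val) = κ A' * (κ A)⁻¹ :=
      inv_mul_eq_of_eq_mul (by rw [← mul_assoc]; exact eq_mul_inv_of_mul_eq h)
    have hgK : κ A' * (κ A)⁻¹ ∈ K := K.mul_mem (hκK A') (K.inv_mem (hκK A))
    have hgR : κ A' * (κ A)⁻¹ ∈ R X := by
      rw [← h1]
      exact (R X).mul_mem ((R X).inv_mem (hmemR u' c')) (hmemR u c)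
    have hg1 : κ A' * (κ A)⁻¹ = 1 := by
      have hmem : κ A' * (κ A)⁻¹ ∈ K ⊓ R X := ⟨hgK, hgR⟩
      rw [hKR, Subgroup.mem_bot] at hmem
      exact hmem
    have hκeq : κ A' = κ A := mul_inv_eq_one.mp hg1
    have hAA : A' = A := hκinj hκeq
    subst hAA
    have hr : ι u * z ^ c.val = ι u' * z ^ c'.val := mul_right_cancel h
    obtain ⟨rfl, rfl⟩ := hRuniq u u' c c' hr
    rfl
  have hcardX : Nat.card X = 648 := by
    rw [Subgroup.card_eq_card_quotient_mul_card_subgroup (R X), Nat.card_congr eq.toEquiv,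
      card_SL', hRcard]
  have hcardV : Nat.card V = 9 := by
    rw [Nat.card_eq_fintype_card, Fintype.card_fun, ZMod.card, Fintype.card_fin]
    norm_num
  have hcard3 : Nat.card (ZMod 3) = 3 := by
    rw [Nat.card_eq_fintype_card, ZMod.card]
  exact (Nat.bijective_iff_injective_and_card _).mpr
    ⟨hinj, by rw [Nat.card_prod, Nat.card_prod, card_SL', hcardV, hcard3, hcardX]⟩

end Cfsg.Agent.Lib.Helper86.J3COORD
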