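import Mathlib
import Cfsg.Agent.Lib.Helper26.J3Stmt

/-!
# S3366 piece KACT2 (helper86): the action of `K` as a homomorphism to `SL(2,3)`
-/

set_option autoImplicit false

namespace Cfsg.Agent.Lib.Helper86.J3KACT2

open Cfsg.Agent.Lib.Helper26.J3Stmt
open scoped Matrix

universe u

theorem main : Cfsg.Agent.Lib.Helper26.J3Stmt.KACT2.{u} := by
  intro hK1 X _ hH hZ t K ι z hT hS hF
  have hιinj : Function.Injective ι := by
    intro u u' h
    have h2 := hF.2.2.2.2.2.1 u u' 0 0 (by rw [h])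
    exact h2.1
  choose ρ hρ1 hρ2 hρ3 using (fun k : K => hK1 X hH hZ t K ι z hT hS hF k.1 k.2)
  obtain ⟨L, hL⟩ : ∃ L : K → (V →ₗ[ZMod 3] V), ∀ k u, L k u = ρ k u :=
    ⟨fun k => (AddMonoidHom.mk' (ρ k) (hρ2 k)).toZModLinearMap 3, fun _ _ => rfl⟩
  have hmv : ∀ k u, (LinearMap.toMatrix' (L k)) *ᵥ u = ρ k u := by
    intro k u
    rw [← Matrix.toLin'_apply, Matrix.toLin'_toMatrix', hL]
  have hdet : ∀ k, (LinearMap.toMatrix' (L k)).det = 1 := by
    intro k
    have h := hρ3 k (Pi.single 0 1) (Pi.single 1 1)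
    have hr : (Pi.single (0 : Fin 2) (1 : ZMod 3) : V) 0 * (Pi.single (1 : Fin 2) (1 : ZMod 3) : V) 1 -
        (Pi.single (0 : Fin 2) (1 : ZMod 3) : V) 1 * (Pi.single (1 : Fin 2) (1 : ZMod 3) : V) 0 = 1 := by
      simp
    rw [hr] at h
    rw [Matrix.det_fin_two]
    simp only [LinearMap.toMatrix'_apply, hL]
    linear_combination h
  have hL1 : L 1 = LinearMap.id := by
    apply LinearMap.ext
    intro u
    rw [hL, LinearMap.id_apply]
    apply hιinj
    have h := hρ1 1 u
    simpa using h.symm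
  have hLmul : ∀ k k' : K, L (k * k') = (L k).comp (L k') := by
    intro k k'
    apply LinearMap.ext
    intro u
    rw [LinearMap.comp_apply, hL, hL, hL]
    apply hιinj
    have h := hρ1 (k * k') u
    have h1 := hρ1 k' u
    have h2 := hρ1 k (ρ k' u)
    rw [Subgroup.coe_mul] at h
    have h3 : ι (ρ (k * k') u) * ((k : X) * (k' : X)) =
        ι (ρ k (ρ k' u)) * ((k : X) * (k' : X)) := by
      rw [← h, mul_assoc, h1, ← mul_assoc, h2, mul_assoc]
    exact mul_right_cancel h3
  refine ⟨{ toFun := fun k => ⟨LinearMap.toMatrix' (L k), hdet k⟩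
            map_one' := Subtype.ext (by
              show LinearMap.toMatrix' (L 1) = 1
              rw [hL1, LinearMap.toMatrix'_id])
            map_mul' := fun k k' => Subtype.ext (by
              show LinearMap.toMatrix' (L (k * k')) =
                LinearMap.toMatrix' (L k) * LinearMap.toMatrix' (L k')
              rw [hLmul, LinearMap.toMatrix'_comp]) }, ?_⟩
  intro k u
  show (k : X) * ι u = ι ((LinearMap.toMatrix' (L k)) *ᵥ u) * (k : X)
  rw [hmv]
  exact hρ1 k u

end Cfsg.Agent.Lib.Helper86.J3KACT2
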