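import Cfsg.Agent.Lib.Helper7.M24Main
import Cfsg.Agent.Lib.Helper86.M11Data
import Cfsg.Prelude.Def_Spor_Mathieu

set_option autoImplicit false

namespace Cfsg.Agent.Lib.Helper86.M11Core

open Cfsg Cfsg.Spor Cfsg.Agent.Lib.Helper7.GolayBase Cfsg.Agent.Lib.Helper7.GolayCode
  Cfsg.Agent.Lib.Helper7.M24Mem Cfsg.Agent.Lib.Helper7.GolayRigid
  Cfsg.Agent.Lib.Helper7.GolayPerm Cfsg.Agent.Lib.Helper7.ChainGen
  Cfsg.Agent.Lib.Helper7.M24Data Cfsg.Agent.Lib.Helper7.M24Core
  Cfsg.Agent.Lib.Helper86.M11Data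
open scoped Pointwise

/-- Mask of the dodecad of squares. -/
def dM : Nat := 340831

theorem squareDodecad_eq : squareDodecad = mk dM := by
  unfold squareDodecad
  rw [← wd_qrM 0, support_wd]
  rfl

theorem mem_M12_iff {g : Equiv.Perm GolayPt} : g ∈ M12 ↔ g ∈ M24 ∧ g • mk dM = mk dM := by
  unfold M12
  rw [Subgroup.mem_inf, squareDodecad_eq]
  exact Iff.rfl

theorem pres_of_table {g : Equiv.Perm GolayPt} {t : List Nat} (hr : Rep g t) {c : Nat}
    (h : ∀ i, i < 24 → c.testBit (t.getD i 0) = c.testBit i) : Pres g c := by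
  intro p
  rw [← hr.2 p]
  exact h _ (idx_lt p)

theorem M11_eq : M11 = M12 ⊓ FixL [0] := by
  ext g
  unfold M11
  simp only [Subgroup.mem_inf, MulAction.mem_stabilizer_iff, mem_FixL, List.mem_singleton,
    forall_eq]
  rfl

theorem mem_M11_of_rep {g : Equiv.Perm GolayPt} {t : List Nat} (hg : g ∈ M24) (hr : Rep g t)
    (h0 : t.getD 0 0 = 0) (hD : ∀ i, i < 24 → dM.testBit (t.getD i 0) = dM.testBit i) :
    g ∈ M11 := by
  rw [M11_eq]
  refine ⟨mem_M12_iff.mpr ⟨hg, smul_eq_of_pres (pres_of_table hr hD)⟩, ?_⟩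
  intro f hf
  rw [List.mem_singleton] at hf
  subst hf
  exact hr.apply_eq (by decide) h0

theorem rowsA_rep : ∀ t ∈ rowsA.map (fun r => r.2.2), ∃ g ∈ H, Rep g t := by
  intro t ht
  obtain ⟨r, hr, rfl⟩ := List.mem_map.mp ht
  exact chk_sound H gensT gens_rep rowsA [] (by simp) (by decide +kernel) r hr

theorem gensB_rep : ∀ t ∈ gensB, ∃ g ∈ M11, Rep g t := by
  intro t ht
  simp only [gensB, List.mem_cons, List.not_mem_nil, or_false] at ht
  rcases ht with rfl | rfl | rfl
  · exact ⟨cubeTwist, mem_M11_of_rep (H_le_M24 cube_mem) rep_cube (by decide)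
      (by decide +kernel), rep_cube⟩
  · obtain ⟨g, hg, hr⟩ := rowsA_rep uT (by decide +kernel)
    exact ⟨g, mem_M11_of_rep (H_le_M24 hg) hr (by decide) (by decide +kernel), hr⟩
  · exact ⟨1, Subgroup.one_mem _, rep_one⟩

theorem tabsB_rep : ∀ t ∈ tabsB, ∃ g ∈ M11, Rep g t := by
  intro t ht
  rcases List.mem_append.mp ht with h | h
  · exact gensB_rep t h
  · obtain ⟨r, hr, rfl⟩ := List.mem_map.mp h
    exact chk_sound M11 gensB gensB_rep rowsB [] (by simp) (by decide +kernel) r hr

theorem M11_le_M12 : M11 ≤ M12 := inf_le_left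

/-- Transversal witnesses from a table search. -/
theorem wit_of_tabsB {L : List Nat} {b : Nat} {T : List Nat} (hL : ∀ f ∈ L, f < 24)
    (hb : b < 24) (h : T.all (fun q => tabsB.any (hit L b q)) = true) :
    ∀ q ∈ T, ∃ h ∈ M12 ⊓ FixL L, h (pt b) = pt q := by
  intro q hq
  obtain ⟨g, hgH, hgF, hgb⟩ :=
    exists_of_any M11 tabsB tabsB_rep hL hb (List.all_eq_true.mp h q hq)
  exact ⟨g, ⟨M11_le_M12 hgH, hgF⟩, hgb⟩

theorem pres_dM {g : Equiv.Perm GolayPt} (hg : g ∈ M12) : Pres g dM :=
  pres_of_smul_eq (mem_M12_iff.mp hg).2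

def T1 : List Nat := [1, 2, 3, 4, 6, 8, 9, 12, 13, 16, 18]
def T2 : List Nat := [2, 3, 4, 6, 8, 9, 12, 13, 16, 18]
def T3 : List Nat := [3, 4, 6, 8, 9, 12, 13, 16, 18]
def T4 : List Nat := [4, 6, 8, 9, 12, 13, 16, 18]

/-- An octad that is the only octad meeting a preserved set `c` in a given set `m` of fixed
points is preserved. -/
theorem pres_of_unique {g : Equiv.Perm GolayPt} (hg : g ∈ M24) {c m U : Nat} (hc : Pres g c)
    (hm : ∀ p : GolayPt, m.testBit (idx p) = true → g p = p) (hU : U ∈ octadList)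
    (hUm : U &&& c = m) (huniq : ∀ o ∈ octadList, o &&& c = m → o = U) : Pres g U := by
  apply pres_of_smul_eq
  obtain ⟨hU1, hU2⟩ := mem_octadList.mp hU
  obtain ⟨c', hc', himg⟩ := (mem_supports_iff _).mp (smul_mem_supports hg (mk_mem_supports hU1))
  have hcard : popc c' = 8 := by
    rw [← card_mk, himg, Finset.card_smul_finset, card_mk, hU2]
  have hgm : g • mk m = mk m := by
    ext p
    rw [← Finset.inv_smul_mem_iff, mem_mk, mem_mk]
    constructor
    · intro h
      have h1 := hm _ h
      have h2 : g⁻¹ • p = p := by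
        rw [← h1]
        show g (g⁻¹ p) = p
        simp
      rw [h2] at h
      exact h
    · intro h
      have h1 := hm _ h
      have h2 : g⁻¹ • p = p := by
        show g⁻¹ p = p
        rw [Equiv.Perm.inv_eq_iff_eq, h1]
      rw [h2]
      exact h
  have h1 : mk (c' &&& c) = mk m := by
    rw [mk_and, himg, ← smul_eq_of_pres hc, ← Finset.smul_finset_inter, ← mk_and, hUm, hgm]
  have hc'lt : c' < 2 ^ 24 := codeList_lt c' hc'
  have hUlt : U < 2 ^ 24 := codeList_lt U hU1
  have h2 : c' &&& c = m := by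
    apply mk_injOn _ _ h1
    · exact lt_of_le_of_lt Nat.and_le_left hc'lt
    · rw [← hUm]
      exact lt_of_le_of_lt Nat.and_le_left hUlt
  have h3 := huniq c' (mem_octadList.mpr ⟨hc', hcard⟩) h2
  rw [← himg, h3]

theorem rigid5 : M12 ⊓ FixL [4, 3, 2, 1, 0] = ⊥ := by
  rw [eq_bot_iff]
  intro g hg
  rw [Subgroup.mem_bot]
  have hg12 := mem_M12_iff.mp hg.1
  have hD : Pres g dM := pres_of_smul_eq hg12.2
  have hF0 : ∀ p : GolayPt, (31 : Nat).testBit (idx p) = true → g p = p :=
    fixed_of_list hg.2 (by decide)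
  have hF1 : ∀ p : GolayPt, (4127 : Nat).testBit (idx p) = true → g p = p := by
    have h := fixIter_sound hg12.1 (extra := [dM])
      (by intro c hc; rw [List.mem_singleton] at hc; subst hc; exact hD) 1 31 hF0
    have e : fixIter [dM] 1 31 = 4127 := by decide +kernel
    rw [e] at h
    exact h
  have hm1 : ∀ p : GolayPt, (4121 : Nat).testBit (idx p) = true → g p = p := by
    intro p hp
    apply hF1 p
    have : ∀ i, i < 24 → (4121 : Nat).testBit i = true → (4127 : Nat).testBit i = true := by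
      decide
    exact this _ (idx_lt p) hp
  have hm2 : ∀ p : GolayPt, (4122 : Nat).testBit (idx p) = true → g p = p := by
    intro p hp
    apply hF1 p
    have : ∀ i, i < 24 → (4122 : Nat).testBit i = true → (4127 : Nat).testBit i = true := by
      decide
    exact this _ (idx_lt p) hp
  have hU1 : Pres g 3297305 :=
    pres_of_unique hg12.1 hD hm1
      (mem_octadList.mpr ⟨inCode_sound (by decide +kernel), by decide +kernel⟩)
      (by decide) (by decide +kernel)
  have hU2 : Pres g 692282 :=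
    pres_of_unique hg12.1 hD hm2
      (mem_octadList.mpr ⟨inCode_sound (by decide +kernel), by decide +kernel⟩)
      (by decide) (by decide +kernel)
  apply rigid hg12.1 (extra := [dM, 3297305, 692282]) _ 3 (F := 4127) hF1
  · decide +kernel
  · intro c hc
    simp only [List.mem_cons, List.not_mem_nil, or_false] at hc
    rcases hc with rfl | rfl | rfl
    · exact hD
    · exact hU1
    · exact hU2

theorem card_M11 : Nat.card ↥M11 = 7920 := by
  rw [M11_eq]
  rw [card_step (K := M12) (L := [0]) (b := 1) (T := T1) (by decide) (by decide)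
    (fun g hg => hub_of_pres (pres_dM hg.1) hg.2 (by decide) (by decide) (by decide))
    (wit_of_tabsB (by decide) (by decide) (by decide +kernel))]
  rw [card_step (K := M12) (L := [1, 0]) (b := 2) (T := T2) (by decide) (by decide)
    (fun g hg => hub_of_pres (pres_dM hg.1) hg.2 (by decide) (by decide) (by decide))
    (wit_of_tabsB (by decide) (by decide) (by decide +kernel))]
  rw [card_step (K := M12) (L := [2, 1, 0]) (b := 3) (T := T3) (by decide) (by decide)
    (fun g hg => hub_of_pres (pres_dM hg.1) hg.2 (by decide) (by decide) (by decide))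
    (wit_of_tabsB (by decide) (by decide) (by decide +kernel))]
  rw [card_step (K := M12) (L := [3, 2, 1, 0]) (b := 4) (T := T4) (by decide) (by decide)
    (fun g hg => hub_of_pres (pres_dM hg.1) hg.2 (by decide) (by decide) (by decide))
    (wit_of_tabsB (by decide) (by decide) (by decide +kernel))]
  rw [rigid5, Subgroup.card_bot]
  rfl

end Cfsg.Agent.Lib.Helper86.M11Core
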