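import Cfsg.Agent.Lib.Helper86.M11SylP

set_option autoImplicit false

/-! Every element of prime order of `M11` fixes a point outside the dodecad of squares. -/

namespace Cfsg.Agent.Lib.Helper86.M11Elus

open Cfsg Cfsg.Spor Cfsg.Agent.Lib.Helper7.GolayBase Cfsg.Agent.Lib.Helper7.GolayPerm
  Cfsg.Agent.Lib.Helper86.TabGrp Cfsg.Agent.Lib.Helper86.TabMathieu
  Cfsg.Agent.Lib.Helper86.SmallEnum Cfsg.Agent.Lib.Helper86.M11Core
  Cfsg.Agent.Lib.Helper86.M11Syl Cfsg.Agent.Lib.Helper86.ClassTab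
  Cfsg.Agent.Lib.Helper86.M11SylP

/-- The indices outside the dodecad of squares. -/
def outs : List Nat := [5, 7, 10, 11, 14, 15, 17, 19, 20, 21, 22, 23]

/-- Every table of order `p` in the list fixes an index outside the dodecad. -/
def chk (p : Nat) (L : List (List Nat)) : Bool :=
  L.all (fun t => t == idT || !(tpow t p == idT) || outs.any (fun i => t.getD i 0 == i))

theorem outs_spec : ∀ i ∈ outs, i < 24 ∧ dM.testBit i = false := by decide

theorem fixed_of_enum (p : ℕ) [Fact p.Prime] {gT L : List (List Nat)} (hE : Enum (grp gT) L)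
    (hle : grp gT ≤ M11) (hcard : L.length = p ^ (7920).factorization p)
    (hchk : chk p L = true) {g : Equiv.Perm GolayPt} (hg : g ∈ M11) (hord : orderOf g = p) :
    ∃ x : GolayPt, x ∉ squareDodecad ∧ g x = x := by
  have hc : Nat.card (grp gT) = p ^ (Nat.card M11).factorization p := by
    rw [hE.card, card_M11, hcard]
  obtain ⟨k, hk, hmem⟩ := conj_into p hle hc hg (n := 1) (by rw [pow_one]; exact hord)
  obtain ⟨t, ht, hr⟩ := hE.cov _ hmem
  have hg1 : g ≠ 1 := by
    rintro rfl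
    rw [orderOf_one] at hord
    exact (Fact.out : p.Prime).one_lt.ne hord
  have h1 := List.all_eq_true.mp hchk t ht
  simp only [Bool.or_eq_true, beq_iff_eq, Bool.not_eq_true', beq_eq_false_iff_ne, ne_eq,
    List.any_eq_true] at h1
  rcases h1 with (h1 | h1) | ⟨i, hi, h1⟩
  · exfalso
    subst h1
    have e : k * g * k⁻¹ = 1 := hr.eq_one
    apply hg1
    have : g = k⁻¹ * (k * g * k⁻¹) * k := by group
    rw [this, e]; group
  · exfalso
    apply h1
    have h2 := rep_pow hr p
    have e : (k * g * k⁻¹) ^ p = 1 := by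
      rw [conj_pow, ← hord, pow_orderOf_eq_one]; group
    rw [e] at h2
    exact rep_unique h2 rep_one
  · obtain ⟨hi24, hiD⟩ := outs_spec i hi
    have hfix : (k * g * k⁻¹) (pt i) = pt i := hr.apply_eq hi24 h1
    have hkM : k⁻¹ ∈ M12 := M11_le_M12 (M11.inv_mem hk)
    refine ⟨k⁻¹ (pt i), ?_, ?_⟩
    · rw [squareDodecad_eq, mem_mk, pres_dM hkM (pt i), idx_pt hi24, hiD]
      simp
    · have h2 : k (g (k⁻¹ (pt i))) = pt i := hfix
      have h3 : k⁻¹ (k (g (k⁻¹ (pt i)))) = k⁻¹ (pt i) := by rw [h2]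
      simpa using h3
end Cfsg.Agent.Lib.Helper86.M11Elus
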