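import Cfsg.Agent.Lib.Helper86.M11Core

set_option autoImplicit false

namespace Cfsg.Agent.Lib.Helper86.M11Syl

open Cfsg Cfsg.Spor Cfsg.Agent.Lib.Helper7.GolayBase Cfsg.Agent.Lib.Helper7.GolayPerm
  Cfsg.Agent.Lib.Helper86.M11Data Cfsg.Agent.Lib.Helper86.M11Core

/-- Table of a power. -/
def tpow (t : List Nat) : Nat → List Nat
  | 0 => idT
  | n + 1 => tmul t (tpow t n)

theorem rep_pow {g : Equiv.Perm GolayPt} {t : List Nat} (h : Rep g t) :
    ∀ n : Nat, Rep (g ^ n) (tpow t n)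
  | 0 => by rw [pow_zero]; exact rep_one
  | n + 1 => by rw [pow_succ']; exact h.mul (rep_pow h n)

theorem ne_one_of_rep {g : Equiv.Perm GolayPt} {t : List Nat} (h : Rep g t) {i : Nat}
    (hi : i < 24) (hne : t.getD i 0 ≠ i) : g ≠ 1 := by
  rintro rfl
  apply hne
  have := h.2 (pt i)
  rw [idx_pt hi] at this
  rw [this]
  show idx (pt i) = i
  exact idx_pt hi

/-- The explicit semidihedral data in `M11`: an element `a` of order 8, an involution `b` with
`b a b⁻¹ = a³`, and elements fusing `a⁴` to `b` and `a²` to `a⁵ b`. -/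
theorem exists_data : ∃ a b g₁ g₂ : Equiv.Perm GolayPt, a ∈ M11 ∧ b ∈ M11 ∧ g₁ ∈ M11 ∧ g₂ ∈ M11 ∧
    a ^ 8 = 1 ∧ a ^ 4 ≠ 1 ∧ b ^ 2 = 1 ∧ b * a * b⁻¹ = a ^ 3 ∧ g₁ * a ^ 4 * g₁⁻¹ = b ∧
    g₂ * a ^ 2 * g₂⁻¹ = a ^ 5 * b := by
  obtain ⟨a, ha, hra⟩ := tabsB_rep aT (by decide +kernel)
  obtain ⟨b, hb, hrb⟩ := tabsB_rep bT (by decide +kernel)
  obtain ⟨g₁, hg₁, hr1⟩ := tabsB_rep g1T (by decide +kernel)
  obtain ⟨g₂, hg₂, hr2⟩ := tabsB_rep g2T (by decide +kernel)
  refine ⟨a, b, g₁, g₂, ha, hb, hg₁, hg₂, ?_, ?_, ?_, ?_, ?_, ?_⟩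
  · have h := rep_pow hra 8
    have e : tpow aT 8 = idT := by decide +kernel
    rw [e] at h
    exact h.eq_one
  · have h := rep_pow hra 4
    exact ne_one_of_rep h (i := 1) (by decide) (by decide +kernel)
  · have h := rep_pow hrb 2
    have e : tpow bT 2 = idT := by decide +kernel
    rw [e] at h
    exact h.eq_one
  · have h1 : b * a = a ^ 3 * b := by
      have hL := hrb.mul hra
      have hR := (rep_pow hra 3).mul hrb
      have e : tmul bT aT = tmul (tpow aT 3) bT := by decide +kernel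
      rw [e] at hL
      exact hL.ext hR
    rw [h1]; group
  · have h1 : g₁ * a ^ 4 = b * g₁ := by
      have hL := hr1.mul (rep_pow hra 4)
      have hR := hrb.mul hr1
      have e : tmul g1T (tpow aT 4) = tmul bT g1T := by decide +kernel
      rw [e] at hL
      exact hL.ext hR
    rw [h1]; group
  · have h1 : g₂ * a ^ 2 = a ^ 5 * b * g₂ := by
      have hL := hr2.mul (rep_pow hra 2)
      have hR := ((rep_pow hra 5).mul hrb).mul hr2
      have e : tmul g2T (tpow aT 2) = tmul (tmul (tpow aT 5) bT) g2T := by decide +kernel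
      rw [e] at hL
      exact hL.ext hR
    rw [h1]; group

end Cfsg.Agent.Lib.Helper86.M11Syl
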