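import Cfsg.Agent.Lib.Helper86.TabGrp
import Cfsg.Agent.Lib.Helper86.M11Core
import Cfsg.Agent.Lib.Helper7.M24Main
import Cfsg.Agent.Lib.Helper7.M12Core

set_option autoImplicit false

/-!
# The Mathieu groups as table groups

Membership tests on tables for `M24`, `M23`, `M22`, `M12`, their orders, and the sets they
preserve, in the form needed by `TabGrp`.
-/

namespace Cfsg.Agent.Lib.Helper86.TabMathieu

open Cfsg Cfsg.Spor Cfsg.Agent.Lib.Helper7.GolayBase Cfsg.Agent.Lib.Helper7.GolayCode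
  Cfsg.Agent.Lib.Helper7.M24Mem Cfsg.Agent.Lib.Helper7.GolayRigid
  Cfsg.Agent.Lib.Helper7.GolayPerm Cfsg.Agent.Lib.Helper7.ChainGen
  Cfsg.Agent.Lib.Helper86.TabGrp Cfsg.Agent.Lib.Helper86.M11Core

theorem pres_single {g : Equiv.Perm GolayPt} {i : Nat} (hi : i < 24) (h : g (pt i) = pt i) :
    Pres g (2 ^ i) := by
  intro p
  rw [Nat.testBit_two_pow, Nat.testBit_two_pow]
  congr 1
  apply propext
  constructor
  · intro e
    have h1 : g p = pt i := by rw [e, pt_idx]
    have h2 : g p = g (pt i) := by rw [h1, h]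
    have h3 := g.injective h2
    rw [h3, idx_pt hi]
  · intro e
    have h1 : pt i = p := by rw [e, pt_idx]
    rw [h1] at h
    rw [h]
    exact e

theorem M23_eq : M23 = M24 ⊓ FixL [23] := by
  ext g
  unfold M23
  simp only [Subgroup.mem_inf, MulAction.mem_stabilizer_iff, mem_FixL, List.mem_singleton,
    forall_eq]
  rfl

theorem M22_eq : M22 = M24 ⊓ FixL [0, 23] := by
  ext g
  unfold M22
  rw [M23_eq]
  simp only [Subgroup.mem_inf, MulAction.mem_stabilizer_iff, mem_FixL,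
    forall_eq, List.mem_cons, List.not_mem_nil, or_false, forall_eq_or_imp]
  constructor
  · rintro ⟨⟨h1, h2⟩, h3⟩
    exact ⟨h1, h3, h2⟩
  · rintro ⟨h1, h3, h2⟩
    exact ⟨⟨h1, h2⟩, h3⟩

theorem M12_eq : M12 = Cfsg.Agent.Lib.Helper7.M12Core.K12 := by
  ext g
  rw [mem_M12_iff]
  rfl

theorem card_M23 : Nat.card ↥M23 = 10200960 := by
  rw [M23_eq]; exact Cfsg.Agent.Lib.Helper7.M24Main.card1

theorem card_M22 : Nat.card ↥M22 = 443520 := by
  rw [M22_eq]; exact Cfsg.Agent.Lib.Helper7.M24Main.card2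

theorem card_M12 : Nat.card ↥M12 = 95040 := by
  rw [M12_eq]; exact Cfsg.Agent.Lib.Helper7.M12Core.card_K12

theorem M23_le : M23 ≤ M24 := inf_le_left
theorem M22_le : M22 ≤ M24 := inf_le_left.trans M23_le
theorem M12_le : M12 ≤ M24 := inf_le_left

/-! ### Membership from tables -/

def inM24 (t t' : List Nat) : Bool := invOK t t' && inM24T t'
def inM23 (t t' : List Nat) : Bool := inM24 t t' && t.getD 23 0 == 23
def inM22 (t t' : List Nat) : Bool := inM23 t t' && t.getD 0 0 == 0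
def inM12 (t t' : List Nat) : Bool :=
  inM24 t t' && (List.range 24).all (fun i => dM.testBit (t.getD i 0) == dM.testBit i)

theorem exists_M24 (t t' : List Nat) (h : inM24 t t' = true) :
    ∃ g ∈ M24, Rep g t ∧ Rep g⁻¹ t' := by
  simp only [inM24, Bool.and_eq_true] at h
  exact exists_M24_of_table t t' h.1 h.2

theorem exists_M23 (t t' : List Nat) (h : inM23 t t' = true) :
    ∃ g ∈ M23, Rep g t ∧ Rep g⁻¹ t' := by
  simp only [inM23, Bool.and_eq_true, beq_iff_eq] at h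
  obtain ⟨g, hg, hr, hr'⟩ := exists_M24 t t' h.1
  refine ⟨g, ?_, hr, hr'⟩
  rw [M23_eq]
  refine ⟨hg, ?_⟩
  intro f hf
  rw [List.mem_singleton] at hf
  subst hf
  exact hr.apply_eq (by decide) h.2

theorem exists_M22 (t t' : List Nat) (h : inM22 t t' = true) :
    ∃ g ∈ M22, Rep g t ∧ Rep g⁻¹ t' := by
  simp only [inM22, Bool.and_eq_true, beq_iff_eq] at h
  obtain ⟨g, hg, hr, hr'⟩ := exists_M23 t t' h.1
  refine ⟨g, ?_, hr, hr'⟩
  rw [M23_eq] at hg
  rw [M22_eq]
  refine ⟨hg.1, ?_⟩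
  intro f hf
  simp only [List.mem_cons, List.not_mem_nil, or_false] at hf
  rcases hf with rfl | rfl
  · exact hr.apply_eq (by decide) h.2
  · exact hg.2 23 (by simp)

theorem exists_M12 (t t' : List Nat) (h : inM12 t t' = true) :
    ∃ g ∈ M12, Rep g t ∧ Rep g⁻¹ t' := by
  simp only [inM12, Bool.and_eq_true, List.all_eq_true, List.mem_range, beq_iff_eq] at h
  obtain ⟨g, hg, hr, hr'⟩ := exists_M24 t t' h.1
  exact ⟨g, mem_M12_iff.mpr ⟨hg, smul_eq_of_pres (pres_of_table hr h.2)⟩, hr, hr'⟩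

theorem all_pairs {K : Subgroup (Equiv.Perm GolayPt)} {f : List Nat → List Nat → Bool}
    (hf : ∀ t t', f t t' = true → ∃ g ∈ K, Rep g t ∧ Rep g⁻¹ t')
    (Cg : List (List Nat × List Nat)) (h : Cg.all (fun c => f c.1 c.2) = true) :
    ∀ c ∈ Cg, ∃ g ∈ K, Rep g c.1 ∧ Rep g⁻¹ c.2 :=
  fun c hc => hf c.1 c.2 (List.all_eq_true.mp h c hc)

theorem all_gens {K : Subgroup (Equiv.Perm GolayPt)} {f : List Nat → List Nat → Bool}
    (hf : ∀ t t', f t t' = true → ∃ g ∈ K, Rep g t ∧ Rep g⁻¹ t')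
    (gT : List (List Nat)) (h : gT.all (fun t => f t t) = true) :
    ∀ t ∈ gT, ∃ g ∈ K, Rep g t := by
  intro t ht
  obtain ⟨g, hg, hr, -⟩ := hf t t (List.all_eq_true.mp h t ht)
  exact ⟨g, hg, hr⟩

/-! ### Preserved sets -/

theorem extra_M24 : ∀ g ∈ M24, ∀ c ∈ ([] : List Nat), Pres g c := by
  intro g _ c hc
  exact absurd hc List.not_mem_nil

theorem extra_M23 : ∀ g ∈ M23, ∀ c ∈ [8388608], Pres g c := by
  intro g hg c hc
  rw [List.mem_singleton] at hc
  subst hc
  rw [M23_eq] at hg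
  have e : (8388608 : Nat) = 2 ^ 23 := by norm_num
  rw [e]
  exact pres_single (by decide) (hg.2 23 (by simp))

theorem extra_M22 : ∀ g ∈ M22, ∀ c ∈ [8388608, 1], Pres g c := by
  intro g hg c hc
  rw [M22_eq] at hg
  simp only [List.mem_cons, List.not_mem_nil, or_false] at hc
  rcases hc with rfl | rfl
  · have e : (8388608 : Nat) = 2 ^ 23 := by norm_num
    rw [e]
    exact pres_single (by decide) (hg.2 23 (by simp))
  · have e : (1 : Nat) = 2 ^ 0 := by norm_num
    rw [e]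
    exact pres_single (by decide) (hg.2 0 (by simp))

theorem extra_M12 : ∀ g ∈ M12, ∀ c ∈ [340831], Pres g c := by
  intro g hg c hc
  rw [List.mem_singleton] at hc
  subst hc
  exact pres_dM hg

/-- The final step for `M12`: an element fixing the five base points of the dodecad is
trivial. -/
theorem rigid_end12 (H : Subgroup (Equiv.Perm GolayPt)) (F : List Nat)
    (hF : ∀ f ∈ [4, 3, 2, 1, 0], f ∈ F) :
    (M12 ⊓ Subgroup.normalizer (H : Set (Equiv.Perm GolayPt))) ⊓ FixL F ≤ H := by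
  intro g hg
  have h1 : g ∈ M12 ⊓ FixL [4, 3, 2, 1, 0] := ⟨hg.1.1, fun f hf => hg.2 f (hF f hf)⟩
  rw [rigid5, Subgroup.mem_bot] at h1
  rw [h1]
  exact H.one_mem

end Cfsg.Agent.Lib.Helper86.TabMathieu
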