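import Cfsg.Agent.Lib.Helper86.SmallEnum
import Cfsg.Agent.Lib.Helper86.TabMathieu
import Cfsg.Agent.Lib.Helper86.M11Syl
import Cfsg.Agent.Lib.Helper86.ClassTab

set_option autoImplicit false

/-! Generated data: Sylow `p`-subgroups of `M11` for `p = 2, 3, 5, 11`, enumerated by tables;
every element of prime order of `M11` fixes a point outside the dodecad of squares. -/

namespace Cfsg.Agent.Lib.Helper86.M11SylP

open Cfsg Cfsg.Spor Cfsg.Agent.Lib.Helper7.GolayBase Cfsg.Agent.Lib.Helper7.GolayPerm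
  Cfsg.Agent.Lib.Helper86.TabGrp Cfsg.Agent.Lib.Helper86.TabMathieu
  Cfsg.Agent.Lib.Helper86.SmallEnum Cfsg.Agent.Lib.Helper86.M11Core
  Cfsg.Agent.Lib.Helper86.M11Syl Cfsg.Agent.Lib.Helper86.ClassTab

/-- Table test for membership in `M11`. -/
def inM11 (t t' : List Nat) : Bool := inM12 t t' && t.getD 0 0 == 0

theorem exists_M11 (t t' : List Nat) (h : inM11 t t' = true) :
    ∃ g ∈ M11, Rep g t ∧ Rep g⁻¹ t' := by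
  simp only [inM11, Bool.and_eq_true, beq_iff_eq] at h
  obtain ⟨g, hg, hr, hr'⟩ := exists_M12 t t' h.1
  refine ⟨g, ?_, hr, hr'⟩
  rw [M11_eq]
  refine ⟨hg, ?_⟩
  intro f hf
  rw [List.mem_singleton] at hf
  subst hf
  exact hr.apply_eq (by decide) h.2

theorem gens_M11 (gT : List (List Nat))
    (h : gT.all (fun t => gT.any (fun t' => inM11 t t')) = true) :
    ∀ t ∈ gT, ∃ g ∈ M11, Rep g t := by
  intro t ht
  have h1 := List.all_eq_true.mp h t ht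
  rw [List.any_eq_true] at h1
  obtain ⟨t', -, h2⟩ := h1
  obtain ⟨g, hg, hr, -⟩ := exists_M11 t t' h2
  exact ⟨g, hg, hr⟩

/-- Generators (with their inverses) of a Sylow 2-subgroup of `M11`. -/
def gT2 : List (List Nat) := [
  [0, 2, 18, 9, 3, 21, 4, 17, 16, 1, 15, 19, 12, 6, 11, 22, 8, 10, 13, 20, 14, 23, 5, 7],
  [0, 9, 1, 4, 6, 22, 13, 23, 16, 3, 17, 14, 12, 18, 20, 10, 8, 7, 2, 11, 19, 5, 15, 21],
  [0, 3, 2, 1, 4, 17, 18, 10, 16, 13, 7, 20, 12, 9, 14, 15, 8, 5, 6, 19, 11, 22, 21, 23]]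

/-- The tables of the Sylow 2-subgroup. -/
def L2 : List (List Nat) := [
  [0, 1, 2, 3, 4, 5, 6, 7, 8, 9, 10, 11, 12, 13, 14, 15, 16, 17, 18, 19, 20, 21, 22, 23],
  [0, 2, 18, 9, 3, 21, 4, 17, 16, 1, 15, 19, 12, 6, 11, 22, 8, 10, 13, 20, 14, 23, 5, 7],
  [0, 9, 1, 4, 6, 22, 13, 23, 16, 3, 17, 14, 12, 18, 20, 10, 8, 7, 2, 11, 19, 5, 15, 21],
  [0, 3, 2, 1, 4, 17, 18, 10, 16, 13, 7, 20, 12, 9, 14, 15, 8, 5, 6, 19, 11, 22, 21, 23],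
  [0, 18, 13, 1, 9, 23, 3, 10, 8, 2, 22, 20, 12, 4, 19, 5, 16, 15, 6, 14, 11, 7, 21, 17],
  [0, 2, 6, 13, 1, 22, 4, 5, 8, 3, 15, 19, 12, 18, 20, 21, 16, 7, 9, 11, 14, 23, 17, 10],
  [0, 3, 9, 6, 13, 15, 18, 21, 8, 4, 7, 20, 12, 2, 19, 17, 16, 23, 1, 14, 11, 22, 10, 5],
  [0, 13, 3, 4, 18, 21, 9, 23, 8, 1, 5, 14, 12, 6, 11, 7, 16, 10, 2, 20, 19, 17, 15, 22],
  [0, 9, 18, 2, 3, 10, 13, 15, 8, 6, 17, 14, 12, 1, 11, 22, 16, 21, 4, 20, 19, 5, 23, 7],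
  [0, 4, 1, 9, 6, 7, 2, 17, 8, 18, 23, 19, 12, 3, 20, 10, 16, 22, 13, 11, 14, 15, 5, 21],
  [0, 13, 6, 2, 1, 7, 9, 15, 16, 18, 5, 14, 12, 3, 20, 21, 8, 22, 4, 11, 19, 17, 23, 10],
  [0, 6, 9, 3, 13, 23, 1, 7, 16, 2, 21, 11, 12, 4, 19, 17, 8, 15, 18, 14, 20, 10, 22, 5],
  [0, 18, 4, 6, 2, 5, 3, 21, 16, 9, 22, 20, 12, 13, 14, 23, 8, 17, 1, 19, 11, 7, 10, 15],
  [0, 1, 13, 18, 9, 15, 6, 22, 16, 4, 10, 11, 12, 2, 19, 5, 8, 23, 3, 14, 20, 21, 7, 17],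
  [0, 4, 3, 13, 18, 10, 2, 5, 16, 6, 23, 19, 12, 1, 11, 7, 8, 21, 9, 20, 14, 15, 17, 22],
  [0, 6, 4, 18, 2, 17, 1, 22, 8, 13, 21, 11, 12, 9, 14, 23, 16, 5, 3, 19, 20, 10, 7, 15]]

/-- How each table arises from a generator and an earlier table. -/
def rows2 : List (Nat × Nat) := [(0, 0), (1, 0), (2, 0), (0, 1), (2, 1), (1, 2), (2, 2), (0, 3), (1, 3), (0, 4), (2, 4), (0, 5), (1, 5), (1, 6), (0, 10)]

theorem hE2 : Enum (grp gT2) L2 := enum_small gT2 L2 rows2 (by decide +kernel)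

theorem grpLe2 : grp gT2 ≤ M11 := grp_le gT2 M11 (gens_M11 gT2 (by decide +kernel))

/-- Generators (with their inverses) of a Sylow 3-subgroup of `M11`. -/
def gT3 : List (List Nat) := [
  [0, 1, 2, 9, 13, 15, 3, 17, 18, 6, 7, 11, 8, 16, 20, 19, 4, 10, 12, 5, 21, 14, 22, 23],
  [0, 1, 2, 6, 16, 19, 9, 10, 12, 3, 17, 11, 18, 4, 21, 5, 13, 7, 8, 15, 14, 20, 22, 23],
  [0, 1, 2, 8, 9, 5, 12, 17, 16, 18, 7, 23, 13, 6, 21, 15, 3, 10, 4, 19, 14, 20, 11, 22],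
  [0, 1, 2, 16, 18, 5, 13, 10, 3, 4, 17, 22, 6, 12, 20, 15, 8, 7, 9, 19, 21, 14, 23, 11]]

/-- The tables of the Sylow 3-subgroup. -/
def L3 : List (List Nat) := [
  [0, 1, 2, 3, 4, 5, 6, 7, 8, 9, 10, 11, 12, 13, 14, 15, 16, 17, 18, 19, 20, 21, 22, 23],
  [0, 1, 2, 9, 13, 15, 3, 17, 18, 6, 7, 11, 8, 16, 20, 19, 4, 10, 12, 5, 21, 14, 22, 23],
  [0, 1, 2, 6, 16, 19, 9, 10, 12, 3, 17, 11, 18, 4, 21, 5, 13, 7, 8, 15, 14, 20, 22, 23],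
  [0, 1, 2, 8, 9, 5, 12, 17, 16, 18, 7, 23, 13, 6, 21, 15, 3, 10, 4, 19, 14, 20, 11, 22],
  [0, 1, 2, 16, 18, 5, 13, 10, 3, 4, 17, 22, 6, 12, 20, 15, 8, 7, 9, 19, 21, 14, 23, 11],
  [0, 1, 2, 18, 6, 15, 8, 10, 4, 12, 17, 23, 16, 3, 14, 19, 9, 7, 13, 5, 20, 21, 11, 22],
  [0, 1, 2, 4, 12, 15, 16, 7, 9, 13, 10, 22, 3, 8, 21, 19, 18, 17, 6, 5, 14, 20, 23, 11],
  [0, 1, 2, 12, 3, 19, 18, 7, 13, 8, 10, 23, 4, 9, 20, 5, 6, 17, 16, 15, 21, 14, 11, 22],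
  [0, 1, 2, 13, 8, 19, 4, 17, 6, 16, 7, 22, 9, 18, 14, 5, 12, 10, 3, 15, 20, 21, 23, 11]]

/-- How each table arises from a generator and an earlier table. -/
def rows3 : List (Nat × Nat) := [(0, 0), (1, 0), (2, 0), (3, 0), (2, 1), (3, 1), (2, 2), (3, 2)]

theorem hE3 : Enum (grp gT3) L3 := enum_small gT3 L3 rows3 (by decide +kernel)

theorem grpLe3 : grp gT3 ≤ M11 := grp_le gT3 M11 (gens_M11 gT3 (by decide +kernel))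

/-- Generators (with their inverses) of a Sylow 5-subgroup of `M11`. -/
def gT5 : List (List Nat) := [
  [0, 1, 16, 13, 2, 15, 12, 23, 9, 3, 22, 11, 4, 18, 21, 20, 6, 7, 8, 19, 14, 5, 17, 10],
  [0, 1, 4, 9, 12, 21, 16, 17, 18, 8, 23, 11, 6, 3, 20, 5, 2, 22, 13, 19, 15, 14, 10, 7]]

/-- The tables of the Sylow 5-subgroup. -/
def L5 : List (List Nat) := [
  [0, 1, 2, 3, 4, 5, 6, 7, 8, 9, 10, 11, 12, 13, 14, 15, 16, 17, 18, 19, 20, 21, 22, 23],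
  [0, 1, 16, 13, 2, 15, 12, 23, 9, 3, 22, 11, 4, 18, 21, 20, 6, 7, 8, 19, 14, 5, 17, 10],
  [0, 1, 4, 9, 12, 21, 16, 17, 18, 8, 23, 11, 6, 3, 20, 5, 2, 22, 13, 19, 15, 14, 10, 7],
  [0, 1, 6, 18, 16, 20, 4, 10, 3, 13, 17, 11, 2, 8, 5, 14, 12, 23, 9, 19, 21, 15, 7, 22],
  [0, 1, 12, 8, 6, 14, 2, 22, 13, 18, 7, 11, 16, 9, 15, 21, 4, 10, 3, 19, 5, 20, 23, 17]]

/-- How each table arises from a generator and an earlier table. -/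
def rows5 : List (Nat × Nat) := [(0, 0), (1, 0), (0, 1), (1, 2)]

theorem hE5 : Enum (grp gT5) L5 := enum_small gT5 L5 rows5 (by decide +kernel)

theorem grpLe5 : grp gT5 ≤ M11 := grp_le gT5 M11 (gens_M11 gT5 (by decide +kernel))

/-- Generators (with their inverses) of a Sylow 11-subgroup of `M11`. -/
def gT11 : List (List Nat) := [
  [0, 18, 6, 12, 13, 23, 4, 17, 1, 2, 20, 21, 8, 16, 7, 19, 3, 10, 9, 14, 11, 5, 22, 15],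
  [0, 8, 9, 16, 6, 21, 2, 14, 12, 18, 17, 20, 3, 4, 19, 23, 13, 7, 1, 15, 10, 11, 22, 5]]

/-- The tables of the Sylow 11-subgroup. -/
def L11 : List (List Nat) := [
  [0, 1, 2, 3, 4, 5, 6, 7, 8, 9, 10, 11, 12, 13, 14, 15, 16, 17, 18, 19, 20, 21, 22, 23],
  [0, 18, 6, 12, 13, 23, 4, 17, 1, 2, 20, 21, 8, 16, 7, 19, 3, 10, 9, 14, 11, 5, 22, 15],
  [0, 8, 9, 16, 6, 21, 2, 14, 12, 18, 17, 20, 3, 4, 19, 23, 13, 7, 1, 15, 10, 11, 22, 5],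
  [0, 9, 4, 8, 16, 15, 13, 10, 18, 6, 11, 5, 1, 3, 17, 14, 12, 20, 2, 7, 21, 23, 22, 19],
  [0, 12, 18, 13, 2, 11, 9, 19, 3, 1, 7, 10, 16, 6, 15, 5, 4, 14, 8, 23, 17, 20, 22, 21],
  [0, 2, 13, 1, 3, 19, 16, 20, 9, 4, 21, 23, 18, 12, 10, 7, 8, 11, 6, 17, 5, 15, 22, 14],
  [0, 3, 1, 4, 9, 20, 18, 15, 16, 8, 14, 17, 13, 2, 23, 21, 6, 19, 12, 5, 7, 10, 22, 11],
  [0, 6, 16, 18, 12, 14, 3, 11, 2, 13, 5, 15, 9, 8, 20, 17, 1, 21, 4, 10, 23, 19, 22, 7],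
  [0, 16, 8, 6, 18, 10, 1, 23, 13, 12, 19, 7, 4, 9, 5, 11, 2, 15, 3, 21, 14, 17, 22, 20],
  [0, 4, 3, 9, 8, 7, 12, 21, 6, 16, 23, 19, 2, 1, 11, 10, 18, 5, 13, 20, 15, 14, 22, 17],
  [0, 13, 12, 2, 1, 17, 8, 5, 4, 3, 15, 14, 6, 18, 21, 20, 9, 23, 16, 11, 19, 7, 22, 10]]

/-- How each table arises from a generator and an earlier table. -/
def rows11 : List (Nat × Nat) := [(0, 0), (1, 0), (0, 1), (1, 2), (0, 3), (1, 4), (0, 5), (1, 6), (0, 7), (1, 8)]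

theorem hE11 : Enum (grp gT11) L11 := enum_small gT11 L11 rows11 (by decide +kernel)

theorem grpLe11 : grp gT11 ≤ M11 := grp_le gT11 M11 (gens_M11 gT11 (by decide +kernel))

end Cfsg.Agent.Lib.Helper86.M11SylP
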