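import Cfsg.Agent.Lib.Helper86.ClassTab
import Cfsg.Agent.Lib.Helper86.SylM24

set_option autoImplicit false

/-! Generated data: every involution of `M24` is conjugate to one of two explicit tables. -/

namespace Cfsg.Agent.Lib.Helper86.M24Inv

open Cfsg Cfsg.Agent.Lib.Helper7.GolayBase Cfsg.Agent.Lib.Helper7.GolayPerm
  Cfsg.Agent.Lib.Helper86.TabGrp Cfsg.Agent.Lib.Helper86.TabMathieu
  Cfsg.Agent.Lib.Helper86.ClassTab Cfsg.Agent.Lib.Helper86.SylM24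

/-- An involution with eight fixed points. -/
def zA : List Nat := [8, 1, 2, 16, 4, 23, 14, 7, 0, 17, 18, 22, 21, 13, 6, 15, 3, 9, 10, 19, 20, 12, 11, 5]

/-- An involution without fixed points. -/
def zB : List Nat := [8, 2, 1, 16, 7, 11, 9, 4, 0, 6, 18, 5, 21, 20, 17, 19, 3, 14, 10, 15, 13, 12, 23, 22]

/-- Part 0 of the class certificate. -/
def Rc0 : List (Nat × List Nat × List Nat) := [
  (0, [], []),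
  (0, [0, 1, 2, 3, 4, 5, 6, 7, 8, 9, 10, 11, 12, 13, 14, 15, 16, 17, 18, 19, 20, 21, 22, 23], [0, 1, 2, 3, 4, 5, 6, 7, 8, 9, 10, 11, 12, 13, 14, 15, 16, 17, 18, 19, 20, 21, 22, 23]),
  (0, [7, 20, 13, 4, 14, 5, 3, 6, 15, 16, 9, 8, 17, 12, 22, 2, 1, 11, 10, 19, 21, 18, 0, 23], [22, 16, 15, 6, 3, 5, 7, 0, 11, 10, 18, 17, 13, 2, 4, 8, 9, 12, 21, 19, 1, 20, 14, 23]),
  (0, [9, 20, 19, 8, 16, 2, 22, 3, 17, 12, 10, 7, 23, 6, 21, 4, 0, 11, 5, 15, 14, 18, 13, 1], [16, 23, 5, 7, 15, 18, 13, 11, 3, 0, 10, 17, 9, 22, 20, 19, 4, 8, 21, 2, 1, 14, 6, 12]),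
  (0, [4, 15, 7, 2, 0, 21, 11, 6, 20, 18, 16, 12, 9, 8, 10, 13, 1, 22, 3, 19, 14, 17, 5, 23], [4, 16, 3, 18, 0, 22, 7, 2, 13, 12, 14, 6, 11, 15, 20, 1, 10, 21, 9, 19, 8, 5, 17, 23]),
  (0, [22, 20, 1, 10, 5, 8, 3, 12, 11, 16, 15, 14, 7, 23, 17, 2, 18, 9, 19, 4, 21, 13, 0, 6], [22, 2, 15, 6, 19, 4, 23, 12, 5, 17, 3, 8, 7, 21, 11, 10, 9, 14, 16, 18, 1, 20, 0, 13]),
  (0, [19, 13, 7, 20, 12, 16, 23, 22, 15, 18, 9, 6, 8, 11, 5, 1, 4, 10, 0, 2, 21, 17, 3, 14], [18, 15, 19, 22, 16, 14, 11, 2, 12, 10, 17, 13, 4, 1, 23, 8, 5, 21, 9, 0, 3, 20, 7, 6]),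
  (0, [0, 13, 4, 3, 21, 14, 19, 10, 8, 2, 11, 6, 22, 18, 1, 20, 16, 15, 5, 7, 12, 23, 17, 9], [0, 14, 9, 3, 2, 18, 11, 19, 8, 23, 7, 10, 20, 1, 5, 17, 16, 22, 13, 6, 15, 4, 12, 21]),
  (0, [1, 13, 20, 8, 19, 21, 4, 3, 15, 23, 17, 18, 14, 16, 7, 11, 0, 5, 10, 22, 2, 12, 9, 6], [16, 0, 20, 7, 6, 17, 23, 14, 3, 22, 18, 15, 21, 1, 12, 8, 13, 10, 11, 4, 2, 5, 19, 9]),
  (0, [6, 1, 13, 15, 19, 12, 23, 3, 14, 7, 11, 22, 21, 16, 5, 18, 20, 2, 17, 10, 4, 8, 9, 0], [23, 1, 17, 7, 20, 14, 0, 9, 21, 22, 19, 10, 5, 2, 8, 3, 13, 18, 15, 4, 16, 12, 11, 6]),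
  (4, [], []),
  (4, [], []),
  (4, [], []),
  (4, [], []),
  (0, [7, 1, 15, 10, 21, 3, 6, 13, 4, 2, 16, 8, 0, 20, 14, 17, 18, 19, 5, 9, 12, 22, 11, 23], [12, 1, 9, 5, 8, 18, 6, 0, 11, 19, 3, 22, 20, 7, 14, 2, 10, 15, 16, 17, 13, 4, 21, 23]),
  (0, [23, 7, 1, 2, 17, 22, 19, 15, 5, 0, 16, 6, 12, 4, 20, 18, 13, 8, 11, 10, 9, 14, 21, 3], [9, 2, 3, 23, 13, 8, 11, 1, 17, 20, 19, 18, 12, 16, 21, 7, 10, 4, 15, 6, 14, 22, 5, 0]),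
  (0, [19, 22, 11, 2, 4, 10, 12, 7, 20, 14, 0, 18, 8, 1, 21, 3, 13, 6, 23, 16, 15, 5, 9, 17], [10, 13, 3, 15, 4, 21, 17, 7, 12, 22, 5, 2, 6, 16, 9, 20, 19, 23, 11, 0, 8, 14, 1, 18]),
  (0, [6, 5, 23, 10, 20, 11, 7, 13, 14, 19, 9, 8, 12, 1, 2, 3, 18, 4, 21, 16, 15, 17, 22, 0], [23, 13, 14, 15, 17, 1, 0, 6, 11, 10, 3, 5, 12, 7, 8, 20, 19, 21, 16, 9, 4, 18, 22, 2]),
  (0, [4, 21, 12, 7, 18, 0, 3, 10, 1, 22, 13, 5, 20, 17, 11, 14, 15, 16, 2, 6, 9, 19, 8, 23], [5, 8, 18, 6, 0, 11, 19, 3, 22, 20, 7, 14, 2, 10, 15, 16, 17, 13, 4, 21, 12, 1, 9, 23]),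
  (0, [0, 1, 2, 3, 4, 5, 6, 7, 8, 9, 10, 11, 12, 13, 14, 15, 16, 17, 18, 19, 20, 21, 22, 23], [0, 1, 2, 3, 4, 5, 6, 7, 8, 9, 10, 11, 12, 13, 14, 15, 16, 17, 18, 19, 20, 21, 22, 23]),
  (0, [15, 8, 0, 19, 23, 13, 3, 10, 20, 16, 11, 2, 21, 5, 14, 17, 4, 6, 12, 9, 18, 22, 1, 7], [2, 22, 11, 6, 16, 13, 17, 23, 1, 19, 7, 10, 18, 5, 14, 0, 9, 15, 20, 3, 8, 12, 21, 4]),
  (0, [18, 19, 15, 12, 7, 8, 11, 20, 10, 23, 17, 16, 14, 4, 22, 1, 21, 5, 9, 2, 13, 6, 3, 0], [23, 15, 19, 22, 13, 17, 21, 4, 5, 18, 8, 6, 3, 20, 12, 2, 11, 10, 0, 1, 7, 16, 14, 9]),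
  (0, [4, 3, 16, 7, 21, 11, 2, 10, 13, 19, 9, 5, 14, 18, 15, 0, 20, 1, 17, 8, 12, 6, 23, 22], [15, 17, 6, 1, 0, 11, 21, 3, 19, 10, 7, 5, 20, 8, 12, 14, 2, 18, 13, 9, 16, 4, 23, 22]),
  (0, [22, 23, 5, 18, 14, 7, 9, 8, 11, 16, 4, 19, 2, 0, 17, 12, 10, 3, 1, 21, 6, 20, 13, 15], [13, 18, 12, 17, 10, 2, 20, 5, 7, 6, 16, 8, 15, 22, 4, 23, 9, 14, 3, 11, 21, 19, 0, 1]),
  (0, [1, 18, 10, 22, 19, 16, 0, 14, 20, 13, 5, 12, 17, 6, 8, 2, 11, 15, 3, 4, 7, 21, 9, 23], [6, 0, 15, 18, 19, 10, 13, 20, 14, 22, 2, 16, 11, 9, 7, 17, 5, 12, 1, 4, 8, 21, 3, 23]),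
  (0, [3, 8, 0, 2, 20, 9, 13, 10, 16, 12, 17, 22, 11, 18, 4, 19, 15, 21, 5, 1, 7, 6, 14, 23], [2, 19, 3, 0, 14, 18, 21, 20, 1, 5, 7, 12, 9, 6, 22, 16, 8, 10, 13, 15, 4, 17, 11, 23]),
  (4, [], []),
  (4, [], []),
  (4, [], []),
  (4, [], []),
  (0, [4, 16, 3, 18, 0, 22, 7, 2, 13, 12, 14, 6, 11, 15, 20, 1, 10, 21, 9, 19, 8, 5, 17, 23], [4, 15, 7, 2, 0, 21, 11, 6, 20, 18, 16, 12, 9, 8, 10, 13, 1, 22, 3, 19, 14, 17, 5, 23]),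
  (0, [10, 11, 22, 1, 21, 16, 23, 15, 18, 7, 9, 0, 14, 19, 5, 4, 2, 13, 8, 20, 12, 3, 17, 6], [11, 3, 16, 21, 15, 14, 23, 9, 18, 10, 0, 1, 20, 17, 12, 7, 5, 22, 8, 13, 19, 4, 2, 6]),
  (0, [15, 6, 10, 13, 7, 12, 11, 4, 1, 0, 3, 17, 5, 19, 8, 14, 20, 22, 23, 18, 2, 16, 9, 21], [9, 8, 20, 10, 7, 12, 1, 4, 14, 22, 2, 6, 5, 3, 15, 0, 21, 11, 19, 13, 16, 23, 17, 18]),
  (0, [17, 21, 14, 18, 13, 1, 11, 20, 9, 22, 5, 7, 23, 19, 3, 12, 10, 16, 0, 6, 2, 8, 4, 15], [18, 5, 20, 14, 22, 10, 19, 11, 21, 8, 16, 6, 15, 4, 2, 23, 17, 0, 3, 13, 7, 1, 9, 12]),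
  (0, [1, 3, 10, 19, 11, 15, 6, 22, 4, 5, 8, 2, 12, 9, 14, 16, 13, 23, 0, 18, 17, 21, 20, 7], [18, 0, 11, 1, 8, 9, 6, 23, 10, 13, 2, 4, 12, 16, 14, 5, 15, 20, 19, 3, 22, 21, 7, 17]),
  (0, [12, 8, 11, 9, 16, 18, 1, 3, 21, 13, 7, 14, 2, 23, 15, 0, 17, 20, 4, 22, 5, 19, 6, 10], [15, 6, 12, 7, 18, 20, 22, 10, 1, 3, 23, 2, 0, 9, 11, 14, 4, 16, 5, 21, 17, 8, 19, 13]),
  (0, [1, 23, 10, 13, 14, 21, 15, 16, 7, 4, 9, 11, 17, 6, 19, 5, 2, 20, 0, 18, 3, 8, 12, 22], [18, 0, 16, 20, 9, 15, 13, 8, 21, 10, 2, 11, 22, 3, 4, 6, 7, 12, 19, 14, 17, 5, 23, 1]),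
  (0, [0, 14, 9, 3, 2, 18, 11, 19, 8, 23, 7, 10, 20, 1, 5, 17, 16, 22, 13, 6, 15, 4, 12, 21], [0, 13, 4, 3, 21, 14, 19, 10, 8, 2, 11, 6, 22, 18, 1, 20, 16, 15, 5, 7, 12, 23, 17, 9]),
  (0, [13, 0, 16, 20, 17, 11, 21, 14, 4, 12, 15, 22, 2, 6, 18, 8, 7, 10, 1, 3, 9, 19, 5, 23], [1, 18, 12, 19, 8, 22, 13, 16, 15, 20, 17, 5, 9, 0, 7, 10, 2, 4, 14, 21, 3, 6, 11, 23]),
  (0, [0, 13, 4, 3, 21, 14, 19, 10, 8, 2, 11, 6, 22, 18, 1, 20, 16, 15, 5, 7, 12, 23, 17, 9], [0, 14, 9, 3, 2, 18, 11, 19, 8, 23, 7, 10, 20, 1, 5, 17, 16, 22, 13, 6, 15, 4, 12, 21]),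
  (1, [], []),
  (1, [], []),
  (1, [], []),
  (1, [], []),
  (1, [], []),
  (1, [], []),
  (1, [], []),
  (1, [], []),
  (0, [20, 17, 21, 13, 7, 18, 16, 19, 15, 3, 0, 6, 11, 2, 5, 12, 1, 23, 8, 9, 4, 22, 10, 14], [10, 16, 13, 9, 20, 14, 11, 4, 18, 19, 22, 12, 15, 3, 23, 8, 6, 1, 5, 7, 0, 2, 21, 17]),
  (0, [0, 14, 9, 3, 2, 18, 11, 19, 8, 23, 7, 10, 20, 1, 5, 17, 16, 22, 13, 6, 15, 4, 12, 21], [0, 13, 4, 3, 21, 14, 19, 10, 8, 2, 11, 6, 22, 18, 1, 20, 16, 15, 5, 7, 12, 23, 17, 9]),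
  (0, [7, 11, 0, 2, 18, 3, 1, 10, 4, 20, 9, 16, 21, 14, 13, 8, 19, 15, 12, 22, 6, 17, 5, 23], [2, 6, 3, 5, 8, 22, 20, 0, 15, 10, 7, 1, 18, 14, 13, 17, 11, 21, 4, 16, 9, 12, 19, 23]),
  (0, [14, 8, 3, 9, 19, 5, 20, 15, 17, 4, 12, 22, 21, 2, 13, 16, 6, 7, 10, 0, 1, 18, 11, 23], [19, 20, 13, 2, 9, 5, 16, 17, 1, 3, 18, 22, 10, 14, 0, 7, 15, 8, 21, 4, 6, 12, 11, 23]),
  (0, [15, 17, 6, 1, 0, 11, 21, 3, 19, 10, 7, 5, 20, 8, 12, 14, 2, 18, 13, 9, 16, 4, 23, 22], [4, 3, 16, 7, 21, 11, 2, 10, 13, 19, 9, 5, 14, 18, 15, 0, 20, 1, 17, 8, 12, 6, 23, 22]),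
  (0, [16, 10, 8, 12, 14, 20, 15, 22, 3, 4, 9, 7, 5, 6, 13, 0, 21, 2, 17, 18, 11, 23, 19, 1], [15, 23, 17, 8, 9, 12, 13, 11, 2, 10, 1, 20, 3, 14, 4, 6, 0, 18, 19, 22, 5, 16, 7, 21]),
  (0, [1, 23, 22, 15, 8, 13, 14, 16, 19, 17, 10, 4, 18, 3, 9, 11, 2, 6, 12, 5, 0, 21, 20, 7], [20, 0, 16, 13, 11, 19, 17, 23, 4, 14, 10, 15, 18, 5, 6, 3, 7, 9, 12, 8, 22, 21, 2, 1]),
  (0, [11, 12, 18, 23, 7, 8, 15, 13, 5, 19, 17, 16, 9, 20, 2, 10, 22, 1, 6, 21, 4, 14, 3, 0], [23, 17, 14, 22, 20, 8, 18, 4, 5, 12, 15, 0, 1, 7, 21, 6, 11, 10, 2, 9, 13, 19, 16, 3]),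
  (1, [], []),
  (1, [], []),
  (1, [], []),
  (1, [], []),
  (1, [], []),
  (1, [], []),
  (1, [], []),
  (1, [], []),
  (0, [4, 8, 14, 19, 0, 21, 1, 3, 2, 15, 10, 18, 5, 17, 20, 9, 13, 7, 22, 16, 6, 12, 11, 23], [4, 6, 8, 7, 0, 12, 20, 17, 1, 15, 10, 22, 21, 16, 2, 9, 19, 13, 11, 3, 14, 5, 18, 23]),
  (0, [4, 16, 0, 14, 3, 5, 13, 2, 7, 6, 18, 12, 11, 15, 20, 19, 17, 9, 21, 1, 8, 22, 10, 23], [2, 19, 7, 4, 0, 5, 9, 8, 20, 17, 22, 12, 11, 6, 3, 13, 1, 16, 10, 15, 14, 18, 21, 23]),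
  (1, [], []),
  (1, [], []),
  (1, [], []),
  (1, [], []),
  (1, [], []),
  (1, [], []),
  (0, [13, 18, 12, 17, 10, 2, 20, 5, 7, 6, 16, 8, 15, 22, 4, 23, 9, 14, 3, 11, 21, 19, 0, 1], [22, 23, 5, 18, 14, 7, 9, 8, 11, 16, 4, 19, 2, 0, 17, 12, 10, 3, 1, 21, 6, 20, 13, 15]),
  (0, [10, 5, 3, 19, 23, 8, 6, 17, 18, 2, 13, 1, 11, 21, 14, 9, 7, 4, 15, 12, 16, 22, 20, 0], [23, 11, 9, 2, 17, 1, 6, 16, 5, 15, 0, 12, 19, 10, 14, 18, 20, 7, 8, 3, 22, 13, 21, 4]),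
  (1, [], []),
  (1, [], []),
  (1, [], []),
  (1, [], []),
  (1, [], []),
  (1, [], []),
  (1, [], []),
  (1, [], []),
  (1, [], []),
  (1, [], []),
  (1, [], []),
  (1, [], []),
  (0, [4, 6, 8, 7, 0, 12, 20, 17, 1, 15, 10, 22, 21, 16, 2, 9, 19, 13, 11, 3, 14, 5, 18, 23], [4, 8, 14, 19, 0, 21, 1, 3, 2, 15, 10, 18, 5, 17, 20, 9, 13, 7, 22, 16, 6, 12, 11, 23]),
  (0, [17, 22, 5, 10, 11, 3, 9, 15, 14, 21, 4, 7, 8, 2, 6, 19, 18, 12, 20, 1, 23, 16, 13, 0], [23, 19, 13, 5, 10, 2, 14, 11, 12, 6, 3, 4, 17, 22, 8, 7, 21, 0, 16, 15, 18, 9, 1, 20]),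
  (1, [], []),
  (1, [], []),
  (1, [], []),
  (1, [], []),
  (1, [], []),
  (1, [], []),
  (0, [15, 23, 17, 8, 9, 12, 13, 11, 2, 10, 1, 20, 3, 14, 4, 6, 0, 18, 19, 22, 5, 16, 7, 21], [16, 10, 8, 12, 14, 20, 15, 22, 3, 4, 9, 7, 5, 6, 13, 0, 21, 2, 17, 18, 11, 23, 19, 1]),
  (0, [22, 23, 3, 7, 16, 20, 0, 12, 11, 4, 10, 14, 13, 17, 8, 9, 19, 2, 18, 21, 5, 15, 6, 1], [6, 23, 17, 2, 9, 20, 22, 3, 14, 15, 10, 8, 7, 12, 11, 21, 4, 13, 18, 16, 5, 19, 0, 1]),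
  (1, [], []),
  (1, [], []),
  (1, [], []),
  (1, [], []),
  (0, [4, 6, 8, 7, 21, 22, 19, 0, 2, 1, 10, 9, 17, 14, 15, 12, 13, 20, 11, 23, 5, 16, 3, 18], [7, 9, 8, 22, 0, 20, 1, 3, 2, 11, 10, 18, 15, 16, 13, 14, 21, 12, 23, 6, 17, 4, 5, 19]),
  (0, [16, 23, 5, 7, 15, 18, 13, 11, 3, 0, 10, 17, 9, 22, 20, 19, 4, 8, 21, 2, 1, 14, 6, 12], [9, 20, 19, 8, 16, 2, 22, 3, 17, 12, 10, 7, 23, 6, 21, 4, 0, 11, 5, 15, 14, 18, 13, 1]),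
  (1, [], []),
  (1, [], []),
  (1, [], []),
  (1, [], []),
  (1, [], []),
  (1, [], []),
  (0, [19, 9, 11, 10, 5, 12, 3, 22, 1, 4, 0, 2, 20, 17, 16, 6, 18, 13, 8, 23, 14, 7, 15, 21], [10, 8, 11, 6, 9, 4, 15, 21, 18, 1, 3, 2, 5, 17, 20, 22, 14, 13, 16, 0, 12, 23, 7, 19]),
  (0, [14, 9, 10, 1, 8, 20, 15, 18, 6, 21, 2, 22, 3, 17, 4, 5, 7, 12, 13, 0, 23, 16, 11, 19], [19, 3, 10, 12, 14, 15, 8, 16, 4, 1, 2, 22, 17, 18, 0, 6, 21, 13, 7, 23, 5, 9, 11, 20]),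
  (1, [], []),
  (1, [], []),
  (1, [], []),
  (1, [], []),
  (0, [19, 11, 14, 13, 8, 12, 15, 22, 1, 20, 21, 9, 5, 6, 4, 10, 2, 7, 16, 0, 18, 17, 23, 3], [19, 8, 16, 23, 14, 12, 13, 17, 4, 11, 15, 1, 5, 3, 2, 6, 18, 21, 20, 0, 9, 10, 7, 22]),
  (0, [2, 22, 11, 6, 16, 13, 17, 23, 1, 19, 7, 10, 18, 5, 14, 0, 9, 15, 20, 3, 8, 12, 21, 4], [15, 8, 0, 19, 23, 13, 3, 10, 20, 16, 11, 2, 21, 5, 14, 17, 4, 6, 12, 9, 18, 22, 1, 7]),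
  (1, [], []),
  (1, [], []),
  (1, [], []),
  (1, [], []),
  (1, [], []),
  (1, [], []),
  (0, [13, 5, 8, 21, 10, 1, 14, 23, 2, 19, 4, 22, 16, 0, 6, 18, 12, 20, 15, 9, 17, 3, 11, 7], [13, 5, 8, 21, 10, 1, 14, 23, 2, 19, 4, 22, 16, 0, 6, 18, 12, 20, 15, 9, 17, 3, 11, 7]),
  (0, [18, 14, 17, 20, 3, 5, 7, 6, 10, 12, 22, 15, 2, 9, 13, 16, 4, 21, 11, 8, 0, 1, 19, 23], [20, 21, 12, 4, 16, 5, 7, 6, 19, 13, 8, 18, 9, 14, 1, 11, 15, 2, 0, 22, 3, 17, 10, 23]),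
  (1, [], []),
  (1, [], []),
  (1, [], []),
  (1, [], [])]

/-- Part 1 of the class certificate. -/
def Rc1 : List (Nat × List Nat × List Nat) := [
  (0, [5, 20, 15, 23, 1, 11, 8, 13, 18, 9, 16, 21, 3, 7, 17, 19, 10, 0, 6, 4, 2, 14, 22, 12], [17, 4, 20, 12, 19, 0, 18, 13, 6, 9, 16, 5, 23, 7, 21, 2, 10, 14, 8, 15, 1, 11, 22, 3]),
  (0, [22, 7, 4, 16, 19, 5, 17, 13, 3, 9, 21, 23, 6, 2, 10, 1, 11, 18, 14, 15, 20, 12, 8, 0], [23, 15, 13, 8, 2, 5, 12, 1, 22, 9, 14, 16, 21, 7, 18, 19, 3, 6, 17, 4, 20, 10, 0, 11]),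
  (0, [9, 1, 4, 17, 16, 5, 0, 3, 11, 12, 20, 23, 2, 18, 8, 19, 22, 21, 7, 13, 10, 15, 6, 14], [6, 1, 12, 7, 2, 5, 22, 18, 14, 0, 20, 8, 9, 19, 23, 21, 4, 3, 13, 15, 10, 17, 16, 11]),
  (0, [3, 1, 2, 6, 11, 18, 20, 22, 14, 19, 9, 5, 0, 21, 15, 13, 16, 4, 17, 7, 12, 8, 10, 23], [12, 1, 2, 0, 17, 11, 3, 19, 21, 10, 22, 4, 20, 15, 8, 14, 16, 18, 5, 9, 6, 13, 7, 23]),
  (0, [5, 19, 20, 23, 11, 8, 4, 6, 17, 15, 21, 18, 16, 22, 2, 1, 9, 13, 3, 7, 14, 12, 10, 0], [23, 15, 14, 18, 6, 0, 7, 19, 5, 16, 22, 4, 21, 17, 20, 9, 12, 8, 11, 1, 2, 10, 13, 3]),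
  (0, [8, 15, 19, 17, 3, 13, 21, 6, 9, 22, 10, 7, 18, 16, 12, 20, 0, 11, 23, 4, 14, 5, 1, 2], [16, 22, 23, 4, 19, 21, 7, 11, 0, 8, 10, 17, 14, 5, 20, 1, 13, 3, 12, 2, 15, 6, 9, 18]),
  (0, [23, 19, 13, 5, 10, 2, 14, 11, 12, 6, 3, 4, 17, 22, 8, 7, 21, 0, 16, 15, 18, 9, 1, 20], [17, 22, 5, 10, 11, 3, 9, 15, 14, 21, 4, 7, 8, 2, 6, 19, 18, 12, 20, 1, 23, 16, 13, 0]),
  (0, [16, 20, 19, 11, 10, 5, 12, 17, 22, 14, 1, 0, 15, 9, 6, 2, 3, 21, 7, 13, 18, 4, 8, 23], [11, 10, 15, 16, 21, 5, 14, 18, 22, 13, 4, 3, 6, 19, 9, 12, 0, 7, 20, 2, 1, 17, 8, 23]),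
  (0, [], []),
  (0, [], []),
  (0, [], []),
  (0, [], []),
  (0, [], []),
  (0, [], []),
  (0, [], []),
  (0, [], []),
  (0, [21, 11, 22, 12, 15, 5, 8, 4, 3, 0, 20, 9, 19, 13, 18, 14, 16, 10, 7, 6, 2, 1, 17, 23], [9, 21, 20, 8, 7, 5, 19, 18, 6, 11, 17, 1, 3, 13, 15, 4, 16, 22, 14, 12, 10, 0, 2, 23]),
  (0, [12, 17, 9, 22, 4, 1, 16, 20, 11, 6, 5, 13, 18, 19, 14, 8, 21, 3, 23, 0, 15, 10, 2, 7], [19, 5, 22, 17, 4, 10, 9, 23, 15, 2, 21, 8, 0, 11, 14, 20, 6, 1, 12, 13, 7, 16, 3, 18]),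
  (0, [21, 10, 18, 12, 16, 2, 7, 3, 23, 13, 8, 4, 0, 9, 19, 11, 5, 15, 14, 22, 17, 6, 20, 1], [12, 23, 5, 7, 11, 16, 21, 6, 10, 13, 1, 15, 3, 9, 18, 17, 4, 20, 2, 14, 22, 0, 19, 8]),
  (0, [23, 0, 8, 5, 18, 20, 1, 10, 11, 15, 9, 4, 17, 21, 2, 16, 22, 19, 14, 3, 12, 6, 7, 13], [1, 6, 14, 19, 11, 3, 21, 22, 2, 10, 7, 8, 20, 23, 18, 9, 15, 12, 4, 17, 5, 13, 16, 0]),
  (0, [8, 2, 1, 0, 23, 4, 9, 11, 16, 17, 18, 13, 12, 22, 6, 15, 3, 14, 10, 19, 5, 21, 7, 20], [3, 2, 1, 16, 5, 20, 14, 22, 0, 6, 18, 7, 12, 11, 17, 15, 8, 9, 10, 19, 23, 21, 13, 4]),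
  (0, [8, 5, 23, 18, 16, 14, 13, 12, 10, 15, 20, 6, 7, 3, 4, 9, 0, 2, 19, 17, 21, 1, 11, 22], [16, 21, 17, 13, 14, 1, 11, 12, 0, 15, 8, 22, 7, 6, 5, 9, 4, 19, 3, 18, 10, 20, 23, 2]),
  (0, [4, 3, 16, 7, 21, 11, 2, 10, 13, 19, 9, 5, 14, 18, 15, 0, 20, 1, 17, 8, 12, 6, 23, 22], [15, 17, 6, 1, 0, 11, 21, 3, 19, 10, 7, 5, 20, 8, 12, 14, 2, 18, 13, 9, 16, 4, 23, 22]),
  (0, [1, 23, 22, 15, 8, 13, 14, 16, 19, 17, 10, 4, 18, 3, 9, 11, 2, 6, 12, 5, 0, 21, 20, 7], [20, 0, 16, 13, 11, 19, 17, 23, 4, 14, 10, 15, 18, 5, 6, 3, 7, 9, 12, 8, 22, 21, 2, 1]),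
  (0, [], []),
  (0, [], []),
  (0, [], []),
  (0, [], []),
  (0, [], []),
  (0, [], []),
  (0, [], []),
  (0, [], []),
  (0, [3, 12, 14, 16, 7, 10, 13, 15, 11, 20, 0, 18, 5, 1, 19, 21, 22, 2, 8, 6, 4, 23, 9, 17], [10, 13, 17, 0, 20, 12, 19, 4, 18, 22, 5, 8, 1, 6, 2, 7, 3, 23, 11, 14, 9, 15, 16, 21]),
  (0, [22, 17, 21, 8, 19, 18, 23, 7, 0, 3, 15, 14, 1, 2, 5, 9, 11, 16, 13, 12, 4, 20, 10, 6], [8, 12, 13, 9, 20, 14, 23, 7, 3, 15, 22, 16, 19, 18, 11, 10, 17, 1, 5, 4, 21, 2, 0, 6]),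
  (0, [13, 0, 16, 20, 17, 11, 21, 14, 4, 12, 15, 22, 2, 6, 18, 8, 7, 10, 1, 3, 9, 19, 5, 23], [1, 18, 12, 19, 8, 22, 13, 16, 15, 20, 17, 5, 9, 0, 7, 10, 2, 4, 14, 21, 3, 6, 11, 23]),
  (0, [23, 12, 18, 11, 3, 17, 4, 16, 5, 20, 19, 14, 15, 8, 13, 21, 22, 7, 1, 10, 0, 2, 6, 9], [20, 18, 21, 4, 6, 8, 22, 17, 13, 23, 19, 3, 1, 14, 11, 12, 7, 5, 2, 10, 9, 15, 16, 0]),
  (0, [21, 9, 16, 12, 6, 19, 22, 8, 23, 18, 4, 7, 20, 14, 10, 17, 5, 11, 2, 3, 0, 1, 15, 13], [20, 21, 18, 19, 10, 16, 4, 11, 7, 1, 14, 17, 3, 23, 13, 22, 2, 15, 9, 5, 12, 0, 6, 8]),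
  (0, [1, 18, 12, 19, 8, 22, 13, 16, 15, 20, 17, 5, 9, 0, 7, 10, 2, 4, 14, 21, 3, 6, 11, 23], [13, 0, 16, 20, 17, 11, 21, 14, 4, 12, 15, 22, 2, 6, 18, 8, 7, 10, 1, 3, 9, 19, 5, 23]),
  (0, [20, 12, 18, 13, 6, 22, 1, 17, 7, 19, 0, 5, 8, 14, 2, 21, 4, 15, 16, 10, 9, 3, 11, 23], [10, 6, 14, 21, 16, 11, 4, 8, 12, 20, 19, 22, 1, 3, 13, 17, 18, 7, 2, 9, 0, 15, 5, 23]),
  (0, [16, 12, 8, 10, 23, 13, 7, 6, 18, 15, 11, 19, 17, 14, 20, 21, 3, 2, 9, 0, 5, 22, 4, 1], [19, 23, 17, 16, 22, 20, 7, 6, 2, 18, 3, 10, 1, 5, 13, 9, 0, 12, 8, 11, 14, 15, 21, 4]),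
  (0, [], []),
  (0, [], []),
  (0, [], []),
  (0, [], []),
  (0, [], []),
  (0, [], []),
  (0, [], []),
  (0, [], []),
  (0, [18, 12, 17, 10, 2, 20, 5, 7, 6, 16, 8, 15, 22, 4, 23, 9, 14, 3, 11, 21, 19, 0, 13, 1], [21, 23, 4, 17, 13, 6, 8, 7, 10, 15, 3, 18, 1, 22, 16, 11, 9, 2, 0, 20, 5, 19, 12, 14]),
  (0, [11, 12, 18, 23, 7, 8, 15, 13, 5, 19, 17, 16, 9, 20, 2, 10, 22, 1, 6, 21, 4, 14, 3, 0], [23, 17, 14, 22, 20, 8, 18, 4, 5, 12, 15, 0, 1, 7, 21, 6, 11, 10, 2, 9, 13, 19, 16, 3]),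
  (0, [8, 14, 6, 0, 19, 12, 11, 15, 3, 22, 7, 18, 13, 1, 23, 9, 16, 5, 4, 17, 2, 20, 10, 21], [3, 13, 20, 8, 18, 17, 2, 10, 0, 15, 22, 6, 5, 12, 1, 7, 16, 19, 11, 4, 21, 23, 9, 14]),
  (0, [22, 18, 6, 0, 12, 20, 3, 21, 8, 16, 4, 13, 2, 17, 23, 14, 11, 5, 19, 10, 9, 7, 15, 1], [3, 23, 12, 6, 10, 17, 2, 21, 8, 20, 19, 16, 4, 11, 15, 22, 9, 13, 1, 18, 5, 7, 0, 14]),
  (0, [20, 0, 16, 13, 11, 19, 17, 23, 4, 14, 10, 15, 18, 5, 6, 3, 7, 9, 12, 8, 22, 21, 2, 1], [1, 23, 22, 15, 8, 13, 14, 16, 19, 17, 10, 4, 18, 3, 9, 11, 2, 6, 12, 5, 0, 21, 20, 7]),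
  (0, [22, 20, 4, 5, 16, 10, 17, 8, 11, 9, 1, 12, 19, 3, 6, 7, 23, 14, 15, 13, 0, 2, 18, 21], [20, 10, 21, 13, 2, 3, 14, 15, 7, 9, 5, 8, 11, 19, 17, 18, 4, 6, 22, 12, 1, 23, 0, 16]),
  (0, [17, 12, 11, 9, 16, 18, 1, 14, 0, 2, 4, 5, 15, 6, 13, 22, 8, 7, 20, 21, 3, 19, 10, 23], [8, 6, 9, 20, 10, 11, 13, 17, 16, 3, 22, 2, 1, 14, 7, 12, 4, 0, 5, 21, 18, 19, 15, 23]),
  (0, [14, 8, 16, 9, 5, 1, 4, 22, 6, 13, 10, 2, 12, 23, 7, 3, 17, 20, 18, 0, 11, 21, 19, 15], [19, 5, 11, 15, 6, 4, 8, 14, 1, 3, 10, 20, 12, 9, 0, 23, 2, 16, 18, 22, 17, 21, 7, 13]),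
  (0, [], []),
  (0, [], []),
  (0, [], []),
  (0, [], []),
  (0, [], []),
  (0, [], []),
  (0, [], []),
  (0, [], []),
  (0, [1, 3, 6, 2, 16, 23, 10, 14, 12, 19, 7, 20, 13, 0, 15, 8, 21, 18, 22, 17, 9, 11, 5, 4], [13, 0, 3, 1, 23, 22, 2, 10, 15, 20, 6, 21, 8, 12, 7, 14, 4, 19, 17, 9, 11, 16, 18, 5]),
  (0, [7, 16, 2, 9, 3, 21, 14, 8, 6, 17, 12, 18, 11, 19, 13, 15, 4, 20, 22, 0, 1, 10, 5, 23], [19, 20, 2, 4, 16, 22, 8, 0, 7, 3, 21, 12, 10, 14, 6, 15, 1, 9, 11, 13, 17, 5, 18, 23]),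
  (1, [], []),
  (1, [], []),
  (1, [], []),
  (1, [], []),
  (1, [], []),
  (1, [], []),
  (0, [], []),
  (0, [], []),
  (0, [], []),
  (0, [], []),
  (0, [], []),
  (0, [], []),
  (0, [], []),
  (0, [], []),
  (1, [], []),
  (1, [], []),
  (1, [], []),
  (1, [], []),
  (1, [], []),
  (1, [], []),
  (0, [8, 19, 20, 0, 13, 22, 16, 2, 18, 12, 23, 14, 5, 4, 21, 1, 10, 3, 9, 7, 15, 17, 11, 6], [3, 15, 7, 17, 13, 12, 23, 19, 0, 18, 16, 22, 9, 4, 11, 20, 6, 21, 8, 1, 2, 14, 5, 10]),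
  (0, [20, 10, 8, 2, 0, 22, 7, 3, 1, 4, 17, 5, 11, 21, 19, 16, 13, 15, 23, 12, 18, 6, 9, 14], [4, 8, 3, 7, 9, 11, 21, 6, 2, 22, 1, 12, 19, 16, 23, 17, 15, 10, 20, 14, 0, 13, 5, 18]),
  (0, [], []),
  (0, [], []),
  (0, [], []),
  (0, [], []),
  (0, [], []),
  (0, [], []),
  (0, [], []),
  (0, [], []),
  (1, [], []),
  (1, [], []),
  (1, [], []),
  (1, [], []),
  (0, [23, 10, 17, 22, 21, 20, 1, 14, 15, 11, 8, 0, 3, 18, 5, 12, 19, 2, 4, 9, 6, 13, 7, 16], [11, 6, 17, 12, 18, 14, 20, 22, 10, 19, 1, 9, 15, 21, 7, 8, 23, 2, 13, 16, 5, 4, 3, 0]),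
  (0, [0, 11, 20, 9, 4, 1, 16, 13, 6, 3, 12, 15, 2, 5, 17, 7, 8, 14, 19, 23, 22, 10, 21, 18], [0, 5, 12, 9, 4, 13, 8, 15, 16, 3, 21, 1, 10, 7, 17, 11, 6, 14, 23, 18, 2, 22, 20, 19]),
  (1, [], []),
  (1, [], []),
  (0, [], []),
  (0, [], []),
  (0, [], []),
  (0, [], []),
  (0, [], []),
  (0, [], []),
  (0, [], []),
  (0, [], []),
  (1, [], []),
  (1, [], []),
  (0, [9, 1, 7, 6, 20, 10, 17, 2, 23, 11, 12, 16, 18, 4, 5, 15, 22, 14, 3, 13, 19, 8, 21, 0], [23, 1, 7, 18, 13, 14, 3, 2, 21, 0, 5, 9, 10, 19, 17, 15, 11, 6, 12, 20, 4, 22, 16, 8]),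
  (0, [22, 9, 0, 20, 14, 10, 7, 6, 13, 4, 12, 21, 15, 8, 11, 3, 23, 5, 2, 17, 16, 18, 1, 19], [2, 22, 18, 15, 9, 17, 7, 6, 13, 1, 5, 14, 10, 8, 4, 12, 20, 19, 21, 23, 3, 11, 0, 16]),
  (1, [], []),
  (1, [], []),
  (1, [], []),
  (1, [], []),
  (0, [], []),
  (0, [], []),
  (0, [], []),
  (0, [], []),
  (0, [], []),
  (0, [], []),
  (0, [], []),
  (0, [], [])]

/-- Part 2 of the class certificate. -/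
def Rc2 : List (Nat × List Nat × List Nat) := [
  (0, [10, 7, 4, 12, 19, 5, 18, 8, 6, 21, 15, 20, 16, 0, 14, 22, 9, 17, 1, 11, 2, 3, 13, 23], [13, 18, 20, 21, 2, 5, 8, 1, 7, 16, 0, 19, 3, 22, 14, 10, 12, 17, 6, 4, 11, 9, 15, 23]),
  (0, [22, 2, 15, 6, 19, 4, 23, 12, 5, 17, 3, 8, 7, 21, 11, 10, 9, 14, 16, 18, 1, 20, 0, 13], [22, 20, 1, 10, 5, 8, 3, 12, 11, 16, 15, 14, 7, 23, 17, 2, 18, 9, 19, 4, 21, 13, 0, 6]),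
  (0, [], []),
  (0, [], []),
  (0, [], []),
  (0, [], []),
  (0, [], []),
  (0, [], []),
  (0, [9, 1, 7, 6, 20, 10, 17, 2, 23, 11, 12, 16, 18, 4, 5, 15, 22, 14, 3, 13, 19, 8, 21, 0], [23, 1, 7, 18, 13, 14, 3, 2, 21, 0, 5, 9, 10, 19, 17, 15, 11, 6, 12, 20, 4, 22, 16, 8]),
  (0, [12, 1, 19, 5, 20, 6, 16, 13, 3, 23, 18, 10, 11, 2, 21, 4, 17, 9, 8, 15, 7, 14, 0, 22], [22, 1, 13, 8, 15, 3, 5, 20, 18, 17, 11, 12, 0, 7, 21, 19, 6, 16, 10, 2, 4, 14, 23, 9]),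
  (0, [], []),
  (0, [], []),
  (0, [], []),
  (0, [], []),
  (0, [], []),
  (0, [], []),
  (0, [], []),
  (0, [], []),
  (0, [], []),
  (0, [], []),
  (0, [], []),
  (0, [], []),
  (0, [23, 12, 21, 8, 22, 1, 5, 19, 18, 0, 16, 14, 2, 20, 10, 4, 17, 9, 3, 15, 11, 13, 6, 7], [9, 5, 12, 18, 15, 6, 22, 23, 3, 17, 14, 20, 1, 21, 11, 19, 10, 16, 8, 7, 13, 2, 4, 0]),
  (0, [22, 14, 6, 16, 23, 12, 17, 13, 9, 10, 20, 7, 8, 19, 11, 4, 18, 3, 2, 1, 5, 0, 15, 21], [21, 19, 18, 17, 15, 20, 2, 11, 12, 8, 9, 14, 5, 7, 1, 22, 3, 6, 16, 13, 10, 23, 0, 4]),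
  (0, [], []),
  (0, [], []),
  (0, [], []),
  (0, [], []),
  (0, [], []),
  (0, [], []),
  (0, [14, 7, 4, 12, 20, 15, 17, 16, 9, 10, 22, 23, 2, 3, 6, 8, 18, 21, 11, 0, 13, 19, 5, 1], [19, 23, 12, 13, 2, 22, 14, 1, 15, 8, 9, 18, 3, 20, 0, 5, 7, 6, 16, 21, 4, 17, 10, 11]),
  (0, [12, 6, 9, 16, 14, 4, 10, 23, 18, 3, 19, 1, 7, 22, 21, 11, 0, 8, 2, 5, 17, 13, 15, 20], [16, 11, 18, 9, 5, 19, 1, 12, 17, 2, 6, 15, 0, 21, 4, 22, 3, 20, 8, 10, 23, 14, 13, 7]),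
  (0, [], []),
  (0, [], []),
  (0, [], []),
  (0, [], []),
  (1, [], []),
  (1, [], []),
  (0, [], []),
  (0, [], []),
  (0, [], []),
  (0, [], []),
  (0, [9, 21, 5, 20, 23, 3, 6, 22, 7, 17, 15, 0, 8, 10, 4, 11, 14, 13, 16, 12, 18, 1, 2, 19], [11, 21, 22, 5, 14, 2, 6, 8, 12, 0, 13, 15, 19, 17, 16, 10, 18, 9, 20, 23, 3, 1, 7, 4]),
  (0, [4, 21, 2, 5, 10, 14, 22, 18, 23, 11, 17, 9, 3, 19, 7, 1, 20, 13, 8, 12, 15, 6, 16, 0], [23, 15, 2, 12, 0, 3, 21, 14, 18, 11, 4, 9, 19, 17, 5, 20, 22, 10, 7, 13, 16, 1, 6, 8]),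
  (0, [], []),
  (0, [], []),
  (0, [], []),
  (0, [], []),
  (0, [], []),
  (0, [], []),
  (1, [], []),
  (1, [], []),
  (0, [], []),
  (0, [], []),
  (0, [], []),
  (0, [], []),
  (0, [], []),
  (0, [], []),
  (0, [], []),
  (0, [], []),
  (0, [6, 18, 20, 14, 7, 3, 9, 21, 1, 19, 16, 5, 0, 4, 2, 10, 15, 17, 23, 13, 12, 11, 8, 22], [12, 8, 14, 5, 13, 11, 0, 4, 22, 6, 15, 21, 20, 19, 3, 16, 10, 17, 1, 9, 2, 7, 23, 18]),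
  (0, [22, 13, 3, 11, 4, 14, 15, 0, 19, 5, 10, 12, 21, 7, 23, 20, 2, 1, 17, 16, 8, 6, 9, 18], [7, 17, 16, 2, 4, 9, 21, 13, 20, 22, 10, 3, 11, 1, 5, 6, 19, 18, 23, 8, 15, 12, 0, 14]),
  (0, [], []),
  (0, [], []),
  (0, [1, 9, 17, 8, 6, 23, 2, 10, 19, 0, 20, 13, 22, 21, 15, 18, 16, 3, 4, 12, 14, 5, 7, 11], [9, 0, 6, 17, 18, 21, 4, 22, 3, 1, 7, 23, 19, 11, 20, 14, 16, 2, 15, 8, 10, 13, 12, 5]),
  (0, [23, 10, 21, 7, 18, 2, 5, 17, 11, 20, 16, 0, 19, 9, 22, 14, 13, 4, 8, 6, 12, 1, 3, 15], [11, 21, 5, 22, 17, 6, 19, 3, 18, 13, 1, 8, 20, 16, 15, 23, 10, 7, 4, 12, 9, 2, 14, 0]),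
  (0, [], []),
  (0, [], []),
  (0, [], []),
  (0, [], []),
  (0, [], []),
  (0, [], []),
  (0, [1, 16, 8, 18, 3, 22, 2, 6, 19, 21, 20, 7, 11, 14, 15, 17, 12, 10, 13, 9, 0, 5, 4, 23], [20, 0, 6, 4, 22, 21, 7, 11, 2, 19, 17, 12, 16, 18, 13, 14, 1, 15, 3, 8, 10, 9, 5, 23]),
  (0, [23, 12, 14, 3, 21, 20, 8, 18, 0, 16, 7, 4, 2, 17, 5, 9, 11, 22, 15, 10, 6, 13, 1, 19], [8, 22, 12, 3, 11, 14, 20, 10, 6, 15, 19, 16, 1, 21, 2, 18, 9, 13, 7, 23, 5, 4, 17, 0]),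
  (0, [], []),
  (0, [], []),
  (0, [], []),
  (0, [], []),
  (0, [], []),
  (0, [], []),
  (0, [], []),
  (0, [], []),
  (0, [], []),
  (0, [], []),
  (0, [], []),
  (0, [], []),
  (0, [7, 21, 18, 1, 10, 11, 4, 6, 13, 2, 3, 8, 22, 17, 20, 14, 19, 15, 0, 9, 12, 5, 16, 23], [18, 3, 9, 10, 6, 21, 7, 0, 11, 19, 4, 5, 20, 8, 15, 17, 22, 13, 2, 16, 14, 1, 12, 23]),
  (0, [20, 21, 18, 19, 10, 16, 4, 11, 7, 1, 14, 17, 3, 23, 13, 22, 2, 15, 9, 5, 12, 0, 6, 8], [21, 9, 16, 12, 6, 19, 22, 8, 23, 18, 4, 7, 20, 14, 10, 17, 5, 11, 2, 3, 0, 1, 15, 13]),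
  (0, [], []),
  (0, [], []),
  (0, [], []),
  (0, [], []),
  (0, [], []),
  (0, [], []),
  (0, [8, 10, 12, 22, 21, 1, 0, 6, 16, 23, 13, 4, 15, 17, 3, 14, 5, 11, 7, 9, 18, 2, 20, 19], [6, 5, 21, 14, 11, 16, 7, 18, 0, 19, 1, 17, 2, 10, 15, 12, 8, 13, 20, 23, 22, 4, 3, 9]),
  (0, [10, 2, 19, 9, 15, 13, 12, 11, 21, 6, 3, 0, 4, 22, 18, 5, 14, 17, 16, 23, 1, 7, 8, 20], [11, 20, 1, 10, 12, 15, 9, 21, 22, 3, 0, 7, 6, 5, 16, 4, 18, 17, 14, 2, 23, 8, 13, 19]),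
  (0, [], []),
  (0, [], []),
  (0, [], []),
  (0, [], []),
  (1, [], []),
  (1, [], []),
  (0, [], []),
  (0, [], []),
  (0, [], []),
  (0, [], []),
  (0, [10, 14, 7, 21, 20, 19, 18, 17, 23, 5, 1, 8, 2, 4, 22, 6, 11, 12, 16, 13, 9, 3, 15, 0], [23, 10, 12, 21, 13, 9, 15, 2, 11, 20, 0, 16, 17, 19, 1, 22, 18, 7, 6, 5, 4, 3, 14, 8]),
  (0, [4, 14, 23, 19, 9, 8, 2, 17, 1, 15, 3, 0, 18, 22, 7, 5, 13, 20, 10, 6, 11, 16, 12, 21], [11, 8, 6, 10, 0, 15, 19, 14, 5, 4, 18, 20, 22, 16, 1, 9, 21, 7, 12, 3, 17, 23, 13, 2]),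
  (0, [], []),
  (0, [], []),
  (0, [], []),
  (0, [], []),
  (0, [], []),
  (0, [], []),
  (1, [], []),
  (1, [], []),
  (0, [], []),
  (0, [], []),
  (0, [], []),
  (0, [], []),
  (0, [], []),
  (0, [], []),
  (0, [], []),
  (0, [], []),
  (0, [2, 6, 10, 11, 12, 4, 1, 18, 22, 15, 3, 7, 13, 9, 23, 21, 19, 5, 20, 17, 14, 16, 8, 0], [23, 6, 0, 10, 5, 17, 1, 11, 22, 13, 2, 3, 4, 12, 20, 9, 21, 19, 7, 16, 18, 15, 8, 14]),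
  (0, [9, 4, 18, 14, 13, 16, 19, 10, 15, 17, 5, 23, 11, 7, 6, 20, 2, 1, 0, 21, 12, 8, 3, 22], [18, 17, 16, 22, 1, 10, 14, 13, 21, 0, 7, 12, 20, 4, 3, 8, 5, 9, 2, 6, 15, 19, 23, 11]),
  (0, [], []),
  (0, [], [])]

/-- Part 3 of the class certificate. -/
def Rc3 : List (Nat × List Nat × List Nat) := [
  (0, [], []),
  (0, [], []),
  (0, [], []),
  (0, [], []),
  (0, [], []),
  (0, [], []),
  (0, [6, 7, 13, 8, 21, 10, 0, 1, 3, 14, 5, 19, 20, 2, 9, 22, 17, 16, 23, 11, 12, 4, 15, 18], [6, 7, 13, 8, 21, 10, 0, 1, 3, 14, 5, 19, 20, 2, 9, 22, 17, 16, 23, 11, 12, 4, 15, 18]),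
  (0, [21, 7, 4, 18, 0, 20, 6, 19, 17, 9, 15, 23, 3, 2, 10, 11, 14, 12, 1, 22, 8, 16, 5, 13], [4, 18, 13, 12, 2, 22, 6, 1, 20, 9, 14, 15, 17, 23, 16, 10, 21, 8, 3, 7, 5, 0, 19, 11]),
  (0, [21, 15, 13, 11, 20, 17, 14, 2, 3, 12, 5, 18, 10, 4, 22, 19, 6, 16, 9, 1, 7, 8, 0, 23], [22, 19, 7, 8, 13, 10, 16, 20, 21, 18, 12, 3, 9, 2, 6, 1, 17, 5, 11, 15, 4, 0, 14, 23]),
  (0, [12, 7, 19, 6, 20, 8, 14, 4, 17, 9, 0, 16, 5, 2, 18, 1, 10, 21, 22, 13, 15, 3, 23, 11], [10, 15, 13, 21, 7, 12, 3, 1, 5, 9, 16, 23, 0, 19, 6, 20, 11, 8, 14, 2, 4, 17, 18, 22]),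
  (0, [], []),
  (0, [], []),
  (0, [], []),
  (0, [], []),
  (0, [], []),
  (0, [], []),
  (0, [22, 23, 5, 0, 1, 19, 8, 18, 12, 11, 20, 16, 6, 10, 17, 7, 9, 21, 15, 2, 13, 14, 3, 4], [3, 4, 19, 22, 23, 2, 12, 15, 6, 16, 13, 9, 8, 20, 21, 18, 11, 14, 7, 5, 10, 17, 0, 1]),
  (0, [11, 3, 16, 21, 15, 14, 23, 9, 18, 10, 0, 1, 20, 17, 12, 7, 5, 22, 8, 13, 19, 4, 2, 6], [10, 11, 22, 1, 21, 16, 23, 15, 18, 7, 9, 0, 14, 19, 5, 4, 2, 13, 8, 20, 12, 3, 17, 6]),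
  (0, [], []),
  (0, [], []),
  (0, [], []),
  (0, [], []),
  (0, [], []),
  (0, [], []),
  (0, [], []),
  (0, [], []),
  (0, [], []),
  (0, [], []),
  (0, [], []),
  (0, [], []),
  (0, [18, 15, 19, 22, 16, 14, 11, 2, 12, 10, 17, 13, 4, 1, 23, 8, 5, 21, 9, 0, 3, 20, 7, 6], [19, 13, 7, 20, 12, 16, 23, 22, 15, 18, 9, 6, 8, 11, 5, 1, 4, 10, 0, 2, 21, 17, 3, 14]),
  (0, [16, 22, 23, 4, 19, 21, 7, 11, 0, 8, 10, 17, 14, 5, 20, 1, 13, 3, 12, 2, 15, 6, 9, 18], [8, 15, 19, 17, 3, 13, 21, 6, 9, 22, 10, 7, 18, 16, 12, 20, 0, 11, 23, 4, 14, 5, 1, 2]),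
  (0, [], []),
  (0, [], []),
  (1, [], []),
  (1, [], []),
  (0, [], []),
  (0, [], []),
  (0, [], []),
  (0, [], []),
  (0, [], []),
  (0, [], []),
  (0, [22, 2, 14, 8, 6, 12, 5, 9, 16, 23, 7, 18, 21, 15, 0, 17, 11, 3, 10, 1, 19, 20, 4, 13], [14, 19, 1, 17, 22, 6, 4, 10, 3, 7, 18, 16, 5, 23, 2, 13, 8, 15, 11, 20, 21, 12, 0, 9]),
  (0, [20, 19, 14, 18, 1, 0, 10, 2, 12, 21, 16, 3, 23, 6, 4, 17, 7, 13, 5, 15, 9, 8, 11, 22], [5, 4, 7, 11, 14, 18, 13, 16, 21, 20, 6, 22, 8, 17, 2, 19, 10, 15, 3, 1, 0, 9, 23, 12]),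
  (0, [], []),
  (0, [], []),
  (0, [], []),
  (0, [], []),
  (0, [], []),
  (0, [], []),
  (0, [], []),
  (0, [], []),
  (1, [], []),
  (1, [], []),
  (0, [], []),
  (0, [], []),
  (0, [], []),
  (0, [], []),
  (0, [], []),
  (0, [], []),
  (0, [0, 18, 7, 16, 12, 9, 11, 13, 22, 8, 19, 15, 2, 21, 3, 10, 5, 23, 14, 4, 20, 6, 17, 1], [0, 23, 12, 14, 19, 16, 21, 2, 9, 5, 15, 6, 4, 7, 18, 11, 3, 22, 1, 10, 20, 13, 8, 17]),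
  (0, [7, 22, 17, 13, 9, 12, 20, 5, 2, 1, 10, 16, 21, 6, 15, 23, 19, 4, 3, 14, 11, 8, 18, 0], [23, 9, 8, 18, 17, 7, 13, 0, 21, 4, 10, 20, 5, 3, 19, 14, 11, 2, 22, 16, 6, 12, 1, 15]),
  (0, [], []),
  (0, [], []),
  (0, [], []),
  (0, [], []),
  (0, [], []),
  (0, [], []),
  (0, [], []),
  (0, [], []),
  (1, [], []),
  (1, [], []),
  (0, [7, 21, 19, 20, 12, 17, 23, 1, 5, 4, 3, 8, 16, 10, 13, 18, 22, 11, 9, 2, 15, 6, 14, 0], [23, 7, 19, 10, 9, 8, 21, 0, 11, 18, 13, 17, 4, 14, 22, 20, 12, 5, 15, 2, 3, 1, 16, 6]),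
  (0, [17, 0, 15, 7, 8, 21, 4, 16, 20, 13, 18, 12, 11, 2, 9, 1, 6, 14, 5, 3, 19, 10, 22, 23], [1, 15, 13, 19, 6, 18, 16, 3, 4, 14, 21, 12, 11, 9, 17, 2, 7, 0, 10, 20, 8, 5, 22, 23]),
  (0, [], []),
  (0, [], []),
  (0, [], []),
  (0, [], []),
  (0, [], []),
  (0, [], []),
  (1, [], []),
  (1, [], []),
  (0, [], []),
  (0, [], []),
  (0, [], []),
  (0, [], []),
  (0, [], []),
  (0, [], []),
  (0, [], []),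
  (0, [], []),
  (0, [], []),
  (0, [], []),
  (0, [], []),
  (0, [], []),
  (0, [19, 18, 14, 11, 17, 7, 1, 6, 22, 15, 16, 4, 13, 21, 5, 9, 2, 23, 20, 12, 10, 3, 8, 0], [23, 6, 16, 21, 11, 14, 7, 5, 22, 15, 20, 3, 19, 12, 2, 9, 10, 4, 1, 0, 18, 13, 8, 17]),
  (0, [9, 8, 15, 14, 19, 10, 17, 3, 20, 13, 12, 22, 21, 2, 4, 16, 7, 6, 5, 1, 0, 11, 18, 23], [20, 19, 13, 7, 14, 18, 17, 16, 1, 0, 5, 21, 10, 9, 3, 2, 15, 6, 22, 4, 8, 12, 11, 23]),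
  (0, [], []),
  (0, [], []),
  (0, [18, 0, 16, 20, 9, 15, 13, 8, 21, 10, 2, 11, 22, 3, 4, 6, 7, 12, 19, 14, 17, 5, 23, 1], [1, 23, 10, 13, 14, 21, 15, 16, 7, 4, 9, 11, 17, 6, 19, 5, 2, 20, 0, 18, 3, 8, 12, 22]),
  (0, [23, 18, 12, 4, 9, 1, 13, 10, 11, 5, 2, 3, 16, 21, 7, 6, 20, 22, 15, 14, 17, 8, 0, 19], [22, 5, 10, 11, 3, 9, 15, 14, 21, 4, 7, 8, 2, 6, 19, 18, 12, 20, 1, 23, 16, 13, 17, 0]),
  (0, [], []),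
  (0, [], []),
  (0, [], []),
  (0, [], []),
  (0, [], []),
  (0, [], []),
  (0, [5, 0, 16, 12, 2, 20, 18, 8, 23, 11, 4, 6, 17, 3, 21, 19, 10, 22, 7, 1, 15, 14, 9, 13], [1, 19, 4, 13, 10, 0, 11, 18, 7, 22, 16, 9, 3, 23, 21, 20, 2, 12, 6, 15, 5, 14, 17, 8]),
  (0, [23, 3, 9, 0, 18, 15, 8, 16, 12, 21, 7, 2, 1, 17, 6, 11, 14, 5, 13, 10, 22, 20, 4, 19], [3, 12, 11, 1, 22, 17, 14, 10, 6, 2, 19, 15, 8, 18, 16, 5, 7, 13, 4, 23, 21, 9, 20, 0]),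
  (0, [], []),
  (0, [], []),
  (0, [], []),
  (0, [], []),
  (0, [], []),
  (0, [], []),
  (0, [], []),
  (0, [], []),
  (0, [17, 7, 20, 19, 0, 5, 15, 13, 6, 14, 11, 12, 21, 4, 1, 16, 2, 9, 22, 8, 3, 10, 18, 23], [4, 14, 16, 20, 13, 5, 8, 1, 19, 17, 21, 10, 11, 7, 9, 6, 15, 0, 22, 3, 2, 12, 18, 23]),
  (0, [14, 13, 7, 18, 15, 0, 12, 4, 9, 6, 16, 5, 23, 20, 10, 1, 21, 17, 8, 19, 2, 11, 22, 3], [5, 15, 20, 23, 7, 11, 9, 2, 18, 8, 14, 21, 6, 1, 0, 4, 10, 17, 3, 19, 13, 16, 22, 12]),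
  (0, [], []),
  (0, [], []),
  (0, [], []),
  (0, [], []),
  (0, [], []),
  (0, [], []),
  (0, [21, 23, 8, 3, 9, 7, 11, 0, 14, 12, 4, 13, 2, 5, 16, 17, 22, 6, 1, 10, 18, 19, 20, 15], [7, 18, 12, 3, 10, 13, 17, 5, 2, 4, 19, 6, 9, 11, 8, 23, 14, 15, 20, 21, 22, 0, 16, 1]),
  (0, [18, 8, 3, 22, 19, 20, 23, 16, 21, 12, 7, 6, 14, 0, 5, 15, 11, 10, 4, 2, 1, 17, 9, 13], [13, 20, 19, 2, 18, 14, 11, 10, 1, 22, 17, 16, 9, 23, 12, 15, 7, 21, 0, 4, 5, 8, 3, 6]),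
  (0, [], []),
  (0, [], [])]

/-- Part 4 of the class certificate. -/
def Rc4 : List (Nat × List Nat × List Nat) := [
  (0, [22, 4, 1, 12, 7, 11, 10, 19, 8, 16, 23, 17, 18, 20, 14, 2, 9, 5, 3, 15, 13, 6, 21, 0], [23, 2, 15, 18, 1, 17, 21, 4, 8, 16, 6, 5, 3, 20, 14, 19, 9, 11, 12, 7, 13, 22, 0, 10]),
  (0, [12, 20, 7, 9, 15, 11, 10, 4, 22, 16, 3, 17, 23, 2, 5, 19, 8, 14, 6, 13, 1, 18, 0, 21], [22, 20, 13, 10, 7, 14, 18, 2, 16, 3, 6, 5, 0, 19, 17, 4, 9, 11, 21, 15, 1, 23, 8, 12]),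
  (0, [], []),
  (0, [], []),
  (0, [], []),
  (0, [], []),
  (0, [], []),
  (0, [], []),
  (0, [], []),
  (0, [], []),
  (0, [], []),
  (0, [], []),
  (0, [], []),
  (0, [], []),
  (0, [], []),
  (0, [], []),
  (0, [], []),
  (0, [], []),
  (0, [], []),
  (0, [], []),
  (0, [7, 8, 0, 12, 23, 4, 2, 3, 10, 15, 17, 20, 19, 22, 14, 11, 13, 9, 1, 5, 16, 6, 21, 18], [2, 18, 6, 7, 5, 19, 21, 0, 1, 17, 8, 15, 3, 16, 14, 9, 20, 10, 23, 12, 11, 22, 13, 4]),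
  (0, [8, 17, 14, 1, 9, 15, 11, 4, 19, 22, 5, 2, 21, 6, 10, 20, 3, 12, 18, 13, 7, 23, 16, 0], [23, 3, 11, 16, 7, 10, 13, 20, 0, 4, 14, 6, 17, 19, 2, 5, 22, 1, 18, 8, 15, 12, 9, 21]),
  (0, [], []),
  (0, [], []),
  (0, [], []),
  (0, [], []),
  (0, [], []),
  (0, [], []),
  (0, [], []),
  (0, [], []),
  (0, [], []),
  (0, [], []),
  (0, [], []),
  (0, [], []),
  (0, [11, 18, 17, 2, 12, 5, 7, 21, 23, 3, 16, 19, 20, 6, 13, 10, 15, 0, 8, 14, 9, 4, 1, 22], [17, 22, 3, 9, 21, 5, 13, 6, 18, 20, 15, 0, 4, 14, 19, 16, 10, 2, 1, 11, 12, 7, 23, 8]),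
  (0, [4, 10, 15, 5, 21, 13, 8, 12, 20, 17, 9, 11, 0, 2, 3, 18, 23, 6, 14, 19, 1, 16, 22, 7], [12, 20, 13, 14, 0, 3, 17, 23, 6, 10, 1, 11, 7, 5, 18, 2, 21, 9, 15, 19, 8, 4, 22, 16]),
  (0, [], []),
  (0, [], []),
  (0, [], []),
  (0, [], []),
  (0, [], []),
  (0, [], []),
  (0, [], []),
  (0, [], []),
  (0, [], []),
  (0, [], []),
  (0, [], []),
  (0, [], []),
  (0, [], []),
  (0, [], []),
  (0, [], []),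
  (0, [], []),
  (0, [], []),
  (0, [], []),
  (0, [11, 4, 10, 23, 21, 5, 14, 20, 8, 19, 17, 16, 9, 13, 2, 18, 3, 6, 1, 7, 12, 15, 22, 0], [23, 18, 14, 16, 1, 5, 17, 19, 8, 12, 2, 0, 20, 13, 6, 21, 11, 10, 15, 9, 7, 4, 22, 3]),
  (0, [4, 23, 6, 20, 11, 1, 0, 14, 2, 21, 18, 13, 12, 17, 10, 9, 19, 16, 8, 22, 5, 3, 15, 7], [6, 5, 8, 21, 0, 20, 2, 23, 18, 15, 14, 4, 12, 11, 7, 22, 17, 13, 10, 16, 3, 9, 19, 1]),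
  (0, [], []),
  (0, [], []),
  (0, [], []),
  (0, [], []),
  (0, [], []),
  (0, [], []),
  (0, [], []),
  (0, [], []),
  (0, [], []),
  (0, [], []),
  (0, [], []),
  (0, [], []),
  (0, [], []),
  (0, [], []),
  (0, [], []),
  (0, [], []),
  (0, [7, 6, 23, 16, 9, 4, 15, 14, 13, 21, 12, 3, 19, 11, 1, 17, 0, 10, 18, 5, 22, 2, 8, 20], [16, 14, 21, 11, 5, 19, 1, 0, 22, 4, 17, 13, 10, 8, 7, 6, 3, 15, 18, 12, 23, 9, 20, 2]),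
  (0, [23, 6, 12, 16, 9, 5, 2, 14, 11, 20, 7, 0, 19, 18, 15, 17, 8, 4, 13, 10, 21, 1, 3, 22], [11, 21, 6, 22, 17, 5, 1, 10, 16, 4, 19, 8, 2, 18, 7, 14, 3, 15, 13, 12, 9, 20, 23, 0]),
  (0, [], []),
  (0, [], []),
  (0, [], []),
  (0, [], []),
  (0, [], []),
  (0, [], []),
  (0, [], []),
  (0, [], []),
  (0, [], []),
  (0, [], []),
  (0, [], []),
  (0, [], []),
  (0, [], []),
  (0, [], []),
  (0, [], []),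
  (0, [], []),
  (0, [], []),
  (0, [], []),
  (1, [], []),
  (1, [], []),
  (0, [], []),
  (0, [], []),
  (0, [], []),
  (0, [], []),
  (0, [], []),
  (0, [], []),
  (0, [], []),
  (0, [], []),
  (0, [], []),
  (0, [], []),
  (0, [], []),
  (0, [], []),
  (0, [], []),
  (0, [], []),
  (0, [], []),
  (0, [], []),
  (1, [], []),
  (1, [], []),
  (0, [], []),
  (0, [], []),
  (0, [], []),
  (0, [], []),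
  (0, [], []),
  (0, [], []),
  (0, [], []),
  (0, [], []),
  (0, [], []),
  (0, [], []),
  (0, [11, 10, 15, 16, 21, 5, 14, 18, 22, 13, 4, 3, 6, 19, 9, 12, 0, 7, 20, 2, 1, 17, 8, 23], [16, 20, 19, 11, 10, 5, 12, 17, 22, 14, 1, 0, 15, 9, 6, 2, 3, 21, 7, 13, 18, 4, 8, 23]),
  (0, [14, 19, 16, 21, 2, 9, 5, 15, 6, 4, 7, 18, 11, 3, 22, 1, 10, 20, 13, 8, 0, 23, 12, 17], [20, 15, 4, 13, 9, 6, 8, 10, 19, 5, 16, 12, 22, 18, 0, 7, 2, 23, 11, 1, 17, 3, 14, 21]),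
  (0, [], []),
  (0, [], []),
  (0, [], []),
  (0, [], [])]

/-- Part 5 of the class certificate. -/
def Rc5 : List (Nat × List Nat × List Nat) := [
  (0, [10, 15, 13, 21, 7, 12, 3, 1, 5, 9, 16, 23, 0, 19, 6, 20, 11, 8, 14, 2, 4, 17, 18, 22], [12, 7, 19, 6, 20, 8, 14, 4, 17, 9, 0, 16, 5, 2, 18, 1, 10, 21, 22, 13, 15, 3, 23, 11]),
  (0, [3, 7, 2, 8, 4, 18, 11, 15, 21, 9, 14, 16, 17, 1, 6, 19, 10, 5, 22, 13, 20, 23, 12, 0], [23, 13, 2, 0, 4, 17, 14, 1, 3, 9, 16, 6, 22, 19, 10, 7, 11, 12, 5, 15, 20, 8, 18, 21]),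
  (0, [], []),
  (0, [], []),
  (0, [], []),
  (0, [], []),
  (0, [], []),
  (0, [], []),
  (0, [], []),
  (0, [], []),
  (0, [], []),
  (0, [], []),
  (0, [], []),
  (0, [], []),
  (0, [], []),
  (0, [], []),
  (0, [], []),
  (0, [], []),
  (0, [], []),
  (0, [], []),
  (0, [15, 13, 20, 10, 4, 18, 0, 22, 21, 3, 16, 12, 9, 7, 6, 5, 2, 14, 17, 11, 23, 8, 19, 1], [6, 23, 16, 9, 4, 15, 14, 13, 21, 12, 3, 19, 11, 1, 17, 0, 10, 18, 5, 22, 2, 8, 7, 20]),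
  (0, [6, 15, 19, 7, 16, 17, 10, 1, 13, 21, 5, 9, 18, 3, 23, 8, 14, 11, 12, 0, 2, 22, 20, 4], [19, 7, 20, 13, 23, 10, 0, 3, 15, 11, 6, 17, 18, 8, 16, 1, 4, 5, 12, 2, 22, 9, 21, 14]),
  (0, [], []),
  (0, [], []),
  (0, [], []),
  (0, [], []),
  (0, [], []),
  (0, [], []),
  (0, [], []),
  (0, [], []),
  (0, [], []),
  (0, [], []),
  (0, [], []),
  (0, [], []),
  (0, [1, 9, 21, 5, 18, 11, 7, 10, 19, 3, 20, 15, 16, 17, 13, 6, 22, 0, 4, 12, 14, 8, 2, 23], [17, 0, 22, 9, 18, 3, 15, 6, 21, 1, 7, 5, 19, 14, 20, 11, 12, 13, 4, 8, 10, 2, 16, 23]),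
  (0, [9, 8, 20, 10, 7, 12, 1, 4, 14, 22, 2, 6, 5, 3, 15, 0, 21, 11, 19, 13, 16, 23, 17, 18], [15, 6, 10, 13, 7, 12, 11, 4, 1, 0, 3, 17, 5, 19, 8, 14, 20, 22, 23, 18, 2, 16, 9, 21]),
  (0, [], []),
  (0, [], []),
  (0, [], []),
  (0, [], []),
  (0, [], []),
  (0, [], []),
  (0, [], []),
  (0, [], []),
  (0, [], []),
  (0, [], []),
  (0, [], []),
  (0, [], []),
  (0, [], []),
  (0, [], []),
  (0, [], []),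
  (0, [], []),
  (0, [], []),
  (0, [], []),
  (0, [17, 1, 8, 9, 3, 6, 5, 15, 7, 21, 23, 4, 11, 19, 10, 0, 13, 22, 12, 2, 16, 18, 14, 20], [15, 1, 19, 4, 11, 6, 5, 8, 2, 3, 14, 12, 18, 16, 22, 7, 20, 0, 21, 13, 23, 9, 17, 10]),
  (0, [9, 19, 8, 17, 2, 7, 21, 3, 20, 23, 22, 6, 5, 16, 11, 0, 4, 10, 18, 15, 1, 12, 13, 14], [15, 20, 4, 7, 16, 12, 11, 5, 2, 0, 17, 14, 21, 22, 23, 19, 13, 3, 18, 1, 8, 6, 10, 9]),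
  (0, [], []),
  (0, [], []),
  (0, [], []),
  (0, [], []),
  (0, [], []),
  (0, [], []),
  (0, [], []),
  (0, [], []),
  (0, [], []),
  (0, [], []),
  (0, [], []),
  (0, [], []),
  (0, [], []),
  (0, [], []),
  (0, [], []),
  (0, [], []),
  (0, [], []),
  (0, [], []),
  (1, [], []),
  (1, [], []),
  (0, [], []),
  (0, [], []),
  (0, [], []),
  (0, [], []),
  (0, [], []),
  (0, [], []),
  (0, [], []),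
  (0, [], []),
  (0, [], []),
  (0, [], []),
  (0, [], []),
  (0, [], []),
  (0, [], []),
  (0, [], []),
  (0, [], []),
  (0, [], []),
  (0, [], []),
  (0, [], []),
  (0, [8, 12, 13, 9, 20, 14, 23, 7, 3, 15, 22, 16, 19, 18, 11, 10, 17, 1, 5, 4, 21, 2, 0, 6], [22, 17, 21, 8, 19, 18, 23, 7, 0, 3, 15, 14, 1, 2, 5, 9, 11, 16, 13, 12, 4, 20, 10, 6]),
  (0, [19, 7, 17, 5, 14, 11, 0, 6, 1, 10, 3, 15, 21, 13, 16, 20, 23, 12, 8, 9, 4, 18, 2, 22], [6, 8, 22, 10, 20, 3, 7, 1, 18, 19, 9, 5, 17, 13, 4, 11, 14, 2, 21, 0, 15, 12, 23, 16]),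
  (0, [], []),
  (0, [], []),
  (0, [], []),
  (0, [], []),
  (0, [], []),
  (0, [], []),
  (0, [], []),
  (0, [], []),
  (0, [], []),
  (0, [], []),
  (0, [], []),
  (0, [], []),
  (0, [21, 23, 4, 17, 13, 6, 8, 7, 10, 15, 3, 18, 1, 22, 16, 11, 9, 2, 0, 20, 5, 19, 12, 14], [18, 12, 17, 10, 2, 20, 5, 7, 6, 16, 8, 15, 22, 4, 23, 9, 14, 3, 11, 21, 19, 0, 13, 1]),
  (0, [3, 9, 22, 19, 11, 15, 4, 23, 8, 12, 7, 16, 21, 6, 20, 17, 2, 18, 13, 5, 14, 10, 0, 1], [22, 23, 16, 0, 6, 19, 13, 10, 8, 1, 21, 4, 9, 18, 20, 5, 11, 15, 17, 3, 14, 12, 2, 7]),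
  (0, [], []),
  (0, [], []),
  (0, [], []),
  (0, [], []),
  (0, [], []),
  (0, [], []),
  (0, [], []),
  (0, [], []),
  (0, [], []),
  (0, [], []),
  (1, [], []),
  (1, [], []),
  (0, [], []),
  (0, [], []),
  (0, [], []),
  (0, [], []),
  (0, [], []),
  (0, [], [])]

/-- Part 6 of the class certificate. -/
def Rc6 : List (Nat × List Nat × List Nat) := [
  (0, [], []),
  (0, [], []),
  (0, [], []),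
  (0, [], []),
  (0, [], []),
  (0, [], []),
  (0, [], []),
  (0, [], []),
  (0, [18, 7, 4, 21, 20, 6, 14, 13, 3, 22, 12, 11, 10, 2, 5, 19, 0, 9, 8, 15, 1, 16, 17, 23], [16, 20, 13, 8, 2, 14, 5, 1, 18, 17, 12, 11, 10, 7, 6, 19, 21, 22, 0, 15, 4, 3, 9, 23]),
  (0, [16, 20, 13, 8, 2, 14, 5, 1, 18, 17, 12, 11, 10, 7, 6, 19, 21, 22, 0, 15, 4, 3, 9, 23], [18, 7, 4, 21, 20, 6, 14, 13, 3, 22, 12, 11, 10, 2, 5, 19, 0, 9, 8, 15, 1, 16, 17, 23]),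
  (0, [], []),
  (0, [], []),
  (0, [], []),
  (0, [], []),
  (0, [], []),
  (0, [], []),
  (0, [], []),
  (0, [], []),
  (0, [], []),
  (0, [], []),
  (0, [], []),
  (0, [], []),
  (0, [], []),
  (0, [], []),
  (0, [], []),
  (0, [], []),
  (0, [18, 7, 4, 21, 20, 6, 14, 13, 3, 22, 12, 11, 10, 2, 5, 19, 0, 9, 8, 15, 1, 16, 17, 23], [16, 20, 13, 8, 2, 14, 5, 1, 18, 17, 12, 11, 10, 7, 6, 19, 21, 22, 0, 15, 4, 3, 9, 23]),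
  (0, [16, 20, 13, 8, 2, 14, 5, 1, 18, 17, 12, 11, 10, 7, 6, 19, 21, 22, 0, 15, 4, 3, 9, 23], [18, 7, 4, 21, 20, 6, 14, 13, 3, 22, 12, 11, 10, 2, 5, 19, 0, 9, 8, 15, 1, 16, 17, 23]),
  (0, [], []),
  (0, [], []),
  (0, [], []),
  (0, [], []),
  (0, [], []),
  (0, [], []),
  (0, [], []),
  (0, [], []),
  (0, [], []),
  (0, [], []),
  (0, [], []),
  (0, [], []),
  (0, [], []),
  (0, [], []),
  (0, [], []),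
  (0, [], []),
  (0, [23, 1, 9, 8, 19, 13, 7, 14, 5, 12, 0, 10, 22, 15, 20, 6, 16, 18, 3, 2, 17, 11, 21, 4], [10, 1, 19, 18, 23, 8, 15, 6, 3, 2, 11, 21, 9, 5, 7, 13, 16, 20, 17, 4, 14, 22, 12, 0]),
  (0, [12, 20, 3, 14, 7, 5, 11, 8, 18, 2, 6, 1, 10, 4, 22, 16, 9, 19, 17, 13, 0, 21, 15, 23], [20, 11, 9, 2, 13, 5, 10, 4, 7, 16, 12, 6, 0, 19, 3, 22, 15, 18, 8, 17, 1, 21, 14, 23]),
  (0, [], []),
  (0, [], []),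
  (0, [], []),
  (0, [], []),
  (0, [], []),
  (0, [], []),
  (0, [], []),
  (0, [], []),
  (0, [], []),
  (0, [], []),
  (0, [], []),
  (0, [], []),
  (0, [], []),
  (0, [], []),
  (0, [], []),
  (0, [], []),
  (0, [8, 4, 23, 17, 13, 15, 1, 11, 9, 19, 14, 2, 0, 5, 18, 7, 16, 12, 3, 22, 20, 6, 10, 21], [12, 6, 11, 18, 1, 13, 21, 15, 0, 8, 22, 7, 17, 4, 10, 5, 16, 3, 14, 9, 20, 23, 19, 2]),
  (0, [23, 10, 19, 20, 2, 16, 17, 12, 4, 6, 11, 0, 7, 21, 8, 18, 5, 3, 13, 15, 1, 22, 14, 9], [11, 20, 4, 17, 8, 16, 9, 12, 14, 23, 1, 10, 7, 18, 22, 19, 5, 6, 15, 2, 3, 13, 21, 0]),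
  (0, [4, 9, 0, 15, 6, 11, 5, 16, 13, 21, 2, 10, 7, 17, 22, 3, 1, 18, 19, 14, 8, 20, 12, 23], [2, 16, 10, 15, 0, 6, 4, 12, 20, 1, 11, 5, 22, 8, 19, 3, 7, 13, 17, 18, 21, 9, 14, 23]),
  (0, [19, 23, 17, 16, 22, 20, 7, 6, 2, 18, 3, 10, 1, 5, 13, 9, 0, 12, 8, 11, 14, 15, 21, 4], [16, 12, 8, 10, 23, 13, 7, 6, 18, 15, 11, 19, 17, 14, 20, 21, 3, 2, 9, 0, 5, 22, 4, 1]),
  (0, [], []),
  (0, [], []),
  (0, [], []),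
  (0, [], []),
  (0, [], []),
  (0, [], []),
  (0, [], []),
  (0, [], []),
  (0, [], []),
  (0, [], []),
  (0, [], []),
  (0, [], []),
  (0, [], []),
  (0, [], []),
  (0, [], []),
  (0, [], []),
  (1, [], []),
  (1, [], []),
  (0, [], []),
  (0, [], []),
  (0, [], []),
  (0, [], []),
  (0, [], []),
  (0, [], []),
  (0, [], []),
  (0, [], []),
  (0, [], []),
  (0, [], []),
  (0, [], []),
  (0, [], []),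
  (0, [], []),
  (0, [], []),
  (0, [], []),
  (0, [], []),
  (0, [], []),
  (0, [], []),
  (1, [], []),
  (1, [], []),
  (0, [], []),
  (0, [], []),
  (0, [], []),
  (0, [], []),
  (0, [], []),
  (0, [], []),
  (0, [], []),
  (0, [], []),
  (0, [], []),
  (0, [], []),
  (0, [], []),
  (0, [], []),
  (0, [23, 16, 21, 2, 8, 20, 4, 12, 5, 17, 19, 14, 22, 3, 13, 18, 15, 9, 1, 0, 10, 11, 6, 7], [19, 18, 3, 13, 6, 8, 22, 23, 4, 17, 20, 21, 7, 14, 11, 16, 1, 9, 15, 10, 5, 2, 12, 0]),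
  (0, [22, 1, 21, 9, 19, 8, 0, 12, 11, 7, 6, 20, 5, 2, 16, 10, 14, 13, 17, 15, 18, 23, 4, 3], [6, 1, 13, 23, 22, 12, 10, 9, 5, 3, 15, 8, 7, 17, 16, 19, 14, 18, 20, 4, 11, 2, 0, 21]),
  (0, [], []),
  (0, [], []),
  (0, [], []),
  (0, [], []),
  (0, [], []),
  (0, [], []),
  (0, [], []),
  (0, [], []),
  (0, [], []),
  (0, [], [])]

/-- Part 7 of the class certificate. -/
def Rc7 : List (Nat × List Nat × List Nat) := [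
  (0, [], []),
  (0, [], []),
  (0, [], []),
  (0, [], []),
  (0, [], []),
  (0, [], []),
  (0, [], []),
  (0, [], []),
  (0, [23, 13, 2, 0, 4, 17, 14, 1, 3, 9, 16, 6, 22, 19, 10, 7, 11, 12, 5, 15, 20, 8, 18, 21], [3, 7, 2, 8, 4, 18, 11, 15, 21, 9, 14, 16, 17, 1, 6, 19, 10, 5, 22, 13, 20, 23, 12, 0]),
  (0, [22, 1, 13, 8, 15, 3, 5, 20, 18, 17, 11, 12, 0, 7, 21, 19, 6, 16, 10, 2, 4, 14, 23, 9], [12, 1, 19, 5, 20, 6, 16, 13, 3, 23, 18, 10, 11, 2, 21, 4, 17, 9, 8, 15, 7, 14, 0, 22]),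
  (0, [], []),
  (0, [], []),
  (0, [], []),
  (0, [], []),
  (0, [], []),
  (0, [], []),
  (0, [], []),
  (0, [], []),
  (0, [], []),
  (0, [], []),
  (0, [], []),
  (0, [], []),
  (0, [], []),
  (0, [], []),
  (0, [], []),
  (0, [], []),
  (0, [6, 8, 0, 14, 1, 18, 23, 2, 13, 21, 20, 5, 4, 16, 10, 19, 7, 11, 9, 15, 3, 17, 12, 22], [2, 4, 7, 20, 12, 11, 0, 16, 1, 18, 14, 17, 22, 8, 3, 19, 13, 21, 5, 15, 10, 9, 23, 6]),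
  (0, [23, 0, 8, 5, 3, 1, 2, 16, 9, 13, 22, 20, 11, 12, 4, 18, 17, 15, 6, 10, 21, 14, 19, 7], [1, 5, 6, 4, 14, 3, 18, 23, 2, 8, 19, 12, 13, 9, 21, 17, 7, 16, 15, 22, 11, 20, 10, 0]),
  (0, [], []),
  (0, [], []),
  (0, [], []),
  (0, [], []),
  (0, [], []),
  (0, [], []),
  (0, [], []),
  (0, [], []),
  (0, [], []),
  (0, [], []),
  (0, [], []),
  (0, [], []),
  (0, [], []),
  (0, [], []),
  (0, [], []),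
  (0, [], []),
  (0, [10, 22, 16, 7, 8, 1, 14, 11, 12, 15, 21, 6, 20, 0, 9, 3, 13, 2, 18, 23, 5, 4, 17, 19], [13, 5, 17, 15, 21, 20, 11, 3, 4, 14, 0, 7, 8, 16, 6, 9, 2, 22, 18, 23, 12, 10, 1, 19]),
  (0, [11, 15, 12, 4, 18, 3, 17, 2, 22, 16, 5, 14, 7, 10, 6, 21, 20, 0, 23, 19, 1, 13, 9, 8], [17, 20, 7, 5, 3, 10, 14, 12, 23, 22, 13, 0, 2, 21, 11, 1, 9, 6, 4, 19, 16, 15, 8, 18]),
  (0, [], []),
  (0, [], []),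
  (0, [], []),
  (0, [], []),
  (0, [], []),
  (0, [], []),
  (0, [], []),
  (0, [], []),
  (0, [], []),
  (0, [], []),
  (0, [], []),
  (0, [], []),
  (0, [], []),
  (0, [], []),
  (0, [], []),
  (0, [], []),
  (0, [19, 10, 17, 22, 21, 13, 20, 6, 5, 4, 11, 7, 2, 9, 8, 18, 1, 16, 15, 14, 12, 23, 3, 0], [23, 16, 12, 22, 9, 8, 7, 11, 14, 13, 1, 10, 20, 5, 19, 18, 17, 2, 15, 0, 6, 4, 3, 21]),
  (0, [11, 19, 17, 0, 6, 13, 12, 1, 3, 18, 5, 4, 8, 2, 20, 15, 22, 7, 16, 14, 9, 23, 10, 21], [3, 7, 13, 8, 11, 10, 4, 17, 12, 20, 22, 0, 6, 5, 19, 15, 18, 2, 9, 1, 14, 23, 16, 21]),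
  (0, [], []),
  (0, [], []),
  (0, [], []),
  (0, [], []),
  (1, [], []),
  (1, [], []),
  (0, [], []),
  (0, [], []),
  (0, [], []),
  (0, [], []),
  (0, [], []),
  (0, [], []),
  (0, [], []),
  (0, [], []),
  (0, [], []),
  (0, [], []),
  (0, [], []),
  (0, [], []),
  (0, [], []),
  (0, [], []),
  (0, [], []),
  (0, [], []),
  (0, [7, 15, 5, 14, 11, 18, 3, 1, 20, 12, 13, 16, 17, 22, 8, 23, 6, 10, 4, 2, 19, 9, 0, 21], [22, 7, 19, 6, 18, 2, 16, 0, 14, 21, 17, 4, 9, 10, 3, 1, 11, 12, 5, 20, 8, 23, 13, 15]),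
  (0, [0, 7, 17, 5, 14, 18, 19, 20, 16, 10, 8, 2, 22, 9, 1, 6, 23, 12, 3, 13, 4, 11, 15, 21], [0, 14, 11, 18, 20, 3, 15, 1, 10, 13, 9, 21, 17, 19, 4, 22, 8, 2, 5, 6, 7, 23, 12, 16]),
  (0, [], []),
  (0, [], []),
  (0, [], []),
  (0, [], []),
  (0, [], []),
  (0, [], []),
  (0, [], []),
  (0, [], []),
  (0, [], []),
  (0, [], []),
  (0, [20, 21, 15, 8, 2, 5, 14, 12, 4, 11, 7, 6, 0, 19, 9, 1, 3, 22, 13, 10, 18, 16, 17, 23], [12, 15, 4, 16, 8, 5, 11, 10, 3, 14, 19, 9, 7, 18, 6, 2, 21, 22, 20, 13, 0, 1, 17, 23]),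
  (0, [23, 15, 14, 18, 6, 0, 7, 19, 5, 16, 22, 4, 21, 17, 20, 9, 12, 8, 11, 1, 2, 10, 13, 3], [5, 19, 20, 23, 11, 8, 4, 6, 17, 15, 21, 18, 16, 22, 2, 1, 9, 13, 3, 7, 14, 12, 10, 0]),
  (0, [], []),
  (0, [], []),
  (0, [], []),
  (0, [], []),
  (0, [], []),
  (0, [], []),
  (0, [], []),
  (0, [], []),
  (0, [], []),
  (0, [], []),
  (0, [], []),
  (0, [], []),
  (1, [], []),
  (1, [], []),
  (0, [], []),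
  (0, [], []),
  (0, [], []),
  (0, [], []),
  (0, [], []),
  (0, [], []),
  (0, [], []),
  (0, [], []),
  (0, [], []),
  (0, [], []),
  (0, [], []),
  (0, [], []),
  (0, [], []),
  (0, [], [])]

/-- The class certificate. -/
def rows : List (Nat × List Nat × List Nat) := Rc0 ++ (Rc1 ++ (Rc2 ++ (Rc3 ++ (Rc4 ++ (Rc5 ++ (Rc6 ++ (Rc7)))))))

set_option maxHeartbeats 4000000 in
theorem rows_ok : classOK inM24 2 [zA, zB] L rows = true := by decide +kernel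

/-- Every involution of `M24` is conjugate to `zA` or to `zB`. -/
theorem inv_conj {g : Equiv.Perm GolayPt} (hg : g ∈ M24) (h2 : orderOf g = 2) :
    ∃ k ∈ M24, Rep (k * g * k⁻¹) zA ∨ Rep (k * g * k⁻¹) zB := by
  have hc : Nat.card (grp gT) = 2 ^ (Nat.card M24).factorization 2 := by
    rw [card_grp, Cfsg.Agent.Lib.Helper86.SylowSimple.factorization_of_card 2 10 239085 _
      (by rw [Cfsg.Agent.Lib.Helper7.M24Main.card_M24]; norm_num) (by norm_num)]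
  obtain ⟨k, hk, r, hr, hrep⟩ := class_sylow 2 hE grpLe hc exists_M24 [zA, zB] rows rows_ok hg h2
  refine ⟨k, hk, ?_⟩
  simp only [List.mem_cons, List.not_mem_nil, or_false] at hr
  rcases hr with rfl | rfl
  · exact Or.inl hrep
  · exact Or.inr hrep

end Cfsg.Agent.Lib.Helper86.M24Inv
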