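import Cfsg.Agent.Lib.Helper86.NormTab

set_option autoImplicit false

/-! Generated data for the normaliser and the centraliser in `M24` of an element of order 7. -/

namespace Cfsg.Agent.Lib.Helper86.Nor7Data

open Cfsg Cfsg.Agent.Lib.Helper7.GolayBase Cfsg.Agent.Lib.Helper7.GolayCode Cfsg.Agent.Lib.Helper7.GolayRigid
  Cfsg.Agent.Lib.Helper7.GolayPerm Cfsg.Agent.Lib.Helper7.ChainGen
  Cfsg.Agent.Lib.Helper86.TabGrp Cfsg.Agent.Lib.Helper86.TabMathieu Cfsg.Agent.Lib.Helper86.ChainEnum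
  Cfsg.Agent.Lib.Helper86.CenTab Cfsg.Agent.Lib.Helper86.NormTab Cfsg.Agent.Lib.Helper86.SmallEnum
  Cfsg.Agent.Lib.Helper86.M24Inv2

/-- The table of an element of order 7. -/
def sT : List Nat := [3, 23, 21, 13, 8, 5, 7, 11, 16, 1, 12, 4, 20, 10, 6, 0, 14, 2, 18, 19, 15, 9, 17, 22]

/-- The table of its inverse. -/
def sT' : List Nat := [15, 9, 17, 0, 11, 5, 14, 6, 4, 21, 13, 7, 10, 3, 16, 20, 8, 22, 18, 19, 12, 2, 23, 1]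

theorem exS : ∃ g ∈ M24, Rep g sT ∧ Rep g⁻¹ sT' := exists_M24 sT sT' (by decide +kernel)

/-- The element of order 7. -/
noncomputable def sg : Equiv.Perm GolayPt := exS.choose

theorem sg_mem : sg ∈ M24 := exS.choose_spec.1
theorem rep_sg : Rep sg sT := exS.choose_spec.2.1
theorem rep_sg_inv : Rep sg⁻¹ sT' := exS.choose_spec.2.2

/-- The tables of the powers. -/
def L7 : List (List Nat) := [
  [0, 1, 2, 3, 4, 5, 6, 7, 8, 9, 10, 11, 12, 13, 14, 15, 16, 17, 18, 19, 20, 21, 22, 23],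
  [3, 23, 21, 13, 8, 5, 7, 11, 16, 1, 12, 4, 20, 10, 6, 0, 14, 2, 18, 19, 15, 9, 17, 22],
  [13, 22, 9, 10, 16, 5, 11, 4, 14, 23, 20, 8, 15, 12, 7, 3, 6, 21, 18, 19, 0, 1, 2, 17],
  [10, 17, 1, 12, 14, 5, 4, 8, 6, 22, 15, 16, 0, 20, 11, 13, 7, 9, 18, 19, 3, 23, 21, 2],
  [12, 2, 23, 20, 6, 5, 8, 16, 7, 17, 0, 14, 3, 15, 4, 10, 11, 1, 18, 19, 13, 22, 9, 21],
  [20, 21, 22, 15, 7, 5, 16, 14, 11, 2, 3, 6, 13, 0, 8, 12, 4, 23, 18, 19, 10, 17, 1, 9],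
  [15, 9, 17, 0, 11, 5, 14, 6, 4, 21, 13, 7, 10, 3, 16, 20, 8, 22, 18, 19, 12, 2, 23, 1]]

theorem hE7' : Enum (grp [sT, sT']) L7 :=
  enum_small [sT, sT'] L7 [(0, 0), (0, 1), (0, 2), (0, 3), (0, 4), (0, 5)] (by decide +kernel)

theorem hEs : Enum (Subgroup.zpowers sg) L7 := by
  rw [← grp_pair_eq rep_sg rep_sg_inv]; exact hE7'

/-- The octads invariant under the element. -/
def Om : List Nat := [84464, 1618953, 15073798]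

theorem Om_ok : invOctsOK sT' Om = true := by decide +kernel

/-- Coset representatives: normaliser, first level. -/
def W0n : List (List Nat) := [
  [0, 1, 2, 3, 4, 5, 6, 7, 8, 9, 10, 11, 12, 13, 14, 15, 16, 17, 18, 19, 20, 21, 22, 23],
  [11, 12, 20, 8, 1, 18, 23, 17, 22, 13, 7, 21, 4, 14, 9, 6, 2, 10, 19, 5, 16, 0, 3, 15],
  [16, 9, 23, 11, 13, 19, 12, 3, 15, 22, 4, 20, 6, 14, 0, 7, 10, 2, 18, 5, 8, 21, 1, 17]]

/-- Coset representatives: normaliser, second level. -/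
def W1n : List (List Nat) := [
  [0, 1, 2, 3, 4, 5, 6, 7, 8, 9, 10, 11, 12, 13, 14, 15, 16, 17, 18, 19, 20, 21, 22, 23],
  [21, 13, 10, 1, 6, 5, 7, 4, 11, 0, 2, 16, 9, 22, 14, 17, 8, 3, 19, 18, 23, 20, 15, 12]]

/-- Coset representatives: centraliser, first level. -/
def W0c : List (List Nat) := [
  [0, 1, 2, 3, 4, 5, 6, 7, 8, 9, 10, 11, 12, 13, 14, 15, 16, 17, 18, 19, 20, 21, 22, 23],
  [7, 12, 3, 11, 9, 18, 17, 2, 1, 10, 8, 21, 16, 4, 22, 6, 23, 0, 19, 5, 14, 13, 15, 20],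
  [1, 7, 16, 23, 15, 19, 10, 12, 0, 6, 17, 20, 2, 22, 13, 9, 3, 8, 5, 18, 21, 14, 4, 11]]

/-- Coset representatives: centraliser, second level. -/
def W1c : List (List Nat) := [
  [0, 1, 2, 3, 4, 5, 6, 7, 8, 9, 10, 11, 12, 13, 14, 15, 16, 17, 18, 19, 20, 21, 22, 23],
  [22, 0, 12, 17, 8, 5, 7, 11, 16, 15, 21, 4, 9, 2, 6, 23, 14, 10, 19, 18, 1, 20, 13, 3]]

/-- Coset representatives: both, the powers. -/
def W2 : List (List Nat) := [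
  [0, 1, 2, 3, 4, 5, 6, 7, 8, 9, 10, 11, 12, 13, 14, 15, 16, 17, 18, 19, 20, 21, 22, 23],
  [12, 2, 23, 20, 6, 5, 8, 16, 7, 17, 0, 14, 3, 15, 4, 10, 11, 1, 18, 19, 13, 22, 9, 21],
  [20, 21, 22, 15, 7, 5, 16, 14, 11, 2, 3, 6, 13, 0, 8, 12, 4, 23, 18, 19, 10, 17, 1, 9],
  [3, 23, 21, 13, 8, 5, 7, 11, 16, 1, 12, 4, 20, 10, 6, 0, 14, 2, 18, 19, 15, 9, 17, 22],
  [15, 9, 17, 0, 11, 5, 14, 6, 4, 21, 13, 7, 10, 3, 16, 20, 8, 22, 18, 19, 12, 2, 23, 1],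
  [10, 17, 1, 12, 14, 5, 4, 8, 6, 22, 15, 16, 0, 20, 11, 13, 7, 9, 18, 19, 3, 23, 21, 2],
  [13, 22, 9, 10, 16, 5, 11, 4, 14, 23, 20, 8, 15, 12, 7, 3, 6, 21, 18, 19, 0, 1, 2, 17]]

theorem hW0n : ∀ w ∈ W0n, ∃ g ∈ Nor sg, Rep g w := all_Nor rep_sg hEs W0n (by decide +kernel)
theorem hW1n : ∀ w ∈ W1n, ∃ g ∈ Nor sg, Rep g w := all_Nor rep_sg hEs W1n (by decide +kernel)
theorem hW2n : ∀ w ∈ W2, ∃ g ∈ Nor sg, Rep g w := all_Nor rep_sg hEs W2 (by decide +kernel)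
theorem hWin : ∀ w ∈ [idT], ∃ g ∈ Nor sg, Rep g w := all_Nor rep_sg hEs [idT] (by decide +kernel)
theorem hW0c : ∀ w ∈ W0c, ∃ g ∈ Cen sg, Rep g w := all_Cen rep_sg W0c (by decide +kernel)
theorem hW1c : ∀ w ∈ W1c, ∃ g ∈ Cen sg, Rep g w := all_Cen rep_sg W1c (by decide +kernel)
theorem hW2c : ∀ w ∈ W2, ∃ g ∈ Cen sg, Rep g w := all_Cen rep_sg W2 (by decide +kernel)
theorem hWic : ∀ w ∈ [idT], ∃ g ∈ Cen sg, Rep g w := all_Cen rep_sg [idT] (by decide +kernel)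

theorem fixMask_sT : fixMask sT = 786464 := by decide +kernel

theorem lvl0n : lvlOK [786464] [] 5 W0n = true := by decide +kernel
theorem lvl1n : lvlOK [786464, 32] [5] 18 W1n = true := by decide +kernel
theorem lvl2 : lvlOK [786464, 32, 262144] [18, 5] 19 [idT] = true := by decide +kernel
theorem lvl3 : lvlOK [786464, 32, 262144, atom Om 5] [19, 18, 5] 4 W2 = true := by decide +kernel
theorem lvl0c : lvlOK [786464] [] 5 W0c = true := by decide +kernel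
theorem lvl1c : lvlOK [786464, 32] [5] 18 W1c = true := by decide +kernel

/-- Four fixed indices. -/
def F4 : List Nat := [4, 19, 18, 5]

/-- Coset representatives of a level of the chain of the four-point stabiliser. -/
def W5 : List (List Nat) := [
  [0, 1, 2, 3, 4, 5, 6, 7, 8, 9, 10, 11, 12, 13, 14, 15, 16, 17, 18, 19, 20, 21, 22, 23],
  [1, 9, 2, 12, 4, 5, 16, 22, 3, 0, 15, 14, 8, 6, 17, 23, 13, 11, 18, 19, 20, 7, 21, 10],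
  [2, 1, 9, 14, 4, 5, 16, 7, 17, 0, 11, 21, 23, 8, 20, 6, 15, 13, 18, 19, 3, 10, 12, 22],
  [3, 22, 6, 14, 4, 5, 16, 23, 10, 11, 0, 21, 7, 20, 8, 9, 13, 15, 18, 19, 2, 17, 12, 1],
  [6, 22, 11, 1, 4, 5, 2, 21, 14, 3, 23, 0, 8, 12, 13, 20, 7, 16, 18, 19, 15, 17, 9, 10],
  [7, 17, 13, 21, 4, 5, 16, 3, 11, 8, 1, 12, 23, 6, 10, 0, 20, 22, 18, 19, 2, 15, 14, 9],
  [8, 17, 7, 22, 4, 5, 11, 9, 1, 13, 16, 6, 23, 2, 20, 21, 15, 0, 18, 19, 12, 10, 3, 14],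
  [9, 0, 2, 8, 4, 5, 13, 21, 12, 1, 23, 17, 3, 16, 11, 10, 6, 14, 18, 19, 20, 22, 7, 15],
  [10, 20, 15, 16, 4, 5, 12, 13, 17, 23, 9, 21, 22, 7, 6, 1, 11, 8, 18, 19, 2, 3, 14, 0],
  [11, 3, 6, 10, 4, 5, 20, 17, 7, 22, 1, 15, 14, 13, 21, 0, 16, 8, 18, 19, 2, 12, 23, 9],
  [12, 21, 16, 1, 4, 5, 2, 22, 3, 14, 17, 0, 10, 6, 15, 7, 20, 11, 18, 19, 13, 23, 9, 8],
  [13, 8, 7, 1, 4, 5, 2, 10, 23, 17, 14, 0, 22, 15, 6, 16, 11, 20, 18, 19, 12, 3, 9, 21],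
  [14, 12, 16, 3, 4, 5, 6, 23, 10, 21, 8, 11, 1, 20, 0, 17, 2, 15, 18, 19, 13, 9, 22, 7],
  [15, 10, 20, 1, 4, 5, 2, 8, 17, 23, 3, 0, 21, 13, 12, 11, 16, 7, 18, 19, 6, 14, 9, 22],
  [16, 14, 12, 8, 4, 5, 7, 23, 20, 21, 1, 13, 3, 15, 22, 0, 11, 10, 18, 19, 2, 6, 17, 9],
  [17, 8, 13, 12, 4, 5, 16, 10, 15, 7, 3, 14, 9, 20, 1, 11, 2, 23, 18, 19, 6, 0, 21, 22],
  [20, 23, 15, 22, 4, 5, 11, 14, 16, 10, 1, 6, 17, 12, 8, 0, 7, 21, 18, 19, 2, 13, 3, 9],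
  [21, 14, 16, 10, 4, 5, 20, 9, 1, 12, 7, 15, 3, 2, 11, 8, 6, 0, 18, 19, 13, 22, 23, 17],
  [22, 11, 6, 7, 4, 5, 13, 12, 14, 3, 9, 8, 10, 16, 15, 1, 20, 21, 18, 19, 2, 23, 17, 0],
  [23, 15, 20, 9, 4, 5, 2, 3, 11, 10, 12, 1, 7, 6, 8, 14, 13, 22, 18, 19, 16, 17, 0, 21]]

/-- Coset representatives of a level of the chain of the four-point stabiliser. -/
def W6 : List (List Nat) := [
  [0, 1, 2, 3, 4, 5, 6, 7, 8, 9, 10, 11, 12, 13, 14, 15, 16, 17, 18, 19, 20, 21, 22, 23],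
  [0, 2, 9, 7, 4, 5, 13, 15, 20, 1, 6, 8, 16, 10, 12, 3, 14, 23, 18, 19, 11, 21, 17, 22],
  [0, 9, 1, 15, 4, 5, 10, 3, 11, 2, 13, 20, 14, 6, 16, 7, 12, 22, 18, 19, 8, 21, 23, 17]]

/-- Coset representatives of a level of the chain of the four-point stabiliser. -/
def W7 : List (List Nat) := [
  [0, 1, 2, 3, 4, 5, 6, 7, 8, 9, 10, 11, 12, 13, 14, 15, 16, 17, 18, 19, 20, 21, 22, 23],
  [0, 1, 2, 6, 4, 5, 3, 8, 7, 9, 20, 22, 14, 17, 12, 23, 21, 13, 18, 19, 10, 16, 11, 15],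
  [0, 1, 2, 7, 4, 5, 8, 3, 6, 9, 12, 17, 10, 22, 20, 21, 23, 11, 18, 19, 14, 15, 13, 16],
  [0, 1, 2, 8, 4, 5, 7, 6, 3, 9, 14, 13, 20, 11, 10, 16, 15, 22, 18, 19, 12, 23, 17, 21],
  [0, 1, 2, 10, 4, 5, 20, 12, 14, 9, 3, 15, 7, 16, 8, 11, 13, 21, 18, 19, 6, 17, 23, 22],
  [0, 1, 2, 11, 4, 5, 22, 17, 13, 9, 15, 3, 21, 8, 16, 10, 14, 7, 18, 19, 23, 12, 6, 20],
  [0, 1, 2, 12, 4, 5, 14, 10, 20, 9, 7, 21, 3, 23, 6, 17, 22, 15, 18, 19, 8, 11, 16, 13],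
  [0, 1, 2, 13, 4, 5, 17, 22, 11, 9, 16, 8, 23, 3, 15, 14, 10, 6, 18, 19, 21, 20, 7, 12],
  [0, 1, 2, 14, 4, 5, 12, 20, 10, 9, 8, 16, 6, 15, 3, 13, 11, 23, 18, 19, 7, 22, 21, 17],
  [0, 1, 2, 15, 4, 5, 23, 21, 16, 9, 11, 10, 17, 14, 13, 3, 8, 12, 18, 19, 22, 7, 20, 6],
  [0, 1, 2, 16, 4, 5, 21, 23, 15, 9, 13, 14, 22, 10, 11, 8, 3, 20, 18, 19, 17, 6, 12, 7],
  [0, 1, 2, 17, 4, 5, 13, 11, 22, 9, 21, 7, 15, 6, 23, 12, 20, 3, 18, 19, 16, 10, 8, 14],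
  [0, 1, 2, 20, 4, 5, 10, 14, 12, 9, 6, 23, 8, 21, 7, 22, 17, 16, 18, 19, 3, 13, 15, 11],
  [0, 1, 2, 21, 4, 5, 16, 15, 23, 9, 17, 12, 11, 20, 22, 7, 6, 10, 18, 19, 13, 3, 14, 8],
  [0, 1, 2, 22, 4, 5, 11, 13, 17, 9, 23, 6, 16, 7, 21, 20, 12, 8, 18, 19, 15, 14, 3, 10],
  [0, 1, 2, 23, 4, 5, 15, 16, 21, 9, 22, 20, 13, 12, 17, 6, 7, 14, 18, 19, 11, 8, 10, 3]]

/-- The tables of the stabiliser of the four indices in `M24`. -/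
def L960 : List (List Nat) := prodL W5 (prodL W6 (prodL W7 [idT]))

theorem hW5 : ∀ w ∈ W5, ∃ g ∈ M24, Rep g w := all_inM24 W5 (by decide +kernel)
theorem hW6 : ∀ w ∈ W6, ∃ g ∈ M24, Rep g w := all_inM24 W6 (by decide +kernel)
theorem hW7 : ∀ w ∈ W7, ∃ g ∈ M24, Rep g w := all_inM24 W7 (by decide +kernel)

theorem hE7 : Enum (M24 ⊓ FixL (3 :: 1 :: 0 :: F4)) [idT] :=
  enum_bot (bot_of_rigid (le_refl _) _ 2 (by decide +kernel))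

theorem hE6 : Enum (M24 ⊓ FixL (1 :: 0 :: F4)) (prodL W7 [idT]) :=
  enum_level hW7 (pres_octs (le_refl _) (P := [786999]) (by decide +kernel)) (by decide +kernel) hE7

theorem hE5 : Enum (M24 ⊓ FixL (0 :: F4)) (prodL W6 (prodL W7 [idT])) :=
  enum_level hW6 (pres_octs (le_refl _) (P := [786999]) (by decide +kernel)) (by decide +kernel) hE6

theorem hE4 : Enum (M24 ⊓ FixL F4) L960 :=
  enum_level hW5 (pres_octs (le_refl _) (P := []) (by decide +kernel)) (by decide +kernel) hE5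

set_option maxHeartbeats 4000000 in
theorem count4n : L960.countP (normT sT L7) = 3 := by decide +kernel

set_option maxHeartbeats 4000000 in
theorem count4c : L960.countP (commT sT) = 1 := by decide +kernel

/-- Two tables of the centraliser which do not commute. -/
def xT : List Nat := [7, 12, 3, 11, 9, 18, 17, 2, 1, 10, 8, 21, 16, 4, 22, 6, 23, 0, 19, 5, 14, 13, 15, 20]
/-- The second one. -/
def yT : List Nat := [22, 0, 12, 17, 8, 5, 7, 11, 16, 15, 21, 4, 9, 2, 6, 23, 14, 10, 19, 18, 1, 20, 13, 3]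

theorem xy_mem : ∀ w ∈ [xT, yT], ∃ g ∈ Cen sg, Rep g w := all_Cen rep_sg [xT, yT] (by decide +kernel)
theorem xy_ne : tmul xT yT ≠ tmul yT xT := by decide +kernel

theorem trio_ok : Om.all (fun o => decide (o < 2 ^ 24) && Om.all (fun o' => o == o' || (o &&& o') == 0)) = true := by
  decide +kernel

end Cfsg.Agent.Lib.Helper86.Nor7Data
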