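import Mathlib
import Cfsg.Agent.Lib.Helper1.PDStmt

/-!
S4020 piece WORD: the word `w = x y^j` whose square inverts `z`, giving an element of order 4.
-/

set_option autoImplicit false

namespace Cfsg.Agent.Lib.Helper86.PDWORD

open Cfsg.Agent.Lib.Helper1.PDStmt

universe u

theorem main : Word.{u} := by
  intro X _ _ p _ hp2 z b x y a c hz1 hzp hbp hzb hxz hxb hyb hyz hpa hpc
  have hp : p.Prime := Fact.out
  -- choose `j` with `p ∣ a * (c * j) + 2`
  obtain ⟨j, hj⟩ : ∃ j : ℕ, p ∣ a * (c * j) + 2 := by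
    have hac : ¬ p ∣ a * c := fun h => (hp.dvd_mul.mp h).elim hpa hpc
    have hcop : Nat.Coprime (a * c) p :=
      Nat.Coprime.symm ((Nat.Prime.coprime_iff_not_dvd hp).mpr hac)
    obtain ⟨m, -, hm⟩ := Nat.exists_mul_mod_eq_one_of_coprime hcop hp.one_lt
    have h2 : 2 ≤ p := hp.two_le
    refine ⟨m * (p - 2), ?_⟩
    have hdm := Nat.div_add_mod (a * c * m) p
    rw [hm] at hdm
    obtain ⟨t, ht⟩ : ∃ t, t = a * c * m / p := ⟨_, rfl⟩
    rw [← ht] at hdm
    obtain ⟨s, hs⟩ : ∃ s, p = s + 2 := ⟨p - 2, by omega⟩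
    refine ⟨t * (p - 2) + 1, ?_⟩
    have e1 : a * (c * (m * (p - 2))) = (a * c * m) * (p - 2) := by ring
    rw [e1, ← hdm]
    subst hs
    simp only [Nat.add_sub_cancel]
    ring
  have hcz : Commute z b := hzb
  have hA : z ^ (a * (c * j) + 2) = 1 := by
    obtain ⟨t, ht⟩ := hj
    rw [ht, pow_mul, hzp, one_pow]
  have hz1' : z ^ (a * (c * j) + 1) = z⁻¹ := by
    rw [eq_inv_iff_mul_eq_one, ← pow_succ]
    exact hA
  have hzζ : Commute z (z ^ (a * (c * j))) := (Commute.refl z).pow_right _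
  have hβζ : Commute (b ^ (c * j)) (z ^ (a * (c * j))) := (hcz.symm.pow_left _).pow_right _
  have hβz : Commute (b ^ (c * j)) z := hcz.symm.pow_left _
  -- conjugation by `y ^ n`
  have hyb' : y * b * y⁻¹ = b := by
    rw [hyb]
    group
  have hxz' : x * z * x⁻¹ = z := by
    rw [hxz]
    group
  have hyj : ∀ n : ℕ, y ^ n * z * (y ^ n)⁻¹ = z * b ^ (c * n) := by
    intro n
    induction n with
    | zero => simp
    | succ n ih =>
      have h1 : y ^ (n + 1) * z * (y ^ (n + 1))⁻¹ = y * (y ^ n * z * (y ^ n)⁻¹) * y⁻¹ := by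
        rw [pow_succ']
        group
      rw [h1, ih]
      have h2 : y * (z * b ^ (c * n)) * y⁻¹ = (y * z * y⁻¹) * (y * b * y⁻¹) ^ (c * n) := by
        rw [conj_pow]
        group
      rw [h2, hyz, hyb', mul_assoc, ← pow_add]
      congr 2
      ring
  have hwb : (x * y ^ j) * b * (x * y ^ j)⁻¹ = b * z ^ a := by
    have h1 : y ^ j * b * (y ^ j)⁻¹ = b := by
      have hc : Commute (y ^ j) b := (show Commute y b from hyb).pow_left j
      rw [hc.eq]
      group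
    have h2 : (x * y ^ j) * b * (x * y ^ j)⁻¹ = x * (y ^ j * b * (y ^ j)⁻¹) * x⁻¹ := by group
    rw [h2, h1, hxb]
  have hwz : (x * y ^ j) * z * (x * y ^ j)⁻¹ = z⁻¹ * b ^ (c * j) := by
    have h2 : (x * y ^ j) * z * (x * y ^ j)⁻¹ = x * (y ^ j * z * (y ^ j)⁻¹) * x⁻¹ := by group
    rw [h2, hyj j]
    have h3 : x * (z * b ^ (c * j)) * x⁻¹ = (x * z * x⁻¹) * (x * b * x⁻¹) ^ (c * j) := by
      rw [conj_pow]
      group
    rw [h3, hxz', hxb, (hcz.symm.pow_right a).mul_pow, ← pow_mul]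
    calc z * (b ^ (c * j) * z ^ (a * (c * j)))
        = z * (z ^ (a * (c * j)) * b ^ (c * j)) := by rw [hβζ.eq]
      _ = (z ^ (a * (c * j)) * z) * b ^ (c * j) := by rw [← mul_assoc, hzζ.eq]
      _ = z⁻¹ * b ^ (c * j) := by rw [← pow_succ, hz1']
  obtain ⟨w, hw⟩ : ∃ w, w = x * y ^ j := ⟨_, rfl⟩
  rw [← hw] at hwb hwz
  have hu : (w * w) * z * (w * w)⁻¹ = z⁻¹ := by
    have h1 : (w * w) * z * (w * w)⁻¹ = w * (w * z * w⁻¹) * w⁻¹ := by group
    rw [h1, hwz]
    have h2 : w * (z⁻¹ * b ^ (c * j)) * w⁻¹ = (w * z * w⁻¹)⁻¹ * (w * b * w⁻¹) ^ (c * j) := by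
      rw [conj_pow]
      group
    rw [h2, hwz, hwb, (hcz.symm.pow_right a).mul_pow, ← pow_mul, mul_inv_rev, inv_inv]
    calc (b ^ (c * j))⁻¹ * z * (b ^ (c * j) * z ^ (a * (c * j)))
        = (b ^ (c * j))⁻¹ * (z * b ^ (c * j)) * z ^ (a * (c * j)) := by
          simp only [mul_assoc]
      _ = (b ^ (c * j))⁻¹ * (b ^ (c * j) * z) * z ^ (a * (c * j)) := by rw [hβz.eq]
      _ = z ^ (a * (c * j)) * z := by rw [inv_mul_cancel_left, hzζ.eq]
      _ = z⁻¹ := by rw [← pow_succ, hz1']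
  obtain ⟨u, hudef⟩ : ∃ u, u = w * w := ⟨_, rfl⟩
  rw [← hudef] at hu
  have hpar : ∀ k : ℕ, u ^ k * z * (u ^ k)⁻¹ = if Even k then z else z⁻¹ := by
    intro k
    induction k with
    | zero => simp
    | succ k ih =>
      have h1 : u ^ (k + 1) * z * (u ^ (k + 1))⁻¹ = u * (u ^ k * z * (u ^ k)⁻¹) * u⁻¹ := by
        rw [pow_succ']
        group
      rw [h1, ih]
      by_cases hk : Even k
      · rw [if_pos hk, if_neg (by rw [Nat.even_add_one]; exact not_not.mpr hk), hu]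
      · rw [if_neg hk, if_pos (by rw [Nat.even_add_one]; exact hk)]
        have h3 : u * z⁻¹ * u⁻¹ = (u * z * u⁻¹)⁻¹ := by group
        rw [h3, hu, inv_inv]
  have hzne : z ≠ z⁻¹ := by
    intro h
    have h2 : z ^ 2 = 1 := by
      rw [pow_two]
      nth_rewrite 2 [h]
      exact mul_inv_cancel z
    have hd2 : orderOf z ∣ 2 := orderOf_dvd_of_pow_eq_one h2
    have hdp : orderOf z ∣ p := orderOf_dvd_of_pow_eq_one hzp
    have hcop : Nat.Coprime 2 p := (Nat.coprime_primes Nat.prime_two hp).mpr (Ne.symm hp2)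
    have h1 : orderOf z = 1 := Nat.eq_one_of_dvd_coprimes hcop hd2 hdp
    exact hz1 (orderOf_eq_one_iff.mp h1)
  have heven : ∀ k : ℕ, u ^ k = 1 → Even k := by
    intro k hk
    by_contra hodd
    have h := hpar k
    rw [hk, if_neg hodd] at h
    simp only [one_mul, inv_one, mul_one] at h
    exact hzne h
  have huw : ∀ k : ℕ, u ^ k = w ^ (2 * k) := by
    intro k
    rw [hudef, ← pow_two, ← pow_mul]
  have hn : w ^ orderOf w = 1 := pow_orderOf_eq_one w
  have hnpos : 0 < orderOf w := orderOf_pos w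
  have he1 : Even (orderOf w) := by
    apply heven
    rw [huw, mul_comm, pow_mul, hn, one_pow]
  obtain ⟨n', hn'⟩ := he1
  have he2 : Even n' := by
    apply heven
    rw [huw, two_mul, ← hn', hn]
  obtain ⟨m, hm⟩ := he2
  have h4 : orderOf w = m * 4 := by omega
  have hmpos : 0 < m := by omega
  refine ⟨w ^ m, ?_⟩
  rw [orderOf_pow_of_dvd hmpos.ne' (Dvd.intro _ h4.symm), h4]
  exact Nat.mul_div_cancel_left 4 hmpos

end Cfsg.Agent.Lib.Helper86.PDWORD
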