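import Mathlib
import Cfsg.Agent.Lib.Helper12.SNStmt

/-!
# S4073 piece ARITH (helper86)
-/

set_option autoImplicit false

namespace Cfsg.Agent.Lib.Helper86.SNARITH

open Cfsg.Agent.Lib.Helper12.SNDef Cfsg.Agent.Lib.Helper12.SNStmt

universe u

theorem main : Cfsg.Agent.Lib.Helper12.SNStmt.Arith := by
  intro n hn F₀ _ _ r hr h2 h
  have hn1 : n ≠ 1 := by
    rintro rfl
    norm_num at hn
  have hnp : n.Prime := (Nat.prime_of_pow_sub_one_prime hn1 hn).2
  obtain ⟨p, _, a, hp, hcard⟩ := FiniteField.card' F₀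
  rw [hcard, ← pow_mul] at h
  have har : (a : ℕ) * r ≠ 0 := Nat.mul_ne_zero a.pos.ne' hr.pos.ne'
  have hp2 : p = 2 := by
    have h1 : p ∣ 2 ^ n := by
      rw [h]
      exact dvd_pow_self p har
    exact (Nat.prime_dvd_prime_iff_eq hp Nat.prime_two).mp (hp.dvd_of_dvd_pow h1)
  subst hp2
  have hnar : n = a * r := Nat.pow_right_injective (le_refl 2) h
  have ha : (a : ℕ) = 1 := by
    rcases Nat.prime_mul_iff.mp (hnar ▸ hnp) with ⟨_, hr1⟩ | ⟨_, ha1⟩
    · exact absurd hr1 hr.one_lt.ne'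
    · exact ha1
  apply h2
  rw [hcard, ha, pow_one]

end Cfsg.Agent.Lib.Helper86.SNARITH
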