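import Mathlib
import Cfsg.Agent.Lib.Helper12.SNStmt

/-!
# S4073 piece BHCARD (helper86)
-/

set_option autoImplicit false

namespace Cfsg.Agent.Lib.Helper86.SNBHCARD

open Cfsg.Agent.Lib.Helper12.SNDef Cfsg.Agent.Lib.Helper12.SNStmt

universe u

theorem main : Cfsg.Agent.Lib.Helper12.SNStmt.BHCard.{u} := by
  intro L _ _ h2 n hprime H hdvd hH
  constructor
  · by_contra h2H
    have hcop : Nat.Coprime (Nat.card H) (2 ^ n) :=
      Nat.Coprime.pow_right n
        ((Nat.coprime_comm).mp ((Nat.Prime.coprime_iff_not_dvd Nat.prime_two).mpr h2H))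
    have hd : Nat.card H ∣ 2 ^ n - 1 := hcop.dvd_of_dvd_mul_left hdvd
    rcases (Nat.dvd_prime hprime).mp hd with h1 | hr
    · apply hH
      have : Subsingleton H := (Nat.card_eq_one_iff_unique.mp h1).1
      exact ⟨⟨fun a b => Subsingleton.elim _ _⟩⟩
    · apply hH
      have : Fact (2 ^ n - 1).Prime := ⟨hprime⟩
      have : IsCyclic H := isCyclic_of_prime_card hr
      exact IsCyclic.isMulCommutative
  · by_contra hrH
    have hcop : Nat.Coprime (Nat.card H) (2 ^ n - 1) :=
      (Nat.coprime_comm).mp ((Nat.Prime.coprime_iff_not_dvd hprime).mpr hrH)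
    have hd : Nat.card H ∣ 2 ^ n := hcop.dvd_of_dvd_mul_right hdvd
    obtain ⟨j, -, hj⟩ := (Nat.dvd_prime_pow Nat.prime_two).mp hd
    exact hH (h2 H (IsPGroup.of_card hj))

end Cfsg.Agent.Lib.Helper86.SNBHCARD
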