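import Mathlib
import Cfsg.Agent.Lib.Helper44.SPStmt
import Cfsg.Agent.Lib.Helper95.SemiC

/-!
# S2720 piece CHARF (helper86)
-/

set_option autoImplicit false

namespace Cfsg.Agent.Lib.Helper86.SPCHARF

open Matrix Polynomial
open Cfsg.Agent.Lib.Helper44.QSpace Cfsg.Agent.Lib.Helper44.OGroup Cfsg.Agent.Lib.Helper44.OMat
open Cfsg.Agent.Lib.Helper44.OExt Cfsg.Agent.Lib.Helper44.OCls2
open Cfsg.Agent.Lib.Helper40.RecipPoly
open Cfsg.Agent.Lib.Helper44.SPStmt

universe u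

theorem main : CharFacts.{u} := by
  intro F _ ι _ _ Q hSep S r hr hS hiso
  refine ⟨?_, ?_⟩
  · have h1 : S * S ^ (r - 1) = 1 := by
      rw [← pow_succ', Nat.sub_add_cancel hr, hS]
    exact Cfsg.Agent.Lib.Helper44.OCls1.rstar_charpoly_iso hSep S (S ^ (r - 1)) h1 hiso
  · intro P hP hdvd
    have h0 : aeval S (X ^ r - C (1 : F)) = 0 := by
      simp [hS]
    have h1 := Cfsg.Agent.Lib.Helper95.SemiC.charpoly_dvd_pow S _ h0
    exact hP.prime.dvd_of_dvd_pow (hdvd.trans h1)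

end Cfsg.Agent.Lib.Helper86.SPCHARF
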