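import Cfsg.Agent.Lib.Helper86.TabGrp

set_option autoImplicit false

/-!
# Enumerating a small subgroup generated by tables

`smallOK gT L rows`: the list `L` starts with the identity table, is closed under left
multiplication by the generator tables `gT` (which contain their inverses), has no repetition,
and each of its tables is a generator times an earlier table.  Then `L` enumerates `grp gT`.
-/

namespace Cfsg.Agent.Lib.Helper86.SmallEnum

open Cfsg Cfsg.Agent.Lib.Helper7.GolayBase Cfsg.Agent.Lib.Helper7.GolayPerm
  Cfsg.Agent.Lib.Helper86.TabGrp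

/-- Each table after the identity is a generator times an earlier table. -/
def genOK (gT : List (List Nat)) :
    List (List Nat) → List (List Nat) → List (Nat × Nat) → Bool
  | _, [], _ => true
  | _, _ :: _, [] => false
  | known, t :: ts, (j, k) :: rows =>
    (t == tmul (gT.getD j idT) (known.getD k idT)) && genOK gT (known ++ [t]) ts rows

/-- The certificate. -/
def smallOK (gT L : List (List Nat)) (rows : List (Nat × Nat)) : Bool :=
  (L.take 1 == [idT]) && gT.all (fun s => gT.any (fun s' => invOK s s')) &&
    gT.all (fun s => L.all (fun t => L.contains (tmul s t))) &&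
    genOK gT [idT] (L.drop 1) rows && decide L.Nodup

theorem gens_mem {gT : List (List Nat)}
    (h : gT.all (fun s => gT.any (fun s' => invOK s s')) = true) :
    ∀ s ∈ gT, ∃ g ∈ grp gT, Rep g s ∧ ∃ s' ∈ gT, Rep g⁻¹ s' := by
  intro s hs
  have h1 := List.all_eq_true.mp h s hs
  rw [List.any_eq_true] at h1
  obtain ⟨s', hs', hinv⟩ := h1
  refine ⟨ofT s s' hinv, Subgroup.subset_closure ⟨s, hs, rep_ofT s s' hinv⟩, rep_ofT s s' hinv,
    s', hs', rep_ofT_inv s s' hinv⟩

theorem genOK_sound {H : Subgroup (Equiv.Perm GolayPt)} {gT : List (List Nat)}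
    (hg : ∀ s ∈ gT, ∃ g ∈ H, Rep g s) :
    ∀ (ts : List (List Nat)) (known : List (List Nat)) (rows : List (Nat × Nat)),
      (∀ t ∈ known, ∃ g ∈ H, Rep g t) → genOK gT known ts rows = true →
      ∀ t ∈ ts, ∃ g ∈ H, Rep g t
  | [], _, _, _, _ => by intro t ht; exact absurd ht List.not_mem_nil
  | _ :: _, _, [], _, h => by simp [genOK] at h
  | t :: ts, known, (j, k) :: rows, hk, h => by
    simp only [genOK, Bool.and_eq_true, beq_iff_eq] at h
    obtain ⟨a, ha, hra⟩ := getD_rep H gT hg j
    obtain ⟨b, hb, hrb⟩ := getD_rep H known hk k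
    have ht : ∃ g ∈ H, Rep g t := ⟨a * b, H.mul_mem ha hb, by rw [h.1]; exact hra.mul hrb⟩
    intro t' ht'
    rcases List.mem_cons.mp ht' with rfl | h'
    · exact ht
    · apply genOK_sound hg ts (known ++ [t]) rows _ h.2 t' h'
      intro u hu
      rcases List.mem_append.mp hu with h1 | h1
      · exact hk u h1
      · rw [List.mem_singleton] at h1; subst h1; exact ht

theorem enum_small (gT L : List (List Nat)) (rows : List (Nat × Nat))
    (h : smallOK gT L rows = true) : Enum (grp gT) L := by
  simp only [smallOK, Bool.and_eq_true, beq_iff_eq, decide_eq_true_eq] at h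
  obtain ⟨⟨⟨⟨h1, h2⟩, h3⟩, h4⟩, h5⟩ := h
  have hL : L = idT :: L.drop 1 := by
    cases L with
    | nil => simp at h1
    | cons a l =>
      simp only [List.take_succ_cons, List.take_zero, List.cons.injEq, and_true] at h1
      simp [h1]
  have hid : idT ∈ L := by rw [hL]; exact List.mem_cons_self
  have hgens := gens_mem h2
  refine ⟨?_, ?_, h5⟩
  · intro t ht
    rw [hL] at ht
    rcases List.mem_cons.mp ht with rfl | h'
    · exact ⟨1, Subgroup.one_mem _, rep_one⟩
    · apply genOK_sound (H := grp gT) (fun s hs => by
        obtain ⟨g, hg, hr, -⟩ := hgens s hs; exact ⟨g, hg, hr⟩) (L.drop 1) [idT] rows _ h4 t h'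
      intro u hu
      rw [List.mem_singleton] at hu
      subst hu
      exact ⟨1, Subgroup.one_mem _, rep_one⟩
  · have hclos : ∀ s ∈ gT, ∀ t ∈ L, tmul s t ∈ L := by
      intro s hs t ht
      have := List.all_eq_true.mp (List.all_eq_true.mp h3 s hs) t ht
      exact List.contains_iff_mem.mp this
    have key : ∀ g ∈ grp gT,
        (∀ a : Equiv.Perm GolayPt, (∃ t ∈ L, Rep a t) → ∃ t ∈ L, Rep (g * a) t) ∧
        (∀ a : Equiv.Perm GolayPt, (∃ t ∈ L, Rep a t) → ∃ t ∈ L, Rep (g⁻¹ * a) t) := by
      intro g hg
      unfold grp at hg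
      induction hg using Subgroup.closure_induction with
      | mem x hx =>
        obtain ⟨s, hs, hrs⟩ := hx
        obtain ⟨g', -, hrg', s', hs', hrs'⟩ := hgens s hs
        have e : g' = x := hrg'.ext hrs
        subst e
        constructor
        · rintro a ⟨t, ht, hra⟩
          exact ⟨tmul s t, hclos s hs t ht, hrs.mul hra⟩
        · rintro a ⟨t, ht, hra⟩
          exact ⟨tmul s' t, hclos s' hs' t ht, hrs'.mul hra⟩
      | one =>
        constructor
        · intro a ha; simpa using ha
        · intro a ha; simpa using ha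
      | mul x y _ _ hx hy =>
        constructor
        · intro a ha
          rw [mul_assoc]
          exact hx.1 _ (hy.1 a ha)
        · intro a ha
          rw [mul_inv_rev, mul_assoc]
          exact hy.2 _ (hx.2 a ha)
      | inv x _ hx =>
        constructor
        · exact hx.2
        · intro a ha
          rw [inv_inv]
          exact hx.1 a ha
    intro g hg
    have := (key g hg).1 1 ⟨idT, hid, rep_one⟩
    rwa [mul_one] at this

end Cfsg.Agent.Lib.Helper86.SmallEnum
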