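import Cfsg.Agent.Lib.Helper86.SteinerLabel

set_option autoImplicit false

/-!
# Isomorphism and automorphisms of Steiner systems from labellings

If every `t`-tuple of distinct points of `B` extends to a labelling realising a fixed complete
list of blocks, then `B` is isomorphic to the standard system of the list and its automorphism
group is `t`-transitive; if moreover labellings are determined by their first `t` labels, the
automorphism group is sharply `t`-transitive.
-/

namespace Cfsg.Agent.Lib.Helper86.SteinerAut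

open Cfsg.Agent.Lib.Helper86.SteinerTree Cfsg.Agent.Lib.Helper86.SteinerLabel
  Cfsg.Agent.Lib.Helper8.Steiner Cfsg.Agent.Lib.Helper8.AutTransport

variable {α : Type*} [Fintype α] [DecidableEq α]

/-- Every `t`-tuple of distinct points extends to a labelling realising the complete list `L`. -/
structure Lbl (B : Set (Finset α)) (v t : Nat) (L : List Nat) : Prop where
  card : Fintype.card α = v
  le : t ≤ v
  nodup : L.Nodup
  lt : ∀ m ∈ L, m < 2 ^ v
  blocks : (blocks B).card = L.length
  ex : ∀ q : Fin t ↪ α, ∃ ℓ : ℕ → α, Lab B v L ℓ ∧ ∀ i : Fin t, ℓ i = q i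

theorem Lbl.iso {B : Set (Finset α)} {v t : Nat} {L : List Nat} (h : Lbl B v t L)
    (q : Fin t ↪ α) : ∃ e : α ≃ Fin v, (∀ i : Fin t, ((e (q i) : Fin v) : ℕ) = i) ∧
      (fun b : Finset α => b.image e) '' B = Sys v L := by
  obtain ⟨ℓ, hℓ, hq⟩ := h.ex q
  obtain ⟨e, he, himg⟩ := hℓ.exists_equiv h.card h.nodup h.lt h.blocks
  refine ⟨e, ?_, himg⟩
  intro i
  rw [← hq i, he i (lt_of_lt_of_le i.2 h.le)]

theorem Lbl.exists_tuple {B : Set (Finset α)} {v t : Nat} {L : List Nat} (h : Lbl B v t L) :
    Nonempty (Fin t ↪ α) := by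
  apply Function.Embedding.nonempty_of_card_le
  rw [Fintype.card_fin, h.card]
  exact h.le

omit [Fintype α] [DecidableEq α] in
theorem image_trans {β γ : Type*} [DecidableEq β] [DecidableEq γ] (e : α ≃ γ) (e' : β ≃ γ)
    {B : Set (Finset α)} {B' : Set (Finset β)} {S : Set (Finset γ)}
    (h : (fun b : Finset α => b.image e) '' B = S)
    (h' : (fun b : Finset β => b.image e') '' B' = S) :
    (fun b : Finset α => b.image (e.trans e'.symm)) '' B = B' := by
  have h1 : (fun b : Finset α => b.image (e.trans e'.symm)) =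
      (fun b : Finset γ => b.image e'.symm) ∘ (fun b : Finset α => b.image e) := by
    funext b
    simp only [Function.comp_apply, Finset.image_image]
    rfl
  rw [h1, Set.image_comp, h]
  exact symm_image e' h'

theorem Lbl.setSystemIso {β : Type*} [Fintype β] [DecidableEq β] {B : Set (Finset α)}
    {B' : Set (Finset β)} {v t : Nat} {L : List Nat} (h : Lbl B v t L) (h' : Lbl B' v t L) :
    Cfsg.SetSystemIso B B' := by
  obtain ⟨q⟩ := h.exists_tuple
  obtain ⟨q'⟩ := h'.exists_tuple
  obtain ⟨e, -, he⟩ := h.iso q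
  obtain ⟨e', -, he'⟩ := h'.iso q'
  exact ⟨e.trans e'.symm, image_trans e e' he he'⟩

theorem Lbl.trans {B : Set (Finset α)} {v t : Nat} {L : List Nat} (h : Lbl B v t L)
    (x y : Fin t ↪ α) : ∃ g : Cfsg.setSystemAut B, ∀ i, (g : Equiv.Perm α) (x i) = y i := by
  obtain ⟨e, hex, he⟩ := h.iso x
  obtain ⟨e', hey, he'⟩ := h.iso y
  refine ⟨⟨e.trans e'.symm, mem_aut_iff.mpr (image_trans e e' he he')⟩, ?_⟩
  intro i
  show e'.symm (e (x i)) = y i
  rw [Equiv.symm_apply_eq]
  apply Fin.ext
  rw [hex i, hey i]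

/-- Labellings realising `L` are determined by their first `t` labels. -/
def Rigid (B : Set (Finset α)) (v t : Nat) (L : List Nat) : Prop :=
  ∀ ℓ ℓ' : ℕ → α, Lab B v L ℓ → Lab B v L ℓ' → (∀ i, i < t → ℓ i = ℓ' i) →
    ∀ i, i < v → ℓ i = ℓ' i

theorem Lbl.sharp {B : Set (Finset α)} {v t : Nat} {L : List Nat} (h : Lbl B v t L)
    (hr : Rigid B v t L) (x : Fin t ↪ α) (g : Equiv.Perm α) (hg : g ∈ Cfsg.setSystemAut B)
    (hx : ∀ i, g (x i) = x i) : g = 1 := by
  obtain ⟨ℓ, hℓ, hq⟩ := h.ex x
  have hℓ' : Lab B v L (fun i => g (ℓ i)) := by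
    refine ⟨fun i j hi hj hij => hℓ.inj i j hi hj (g.injective hij), ?_⟩
    intro m hm
    have h1 := hℓ.mem m hm
    have h2 : ((bits v m).image ℓ).image g ∈ (fun b : Finset α => b.image g) '' B :=
      Set.mem_image_of_mem _ h1
    rw [mem_aut_iff.mp hg, Finset.image_image] at h2
    exact h2
  have hag := hr ℓ _ hℓ hℓ' (fun i hi => by
    have := hx ⟨i, hi⟩
    rw [← hq ⟨i, hi⟩] at this
    exact this.symm)
  ext y
  obtain ⟨p, hp, rfl⟩ := exists_label h.card hℓ.inj y
  exact (hag p hp).symm

theorem Lbl.pretransitive {B : Set (Finset α)} {v t : Nat} {L : List Nat} (h : Lbl B v t L) :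
    MulAction.IsMultiplyPretransitive (Cfsg.setSystemAut B) α t := by
  rw [MulAction.isMultiplyPretransitive_iff]
  intro x y
  obtain ⟨g, hg⟩ := h.trans x y
  refine ⟨g, ?_⟩
  ext i
  exact hg i

theorem Lbl.stabilizer_eq_bot {B : Set (Finset α)} {v t : Nat} {L : List Nat} (h : Lbl B v t L)
    (hr : Rigid B v t L) (x : Fin t ↪ α) :
    MulAction.stabilizer (Cfsg.setSystemAut B) x = ⊥ := by
  rw [eq_bot_iff]
  intro g hg
  rw [MulAction.mem_stabilizer_iff] at hg
  rw [Subgroup.mem_bot]
  apply Subtype.ext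
  apply h.sharp hr x g.1 g.2
  intro i
  have := congrArg (fun f : Fin t ↪ α => f i) hg
  exact this

theorem Lbl.card_aut {B : Set (Finset α)} {v t : Nat} {L : List Nat} (h : Lbl B v t L)
    (hr : Rigid B v t L) : Nat.card (Cfsg.setSystemAut B) = v.descFactorial t := by
  obtain ⟨x⟩ := h.exists_tuple
  have hbij : Function.Bijective (fun g : Cfsg.setSystemAut B => g • x) := by
    constructor
    · intro g g' hgg
      have hpt : ∀ i, (g : Equiv.Perm α) (x i) = (g' : Equiv.Perm α) (x i) := fun i =>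
        congrArg (fun f : Fin t ↪ α => f i) hgg
      have h1 : (g' : Equiv.Perm α)⁻¹ * (g : Equiv.Perm α) = 1 := by
        apply h.sharp hr x _ (Subgroup.mul_mem _ (Subgroup.inv_mem _ g'.2) g.2)
        intro i
        rw [Equiv.Perm.mul_apply, hpt i]
        simp
      apply Subtype.ext
      have h2 : (g : Equiv.Perm α) = (g' : Equiv.Perm α) * ((g' : Equiv.Perm α)⁻¹ * g) := by
        group
      rw [h2, h1, mul_one]
    · intro y
      obtain ⟨g, hg⟩ := h.trans x y
      refine ⟨g, ?_⟩
      ext i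
      exact hg i
  rw [Nat.card_congr (Equiv.ofBijective _ hbij), Nat.card_eq_fintype_card,
    Fintype.card_embedding_eq, Fintype.card_fin, h.card]

end Cfsg.Agent.Lib.Helper86.SteinerAut
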