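import Cfsg.Agent.Lib.Helper86.St11Data
import Cfsg.Agent.Lib.Helper86.SteinerAut

set_option autoImplicit false

/-! Steiner systems `S(4, 5, 11)`: every `4`-tuple of distinct points extends to a labelling
realising the standard list of blocks, and such labellings are rigid. -/

namespace Cfsg.Agent.Lib.Helper86.St11

open Cfsg.Agent.Lib.Helper86.SteinerTree Cfsg.Agent.Lib.Helper86.SteinerLabel
  Cfsg.Agent.Lib.Helper86.SteinerRigid Cfsg.Agent.Lib.Helper86.SteinerAut
  Cfsg.Agent.Lib.Helper86.St11Data Cfsg.Agent.Lib.Helper8.Steiner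

variable {α : Type*} [Fintype α] [DecidableEq α]

theorem card_blocks (hα : Fintype.card α = 11) {B : Set (Finset α)}
    (hB : Cfsg.IsSteinerSystem 4 5 B) : (blocks B).card = 66 := by
  have h := moment hB ∅ 0 (by norm_num)
  have c1 : Nat.choose 11 4 = 330 := by decide
  have c2 : Nat.choose 5 4 = 5 := by decide
  simp only [hα, Nat.choose_zero_right, Finset.sum_const, smul_eq_mul, mul_one, Nat.sub_zero, c1,
    c2, one_mul] at h
  omega

theorem lbl (hα : Fintype.card α = 11) {B : Set (Finset α)}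
    (hB : Cfsg.IsSteinerSystem 4 5 B) : Lbl B 11 4 L := by
  refine ⟨hα, by norm_num, L_nodup, L_lt, ?_, ?_⟩
  · rw [card_blocks hα hB, L_length]
  · intro q
    let ℓ₀ : ℕ → α := fun i => if h : i < 4 then q ⟨i, h⟩ else q ⟨0, by norm_num⟩
    have hℓ₀ : ∀ i (h : i < 4), ℓ₀ i = q ⟨i, h⟩ := fun i h => dif_pos h
    have hR : Real B 11 ℓ₀ 4 [] := by
      refine ⟨?_, by simp, by simp⟩
      intro i j hi hj hij
      rw [hℓ₀ i hi, hℓ₀ j hj] at hij
      exact Fin.mk.inj (q.injective hij)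
    have hs : Concl B 11 F ℓ₀ 4 :=
      sound (k := 5) (by norm_num) hB hα F tree none 4 [] tree_ok (by norm_num) ℓ₀ hR
    obtain ⟨ℓ', j, hj, hag, hinj, hmem⟩ := hs
    rw [F_length] at hj
    have hk := tab_ok j hj
    simp only [Bool.and_eq_true] at hk
    obtain ⟨⟨htab, hrel⟩, hfix⟩ := hk
    have hlab : Lab B 11 (F.getD j []) ℓ' := ⟨hinj, hmem⟩
    refine ⟨fun i => ℓ' ((T.getD j []).getD i 0), hlab.relabel htab hrel, ?_⟩
    intro i
    have h1 := List.all_eq_true.mp hfix i (List.mem_range.mpr i.2)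
    rw [beq_iff_eq] at h1
    show ℓ' ((T.getD j []).getD i 0) = q i
    rw [h1, hag i i.2, hℓ₀ i i.2]

theorem rigid (hα : Fintype.card α = 11) {B : Set (Finset α)}
    (hB : Cfsg.IsSteinerSystem 4 5 B) : Rigid B 11 4 L := by
  intro ℓ ℓ' hℓ hℓ' hag
  have hA0 : Agree ℓ ℓ' [(3, 3), (2, 2), (1, 1), (0, 0)] := by
    intro a ha
    simp only [List.mem_cons, List.not_mem_nil, or_false] at ha
    rcases ha with rfl | rfl | rfl | rfl <;> exact hag _ (by norm_num)
  have hA1 : Agree ℓ ℓ' A1 := run_sound (k := 5) hB hℓ hℓ' _ _ _ hA0 run_first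
  exact SteinerRigid.rigid (k := 5) hα hB hℓ hℓ' L_lt hA1 (by norm_num) certs_ok

end Cfsg.Agent.Lib.Helper86.St11
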