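import Cfsg.Agent.Lib.Helper86.SteinerRigid

set_option autoImplicit false

/-! Generated data: search tree, final block lists, relabelling tables and rigidity
certificates for the Steiner systems `S(4, 5, 11)`. -/

namespace Cfsg.Agent.Lib.Helper86.St11Data

open Cfsg.Agent.Lib.Helper86.SteinerTree Cfsg.Agent.Lib.Helper86.SteinerLabel
  Cfsg.Agent.Lib.Helper86.SteinerRigid

/-- The final block lists (as bit masks), one for each successful leaf. -/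
def F : List (List Nat) := [
  [31, 103, 121, 171, 182, 213, 218, 236, 301, 314, 334, 339, 372, 391, 412, 433, 457, 482, 558, 565, 587, 604, 626, 653, 659, 696, 710, 737, 790, 793, 803, 837, 872, 906, 932, 976, 1075, 1084, 1101, 1110, 1130, 1166, 1177, 1189, 1219, 1264, 1291, 1301, 1318, 1368, 1377, 1426, 1448, 1476, 1543, 1562, 1577, 1617, 1636, 1684, 1698, 1736, 1804, 1840, 1858, 1921],
  [31, 103, 121, 171, 188, 206, 213, 242, 301, 310, 339, 348, 362, 391, 410, 433, 457, 484, 565, 570, 587, 598, 620, 653, 659, 678, 728, 737, 782, 793, 803, 837, 880, 916, 936, 962, 1070, 1075, 1101, 1114, 1140, 1174, 1177, 1189, 1219, 1256, 1291, 1301, 1336, 1350, 1377, 1420, 1442, 1488, 1543, 1564, 1577, 1617, 1634, 1674, 1712, 1732, 1810, 1828, 1864, 1921],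
  [31, 103, 122, 171, 181, 214, 217, 236, 302, 313, 333, 339, 372, 391, 412, 434, 458, 481, 557, 566, 587, 604, 625, 654, 659, 696, 709, 738, 789, 794, 803, 838, 872, 905, 932, 976, 1075, 1084, 1102, 1109, 1129, 1165, 1178, 1190, 1219, 1264, 1291, 1302, 1317, 1368, 1378, 1425, 1448, 1476, 1543, 1561, 1578, 1618, 1636, 1684, 1697, 1736, 1804, 1840, 1857, 1922],
  [31, 103, 124, 171, 181, 206, 217, 242, 310, 313, 333, 339, 362, 391, 410, 428, 468, 481, 557, 570, 587, 598, 625, 659, 668, 678, 709, 744, 782, 789, 803, 856, 868, 905, 944, 962, 1070, 1075, 1109, 1114, 1129, 1165, 1174, 1208, 1219, 1252, 1291, 1308, 1317, 1350, 1392, 1425, 1442, 1480, 1543, 1561, 1588, 1612, 1634, 1674, 1697, 1744, 1810, 1832, 1857, 1924],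
  [31, 103, 122, 171, 188, 205, 214, 241, 302, 309, 339, 348, 361, 391, 409, 434, 458, 484, 566, 569, 587, 597, 620, 654, 659, 677, 728, 738, 781, 794, 803, 838, 880, 916, 936, 961, 1069, 1075, 1102, 1113, 1140, 1173, 1178, 1190, 1219, 1256, 1291, 1302, 1336, 1349, 1378, 1420, 1441, 1488, 1543, 1564, 1578, 1618, 1633, 1673, 1712, 1732, 1809, 1828, 1864, 1922],
  [31, 103, 124, 171, 182, 205, 218, 241, 309, 314, 334, 339, 361, 391, 409, 428, 468, 482, 558, 569, 587, 597, 626, 659, 668, 677, 710, 744, 781, 790, 803, 856, 868, 906, 944, 961, 1069, 1075, 1110, 1113, 1130, 1166, 1173, 1208, 1219, 1252, 1291, 1308, 1318, 1349, 1392, 1426, 1441, 1480, 1543, 1562, 1588, 1612, 1633, 1673, 1698, 1744, 1809, 1832, 1858, 1924]]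

/-- The standard list of blocks. -/
def L : List Nat := F.getD 0 []

set_option maxRecDepth 100000 in
/-- The search tree. -/
def tree : Tree :=
  .split 15 [] (.ccons 4 (.arb (.split 39 [(3, 31, 5), (4, 31, 5)] (.ccons 6 (.split 43 [(2, 103, 3), (4, 31, 5), (6, 103, 3)] (.ccons 7 (.split 135 [(3, 171, 2), (4, 31, 7), (5, 171, 2), (6, 103, 7)] (.ccons 8 (.split 75 [(2, 103, 3), (4, 31, 6), (5, 171, 6), (7, 171, 6)] (.ccons 8 (.split 51 [(2, 103, 4), (3, 171, 4), (6, 103, 4), (7, 171, 4)] (.ccons 8 (.split 83 [(2, 103, 4), (3, 331, 4), (5, 307, 6), (8, 307, 6)] (.ccons 7 (.split 45 [(1, 171, 2), (4, 31, 5), (6, 103, 3), (7, 171, 2)] (.ccons 8 (.split 46 [(0, 301, 1), (4, 31, 5), (6, 103, 3), (7, 171, 2), (8, 301, 1)] (.ccons 9 (.split 519 [(3, 558, 0), (4, 31, 9), (5, 558, 0), (6, 103, 9), (7, 391, 9), (8, 391, 9)] (.ccons 10 (.split 523 [(2, 1543, 3), (4, 31, 9),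 (5, 558, 0), (6, 331, 9), (7, 171, 9), (8, 331, 9), (10, 1543, 3)] .cnil) .cnil)) .cnil)) (.ccons 9 (.split 519 [(3, 557, 1), (4, 31, 9), (5, 557, 1), (6, 103, 9), (7, 391, 9), (8, 391, 9)] (.ccons 10 (.split 523 [(2, 1543, 3), (4, 31, 9), (5, 557, 1), (6, 331, 9), (7, 171, 9), (8, 331, 9), (10, 1543, 3)] .cnil) .cnil)) .cnil))) (.ccons 9 (.split 519 [(3, 31, 9), (4, 595, 2), (5, 103, 9), (6, 595, 2), (7, 391, 9), (8, 391, 9)] (.ccons 10 (.split 523 [(2, 1543, 3), (4, 595, 3), (5, 171, 9), (6, 595, 3), (7, 171, 9), (8, 331, 9), (10, 1543, 3)] .cnil) .cnil)) .cnil))) (.ccons 9 (.split 519 [(3, 31, 9), (4, 563, 2), (5, 563, 2), (6, 103, 9), (7, 391, 9), (8, 391, 9)] (.ccons 10 (.split 523 [(2, 1543, 3), (4, 563, 3), (5, 563, 3), (6, 331, 9), (7, 171, 9), (8, 331, 9), (10, 1543, 3)] .cnil) .cnil)) .cnil))) (.ccons 9 (.split 519 [(3, 587, 2), (4, 31, 9), (5, 103, 9),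 (6, 587, 2), (7, 391, 9), (8, 391, 9)] (.ccons 10 (.split 267 [(2, 391, 3), (4, 31, 8), (5, 171, 8), (6, 587, 8), (7, 391, 3), (9, 587, 8)] (.ccons 10 (.split 1059 [(2, 1543, 5), (3, 1291, 5), (6, 103, 10), (7, 171, 10), (8, 1291, 5), (9, 1543, 5)] (.ccons 4 (.split 291 [(2, 391, 5), (3, 1291, 5), (4, 1075, 8), (6, 103, 8), (7, 391, 5), (10, 1075, 8)] (.ccons 9 (.split 275 [(2, 391, 4), (3, 1291, 4), (5, 803, 4), (7, 391, 4), (9, 803, 4), (10, 1075, 8)] (.ccons 6 (.split 147 [(2, 391, 4), (3, 171, 4), (5, 1075, 7), (6, 339, 7), (8, 339, 7), (10, 1075, 7)] (.ccons 9 (.split 195 [(2, 391, 6), (3, 587, 7), (4, 659, 6), (5, 171, 6), (8, 339, 7), (9, 659, 6)] (.ccons 10 (.split 45 [(1, 171, 2), (4, 31, 5), (6, 103, 3), (7, 171, 2)] (.ccons 8 (.split 525 [(1, 1543, 3), (4, 31, 9), (5, 301, 9), (6, 587, 2), (8, 301, 9), (10, 1543, 3)] (.ccons 7 (.split 77 [(1, 587, 2),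 (4, 31, 6), (5, 301, 6), (7, 653, 6), (8, 301, 6), (9, 653, 6)] (.ccons 10 (.split 549 [(1, 803, 2), (3, 653, 5), (6, 103, 9), (7, 653, 5), (8, 301, 9), (10, 1543, 5)] (.ccons 4 (.split 85 [(1, 339, 2), (3, 1101, 4), (5, 565, 6), (8, 339, 2), (9, 565, 6), (10, 1101, 4)] (.ccons 7 (.split 277 [(1, 339, 2), (3, 301, 4), (5, 565, 8), (6, 213, 8), (7, 213, 8), (9, 565, 8)] (.ccons 10 (.split 165 [(1, 391, 5), (3, 653, 5), (4, 213, 5), (6, 213, 5), (8, 301, 7), (9, 565, 7)] (.ccons 10 (.split 325 [(1, 339, 2), (3, 1101, 8), (4, 1301, 6), (5, 301, 6), (7, 213, 8), (10, 1301, 6)] (.ccons 9 (.split 57 [(1, 1075, 3), (2, 565, 3), (7, 171, 4), (8, 301, 4), (9, 565, 3), (10, 1075, 3)] (.ccons 6 (.split 553 [(1, 803, 3), (2, 565, 3), (4, 121, 9), (6, 121, 9), (7, 653, 5), (8, 301, 9)] (.ccons 10 (.split 537 [(1, 659, 3), (2, 565, 3), (5, 1577, 4), (6, 121, 9), (7, 653, 4), (10,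 1577, 4)] (.ccons 8 (.split 153 [(1, 659, 3), (2, 213, 3), (5, 121, 7), (6, 121, 7), (8, 793, 7), (9, 793, 7)] (.ccons 10 (.split 201 [(1, 1219, 3), (2, 213, 3), (4, 1177, 6), (5, 121, 7), (9, 653, 6), (10, 1177, 6)] (.ccons 8 (.split 177 [(1, 659, 5), (2, 1189, 4), (3, 1177, 5), (6, 121, 7), (9, 565, 7), (10, 1177, 5)] (.ccons 8 (.split 593 [(1, 659, 6), (2, 837, 4), (3, 793, 6), (5, 121, 9), (7, 213, 9), (8, 793, 6)] (.ccons 10 (.split 225 [(1, 1219, 5), (2, 1189, 6), (3, 457, 5), (4, 433, 6), (8, 433, 6), (10, 1189, 6)] (.ccons 9 (.split 353 [(1, 339, 5), (2, 837, 5), (3, 457, 5), (4, 433, 6), (7, 737, 8), (9, 737, 8)] (.ccons 10 (.split 897 [(1, 659, 8), (2, 837, 7), (3, 457, 9), (4, 433, 9), (5, 737, 8), (6, 737, 8)] (.ccons 10 (.split 46 [(0, 301, 1), (4, 31, 5), (6, 103, 3), (7, 171, 2), (8, 301, 1)] (.ccons 9 (.split 270 [(0, 301, 1), (4, 31, 8), (5, 558,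 8), (7, 391, 3), (9, 558, 8), (10, 1291, 2)] (.ccons 6 (.split 142 [(0, 653, 1), (4, 31, 7), (5, 558, 7), (6, 334, 7), (8, 334, 7), (9, 558, 7)] (.ccons 10 (.split 150 [(0, 213, 1), (3, 1166, 4), (6, 213, 1), (8, 391, 4), (9, 659, 2), (10, 1166, 4)] (.ccons 5 (.split 278 [(0, 1301, 1), (3, 334, 4), (5, 182, 8), (6, 334, 4), (7, 182, 8), (10, 1301, 1)] (.ccons 9 (.split 86 [(0, 213, 1), (3, 334, 4), (5, 182, 6), (7, 182, 6), (8, 790, 6), (9, 790, 6)] (.ccons 10 (.split 294 [(0, 301, 1), (3, 334, 5), (4, 790, 5), (6, 334, 5), (7, 182, 8), (9, 790, 5)] (.ccons 10 (.split 198 [(0, 213, 1), (3, 1166, 6), (4, 1110, 7), (5, 182, 6), (8, 334, 7), (10, 1110, 7)] (.ccons 9 (.split 58 [(0, 121, 1), (2, 182, 3), (6, 121, 1), (7, 182, 3), (9, 558, 4), (10, 1075, 3)] (.ccons 8 (.split 90 [(0, 121, 1), (2, 1110, 3), (5, 314, 6), (8, 314, 6), (9, 587, 4), (10, 1110, 3)] (.ccons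 7 (.split 538 [(0, 793, 1), (2, 790, 3), (5, 314, 9), (6, 218, 9), (7, 218, 9), (8, 314, 9)] (.ccons 10 (.split 106 [(0, 121, 1), (2, 334, 5), (4, 218, 5), (7, 218, 5), (8, 314, 6), (9, 558, 6)] (.ccons 10 (.split 394 [(0, 457, 1), (2, 1166, 8), (4, 218, 8), (5, 314, 7), (6, 218, 8), (10, 1166, 8)] (.ccons 9 (.split 114 [(0, 121, 1), (2, 1110, 5), (3, 1130, 4), (7, 218, 5), (8, 314, 6), (10, 1130, 4)] (.ccons 9 (.split 402 [(0, 433, 1), (2, 790, 7), (3, 906, 4), (5, 314, 7), (6, 218, 8), (9, 906, 4)] (.ccons 10 (.split 226 [(0, 737, 1), (2, 710, 5), (3, 1130, 7), (4, 626, 7), (9, 626, 7), (10, 1130, 7)] (.ccons 8 (.split 674 [(0, 737, 1), (2, 710, 5), (3, 906, 5), (4, 626, 7), (6, 482, 9), (8, 482, 9)] (.ccons 10 (.split 834 [(0, 837, 1), (2, 710, 8), (3, 906, 6), (4, 626, 8), (5, 482, 9), (7, 482, 9)] (.ccons 10 (.split 60 [(0, 121, 2), (1, 314, 2), (6, 121, 2),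 (7, 182, 3), (8, 314, 2), (9, 558, 4)] (.ccons 10 (.split 92 [(0, 121, 2), (1, 218, 2), (5, 1084, 6), (7, 218, 2), (8, 334, 4), (10, 1084, 6)] (.ccons 9 (.split 156 [(0, 1177, 2), (1, 218, 2), (5, 1084, 7), (6, 604, 7), (9, 604, 7), (10, 1084, 7)] (.ccons 8 (.split 108 [(0, 121, 2), (1, 1130, 2), (4, 604, 5), (8, 334, 5), (9, 604, 5), (10, 1084, 6)] (.ccons 7 (.split 780 [(0, 793, 2), (1, 906, 2), (4, 412, 9), (5, 558, 8), (6, 604, 8), (7, 412, 9)] (.ccons 10 (.split 116 [(0, 121, 2), (1, 626, 2), (3, 236, 4), (7, 236, 4), (9, 604, 5), (10, 1084, 6)] (.ccons 8 (.split 660 [(0, 213, 9), (1, 710, 4), (3, 412, 9), (5, 182, 9), (6, 604, 7), (8, 412, 9)] (.ccons 10 (.split 612 [(0, 737, 2), (1, 626, 2), (3, 236, 9), (4, 372, 9), (7, 236, 9), (8, 372, 9)] (.ccons 10 (.split 420 [(0, 433, 2), (1, 482, 2), (3, 236, 8), (4, 372, 7), (6, 372, 7), (10, 1318, 7)] (.ccons 9 (.split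 452 [(0, 457, 2), (1, 482, 2), (3, 236, 8), (4, 372, 7), (5, 932, 6), (9, 932, 6)] (.ccons 10 (.split 184 [(0, 433, 3), (1, 218, 5), (2, 236, 4), (6, 236, 4), (8, 412, 5), (10, 1084, 7)] (.ccons 9 (.split 344 [(0, 457, 4), (1, 218, 8), (2, 372, 3), (5, 372, 3), (7, 412, 6), (9, 604, 8)] (.ccons 10 (.split 360 [(0, 1377, 3), (1, 482, 3), (2, 372, 3), (4, 1368, 5), (7, 236, 8), (10, 1368, 5)] (.ccons 9 (.split 424 [(0, 433, 3), (1, 482, 3), (2, 932, 3), (4, 696, 8), (6, 872, 7), (9, 872, 7)] (.ccons 10 (.split 712 [(0, 737, 3), (1, 906, 6), (2, 236, 9), (4, 696, 6), (5, 872, 7), (8, 872, 7)] (.ccons 10 (.split 240 [(0, 737, 4), (1, 482, 4), (2, 372, 7), (3, 696, 6), (8, 372, 7), (9, 696, 6)] (.ccons 10 (.split 816 [(0, 433, 9), (1, 626, 8), (2, 932, 4), (3, 872, 4), (6, 872, 4), (7, 696, 8)] (.ccons 10 (.split 464 [(0, 433, 6), (1, 482, 4), (2, 1476, 4), (3, 1368,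 7), (5, 1264, 8), (10, 1264, 8)] (.ccons 9 (.leaf 0) .cnil)) .cnil)) .cnil)) .cnil)) .cnil)) .cnil)) .cnil)) .cnil)) .cnil)) .cnil)) .cnil)) .cnil)) .cnil)) .cnil)) .cnil)) .cnil)) .cnil)) .cnil)) .cnil)) .cnil)) .cnil)) .cnil)) .cnil)) .cnil)) .cnil)) .cnil)) .cnil)) .cnil)) .cnil)) .cnil)) .cnil)) .cnil)) .cnil)) .cnil)) .cnil)) (.ccons 10 (.split 142 [(0, 653, 1), (4, 31, 7), (5, 1070, 7), (8, 391, 3), (9, 653, 1), (10, 1070, 7)] (.ccons 6 (.split 270 [(0, 301, 1), (4, 31, 8), (5, 1070, 8), (6, 206, 8), (7, 206, 8), (10, 1070, 8)] (.ccons 9 (.split 278 [(0, 1301, 1), (3, 782, 4), (6, 339, 2), (7, 391, 4), (9, 782, 4), (10, 1301, 1)] (.ccons 5 (.split 150 [(0, 213, 1), (3, 206, 4), (5, 310, 7), (6, 206, 4), (8, 310, 7), (9, 659, 2)] (.ccons 10 (.split 86 [(0, 213, 1), (3, 206, 4), (5, 310, 6), (7, 1174, 6), (8, 310, 6), (10, 1174, 6)] (.ccons 9 (.split 166 [(0,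 1189, 1), (3, 206, 5), (4, 1174, 5), (6, 206, 5), (8, 310, 7), (10, 1174, 5)] (.ccons 9 (.split 326 [(0, 837, 1), (3, 782, 6), (4, 598, 8), (5, 310, 6), (7, 206, 8), (9, 598, 8)] (.ccons 10 (.split 58 [(0, 121, 1), (2, 310, 3), (6, 121, 1), (7, 171, 4), (8, 310, 3), (10, 1070, 4)] (.ccons 9 (.split 90 [(0, 121, 1), (2, 598, 3), (5, 570, 6), (7, 206, 4), (8, 339, 3), (9, 570, 6)] (.ccons 10 (.split 154 [(0, 1177, 1), (2, 1174, 3), (5, 570, 7), (6, 1114, 7), (9, 570, 7), (10, 1114, 7)] (.ccons 8 (.split 106 [(0, 121, 1), (2, 206, 5), (4, 1114, 5), (7, 206, 5), (9, 570, 6), (10, 1114, 5)] (.ccons 8 (.split 650 [(0, 653, 1), (2, 678, 3), (4, 410, 9), (5, 570, 7), (6, 206, 9), (8, 410, 9)] (.ccons 10 (.split 114 [(0, 121, 1), (2, 598, 5), (3, 362, 4), (8, 362, 4), (9, 570, 6), (10, 1114, 5)] (.ccons 7 (.split 786 [(0, 793, 1), (2, 598, 8), (3, 410, 9), (5, 570, 8), (6,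 598, 8), (7, 410, 9)] (.ccons 10 (.split 610 [(0, 737, 1), (2, 678, 6), (3, 362, 9), (4, 242, 9), (7, 242, 9), (8, 362, 9)] (.ccons 10 (.split 418 [(0, 433, 1), (2, 678, 8), (3, 362, 7), (4, 242, 8), (6, 242, 8), (9, 678, 8)] (.ccons 10 (.split 450 [(0, 457, 1), (2, 1350, 7), (3, 362, 7), (4, 242, 8), (5, 1442, 6), (10, 1442, 6)] (.ccons 9 (.split 60 [(0, 121, 2), (1, 570, 2), (6, 121, 2), (8, 310, 3), (9, 570, 2), (10, 1070, 4)] (.ccons 7 (.split 92 [(0, 121, 2), (1, 1114, 2), (5, 188, 6), (7, 188, 6), (9, 598, 3), (10, 1114, 2)] (.ccons 8 (.split 540 [(0, 793, 2), (1, 570, 2), (5, 188, 9), (6, 348, 9), (7, 188, 9), (8, 348, 9)] (.ccons 10 (.split 108 [(0, 121, 2), (1, 362, 2), (4, 348, 5), (7, 188, 6), (8, 348, 5), (10, 1070, 6)] (.ccons 9 (.split 396 [(0, 457, 2), (1, 410, 2), (4, 348, 7), (5, 188, 8), (6, 348, 7), (9, 782, 7)] (.ccons 10 (.split 116 [(0, 121,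 2), (1, 242, 2), (3, 620, 4), (7, 188, 6), (8, 348, 5), (9, 620, 4)] (.ccons 10 (.split 404 [(0, 433, 2), (1, 410, 2), (3, 1420, 4), (5, 188, 8), (6, 348, 7), (10, 1420, 4)] (.ccons 9 (.split 228 [(0, 737, 2), (1, 242, 2), (3, 620, 7), (4, 1140, 7), (9, 620, 7), (10, 1140, 7)] (.ccons 8 (.split 804 [(0, 837, 5), (1, 678, 8), (3, 620, 8), (4, 916, 5), (6, 484, 9), (7, 484, 9)] (.ccons 10 (.split 708 [(0, 737, 2), (1, 962, 2), (3, 620, 7), (4, 916, 6), (5, 484, 9), (8, 484, 9)] (.ccons 10 (.split 312 [(0, 433, 3), (1, 362, 4), (2, 348, 5), (6, 348, 5), (7, 188, 8), (9, 570, 8)] (.ccons 10 (.split 216 [(0, 457, 4), (1, 242, 3), (2, 348, 7), (5, 188, 6), (8, 348, 7), (10, 1114, 7)] (.ccons 9 (.split 232 [(0, 737, 3), (1, 242, 3), (2, 484, 3), (4, 728, 5), (8, 484, 3), (9, 728, 5)] (.ccons 10 (.split 424 [(0, 433, 3), (1, 1442, 3), (2, 484, 3), (4, 1336, 7), (6, 1256,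 8), (10, 1256, 8)] (.ccons 9 (.split 840 [(0, 457, 9), (1, 962, 3), (2, 620, 8), (4, 728, 8), (5, 936, 6), (7, 936, 6)] (.ccons 10 (.split 368 [(0, 1377, 4), (1, 242, 8), (2, 484, 4), (3, 1336, 6), (7, 484, 4), (10, 1336, 6)] (.ccons 9 (.split 688 [(0, 737, 4), (1, 242, 9), (2, 916, 5), (3, 936, 4), (6, 880, 7), (8, 880, 7)] (.ccons 10 (.split 464 [(0, 433, 6), (1, 962, 4), (2, 484, 4), (3, 728, 8), (5, 880, 7), (9, 880, 7)] (.ccons 10 (.leaf 1) .cnil)) .cnil)) .cnil)) .cnil)) .cnil)) .cnil)) .cnil)) .cnil)) .cnil)) .cnil)) .cnil)) .cnil)) .cnil)) .cnil)) .cnil)) .cnil)) .cnil)) .cnil)) .cnil)) .cnil)) .cnil)) .cnil)) .cnil)) .cnil)) .cnil)) .cnil)) .cnil)) .cnil)) .cnil)) .cnil)) .cnil)) .cnil)) .cnil)) .cnil)) .cnil)) .cnil))) .cnil)) .cnil)) .cnil)) .cnil)) .cnil)) .cnil)) .cnil)) .cnil)) .cnil)) .cnil)) .cnil)) .cnil)) .cnil)) .cnil)) .cnil)) .cnil)) .cnil))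 (.ccons 9 (.split 269 [(1, 1291, 2), (4, 31, 8), (5, 557, 8), (7, 391, 3), (9, 557, 8), (10, 1291, 2)] (.ccons 6 (.split 141 [(1, 391, 3), (4, 31, 7), (5, 557, 7), (6, 333, 7), (8, 333, 7), (9, 557, 7)] (.ccons 10 (.split 165 [(1, 391, 5), (3, 1165, 5), (6, 103, 7), (8, 391, 5), (9, 557, 7), (10, 1165, 5)] (.ccons 4 (.split 293 [(1, 803, 2), (3, 333, 5), (4, 181, 8), (6, 333, 5), (7, 181, 8), (9, 557, 8)] (.ccons 10 (.split 277 [(1, 339, 2), (3, 333, 4), (5, 1317, 4), (6, 333, 4), (7, 181, 8), (10, 1317, 4)] (.ccons 9 (.split 85 [(1, 339, 2), (3, 333, 4), (5, 181, 6), (7, 181, 6), (8, 789, 6), (9, 789, 6)] (.ccons 10 (.split 197 [(1, 1219, 2), (3, 1165, 6), (4, 1109, 7), (5, 181, 6), (8, 333, 7), (10, 1109, 7)] (.ccons 9 (.split 537 [(1, 659, 3), (2, 789, 3), (5, 557, 4), (6, 587, 4), (7, 659, 3), (8, 789, 3)] (.ccons 10 (.split 297 [(1, 803, 3), (2, 1317, 3), (6,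 333, 5), (7, 171, 8), (9, 557, 8), (10, 1317, 3)] (.ccons 4 (.split 89 [(1, 339, 3), (2, 1109, 3), (5, 313, 6), (8, 313, 6), (9, 1561, 6), (10, 1561, 6)] (.ccons 7 (.split 105 [(1, 587, 5), (2, 333, 5), (4, 217, 5), (7, 217, 5), (8, 313, 6), (9, 557, 6)] (.ccons 10 (.split 393 [(1, 1291, 7), (2, 1165, 8), (4, 217, 8), (5, 313, 7), (6, 217, 8), (10, 1165, 8)] (.ccons 9 (.split 113 [(1, 339, 5), (2, 1109, 5), (3, 1129, 4), (7, 217, 5), (8, 313, 6), (10, 1129, 4)] (.ccons 9 (.split 401 [(1, 659, 8), (2, 789, 7), (3, 905, 4), (5, 313, 7), (6, 217, 8), (9, 905, 4)] (.ccons 10 (.split 225 [(1, 1219, 5), (2, 709, 5), (3, 1129, 7), (4, 625, 7), (9, 625, 7), (10, 1129, 7)] (.ccons 8 (.split 673 [(1, 659, 5), (2, 709, 5), (3, 905, 5), (4, 625, 7), (6, 481, 9), (8, 481, 9)] (.ccons 10 (.split 833 [(1, 339, 9), (2, 709, 8), (3, 905, 6), (4, 625, 8), (5, 481, 9), (7, 481, 9)]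 (.ccons 10 (.split 46 [(0, 557, 1), (4, 31, 5), (6, 103, 3), (7, 171, 2), (9, 557, 1)] (.ccons 8 (.split 526 [(0, 557, 1), (4, 31, 9), (5, 302, 9), (6, 587, 2), (8, 302, 9), (10, 1543, 3)] (.ccons 7 (.split 78 [(0, 333, 1), (4, 31, 6), (5, 302, 6), (7, 654, 6), (8, 302, 6), (9, 654, 6)] (.ccons 10 (.split 54 [(0, 181, 1), (3, 302, 4), (6, 103, 4), (7, 181, 1), (8, 302, 4), (10, 1075, 2)] (.ccons 9 (.split 86 [(0, 1109, 1), (3, 1102, 4), (5, 566, 6), (8, 339, 2), (9, 566, 6), (10, 1102, 4)] (.ccons 7 (.split 278 [(0, 789, 1), (3, 302, 4), (5, 566, 8), (6, 214, 8), (7, 214, 8), (9, 566, 8)] (.ccons 10 (.split 166 [(0, 181, 1), (3, 654, 5), (4, 214, 5), (6, 214, 5), (8, 302, 7), (9, 566, 7)] (.ccons 10 (.split 326 [(0, 333, 1), (3, 1102, 8), (4, 1302, 6), (5, 302, 6), (7, 214, 8), (10, 1302, 6)] (.ccons 9 (.split 58 [(0, 313, 1), (2, 566, 3), (7, 171, 4), (8, 302, 4),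 (9, 566, 3), (10, 1075, 3)] (.ccons 6 (.split 538 [(0, 1561, 1), (2, 566, 3), (5, 122, 9), (6, 122, 9), (7, 654, 4), (10, 1561, 1)] (.ccons 8 (.split 154 [(0, 217, 1), (2, 214, 3), (5, 122, 7), (6, 122, 7), (8, 794, 7), (9, 794, 7)] (.ccons 10 (.split 554 [(0, 557, 1), (2, 566, 3), (4, 794, 5), (6, 122, 9), (7, 654, 5), (8, 794, 5)] (.ccons 10 (.split 202 [(0, 217, 1), (2, 214, 3), (4, 1178, 6), (5, 122, 7), (9, 654, 6), (10, 1178, 6)] (.ccons 8 (.split 178 [(0, 181, 1), (2, 1190, 4), (3, 1178, 5), (6, 122, 7), (9, 566, 7), (10, 1178, 5)] (.ccons 8 (.split 594 [(0, 625, 1), (2, 838, 4), (3, 794, 6), (5, 122, 9), (7, 214, 9), (8, 794, 6)] (.ccons 10 (.split 226 [(0, 481, 1), (2, 1190, 6), (3, 458, 5), (4, 434, 6), (8, 434, 6), (10, 1190, 6)] (.ccons 9 (.split 354 [(0, 481, 1), (2, 838, 5), (3, 458, 5), (4, 434, 6), (7, 738, 8), (9, 738, 8)] (.ccons 10 (.split 898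 [(0, 905, 1), (2, 838, 7), (3, 458, 9), (4, 434, 9), (5, 738, 8), (6, 738, 8)] (.ccons 10 (.split 60 [(0, 313, 2), (1, 122, 2), (6, 122, 2), (7, 181, 3), (8, 302, 4), (9, 566, 3)] (.ccons 10 (.split 92 [(0, 217, 2), (1, 122, 2), (5, 1084, 6), (7, 214, 3), (8, 333, 4), (10, 1084, 6)] (.ccons 9 (.split 156 [(0, 217, 2), (1, 1178, 2), (5, 1084, 7), (6, 604, 7), (9, 604, 7), (10, 1084, 7)] (.ccons 8 (.split 108 [(0, 1129, 2), (1, 122, 2), (4, 604, 5), (8, 302, 6), (9, 604, 5), (10, 1084, 6)] (.ccons 7 (.split 780 [(0, 905, 2), (1, 794, 2), (4, 412, 9), (5, 302, 9), (6, 604, 8), (7, 412, 9)] (.ccons 10 (.split 116 [(0, 625, 2), (1, 122, 2), (3, 236, 4), (7, 236, 4), (9, 604, 5), (10, 1084, 6)] (.ccons 8 (.split 660 [(0, 709, 4), (1, 214, 9), (3, 412, 9), (5, 566, 7), (6, 604, 7), (8, 412, 9)] (.ccons 10 (.split 612 [(0, 625, 2), (1, 738, 2), (3, 236, 9), (4, 372, 9),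 (7, 236, 9), (8, 372, 9)] (.ccons 10 (.split 420 [(0, 481, 2), (1, 434, 2), (3, 236, 8), (4, 372, 7), (6, 372, 7), (10, 1190, 8)] (.ccons 9 (.split 452 [(0, 481, 2), (1, 458, 2), (3, 236, 8), (4, 372, 7), (5, 932, 6), (9, 932, 6)] (.ccons 10 (.split 184 [(0, 217, 5), (1, 434, 3), (2, 236, 4), (6, 236, 4), (8, 412, 5), (10, 1084, 7)] (.ccons 9 (.split 344 [(0, 217, 8), (1, 458, 4), (2, 372, 3), (5, 372, 3), (7, 412, 6), (9, 604, 8)] (.ccons 10 (.split 360 [(0, 481, 3), (1, 1378, 3), (2, 372, 3), (4, 1368, 5), (7, 236, 8), (10, 1368, 5)] (.ccons 9 (.split 424 [(0, 481, 3), (1, 434, 3), (2, 932, 3), (4, 696, 8), (6, 872, 7), (9, 872, 7)] (.ccons 10 (.split 712 [(0, 905, 6), (1, 738, 3), (2, 236, 9), (4, 696, 6), (5, 872, 7), (8, 872, 7)] (.ccons 10 (.split 240 [(0, 481, 4), (1, 738, 4), (2, 372, 7), (3, 696, 6), (8, 372, 7), (9, 696, 6)] (.ccons 10 (.split 816 [(0,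 625, 8), (1, 434, 9), (2, 932, 4), (3, 872, 4), (6, 872, 4), (7, 696, 8)] (.ccons 10 (.split 464 [(0, 481, 4), (1, 434, 6), (2, 1476, 4), (3, 1368, 7), (5, 1264, 8), (10, 1264, 8)] (.ccons 9 (.leaf 2) .cnil)) .cnil)) .cnil)) .cnil)) .cnil)) .cnil)) .cnil)) .cnil)) .cnil)) .cnil)) .cnil)) .cnil)) .cnil)) .cnil)) .cnil)) .cnil)) .cnil)) .cnil)) .cnil)) .cnil)) .cnil)) .cnil)) .cnil)) .cnil)) .cnil)) .cnil)) .cnil)) .cnil)) .cnil)) .cnil)) .cnil)) .cnil)) .cnil)) .cnil)) .cnil)) (.ccons 10 (.split 78 [(0, 333, 1), (4, 31, 6), (5, 1070, 6), (8, 333, 1), (9, 587, 2), (10, 1070, 6)] (.ccons 7 (.split 270 [(0, 333, 1), (4, 31, 8), (5, 1070, 8), (6, 206, 8), (7, 206, 8), (10, 1070, 8)] (.ccons 9 (.split 86 [(0, 1109, 1), (3, 206, 4), (5, 103, 4), (7, 206, 4), (8, 339, 2), (10, 1109, 1)] (.ccons 9 (.split 54 [(0, 181, 1), (3, 1070, 4), (6, 598, 5), (7, 181, 1), (9, 598, 5),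 (10, 1070, 4)] (.ccons 8 (.split 150 [(0, 181, 1), (3, 206, 4), (5, 310, 7), (6, 598, 7), (8, 310, 7), (9, 598, 7)] (.ccons 10 (.split 166 [(0, 181, 1), (3, 206, 5), (4, 1174, 5), (6, 206, 5), (8, 310, 7), (10, 1174, 5)] (.ccons 9 (.split 326 [(0, 333, 1), (3, 782, 6), (4, 310, 6), (5, 310, 6), (7, 206, 8), (9, 598, 8)] (.ccons 10 (.split 154 [(0, 217, 1), (2, 1174, 3), (5, 171, 4), (6, 206, 4), (9, 659, 3), (10, 1174, 3)] (.ccons 8 (.split 538 [(0, 1561, 1), (2, 598, 3), (6, 598, 3), (7, 410, 9), (8, 410, 9), (10, 1561, 1)] (.ccons 5 (.split 90 [(0, 217, 1), (2, 598, 3), (5, 570, 6), (7, 410, 6), (8, 410, 6), (9, 570, 6)] (.ccons 10 (.split 106 [(0, 1129, 1), (2, 206, 5), (4, 1114, 5), (7, 206, 5), (9, 570, 6), (10, 1114, 5)] (.ccons 8 (.split 650 [(0, 905, 1), (2, 678, 3), (4, 570, 7), (5, 570, 7), (6, 206, 9), (8, 410, 9)] (.ccons 10 (.split 114 [(0, 625, 1),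 (2, 310, 6), (3, 362, 4), (8, 362, 4), (9, 570, 6), (10, 1114, 5)] (.ccons 7 (.split 786 [(0, 789, 1), (2, 310, 9), (3, 570, 8), (5, 570, 8), (6, 598, 8), (7, 410, 9)] (.ccons 10 (.split 610 [(0, 625, 1), (2, 678, 6), (3, 362, 9), (4, 242, 9), (7, 242, 9), (8, 362, 9)] (.ccons 10 (.split 418 [(0, 481, 1), (2, 678, 8), (3, 362, 7), (4, 242, 8), (6, 242, 8), (9, 678, 8)] (.ccons 10 (.split 450 [(0, 481, 1), (2, 1350, 7), (3, 362, 7), (4, 242, 8), (5, 1442, 6), (10, 1442, 6)] (.ccons 9 (.split 60 [(0, 313, 2), (1, 570, 2), (7, 181, 3), (8, 310, 3), (9, 570, 2), (10, 1070, 4)] (.ccons 6 (.split 156 [(0, 217, 2), (1, 410, 2), (5, 124, 7), (6, 124, 7), (8, 410, 2), (10, 1174, 3)] (.ccons 9 (.split 284 [(0, 313, 2), (1, 410, 2), (5, 124, 8), (6, 124, 8), (7, 668, 8), (9, 668, 8)] (.ccons 10 (.split 172 [(0, 181, 3), (1, 678, 3), (4, 668, 5), (6, 124, 7), (9, 668, 5), (10,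 1070, 7)] (.ccons 8 (.split 588 [(0, 709, 3), (1, 598, 3), (4, 668, 6), (5, 124, 9), (7, 668, 6), (8, 782, 6)] (.ccons 10 (.split 564 [(0, 625, 2), (1, 570, 2), (3, 668, 5), (6, 124, 9), (7, 668, 5), (8, 310, 9)] (.ccons 10 (.split 212 [(0, 217, 2), (1, 242, 2), (3, 668, 6), (5, 124, 7), (9, 668, 6), (10, 1174, 6)] (.ccons 8 (.split 228 [(0, 481, 2), (1, 242, 2), (3, 428, 6), (4, 468, 5), (8, 468, 5), (9, 678, 6)] (.ccons 10 (.split 356 [(0, 481, 2), (1, 362, 2), (3, 428, 6), (4, 468, 5), (7, 1252, 8), (10, 1252, 8)] (.ccons 9 (.split 900 [(0, 905, 2), (1, 962, 2), (3, 428, 9), (4, 468, 9), (5, 868, 7), (6, 868, 7)] (.ccons 10 (.split 184 [(0, 217, 5), (1, 242, 3), (2, 428, 4), (6, 124, 7), (8, 428, 4), (9, 668, 5)] (.ccons 10 (.split 344 [(0, 217, 8), (1, 362, 4), (2, 468, 3), (5, 124, 8), (7, 468, 3), (10, 1308, 6)] (.ccons 9 (.split 232 [(0, 481, 3), (1, 242,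 3), (2, 1252, 3), (4, 1208, 6), (8, 428, 6), (10, 1208, 6)] (.ccons 9 (.split 808 [(0, 905, 5), (1, 362, 9), (2, 868, 3), (4, 856, 5), (6, 744, 8), (7, 744, 8)] (.ccons 10 (.split 456 [(0, 481, 3), (1, 962, 3), (2, 468, 3), (4, 856, 7), (5, 744, 8), (9, 744, 8)] (.ccons 10 (.split 368 [(0, 481, 4), (1, 242, 8), (2, 868, 4), (3, 856, 5), (7, 468, 5), (9, 856, 5)] (.ccons 10 (.split 432 [(0, 481, 4), (1, 1442, 4), (2, 468, 5), (3, 1208, 8), (6, 1392, 7), (10, 1392, 7)] (.ccons 9 (.split 720 [(0, 625, 7), (1, 962, 4), (2, 468, 9), (3, 744, 4), (5, 944, 6), (8, 944, 6)] (.ccons 10 (.leaf 3) .cnil)) .cnil)) .cnil)) .cnil)) .cnil)) .cnil)) .cnil)) .cnil)) .cnil)) .cnil)) .cnil)) .cnil)) .cnil)) .cnil)) .cnil)) .cnil)) .cnil)) .cnil)) .cnil)) .cnil)) .cnil)) .cnil)) .cnil)) .cnil)) .cnil)) .cnil)) .cnil)) .cnil)) .cnil)) .cnil)) .cnil)) .cnil)) .cnil)) .cnil)) .cnil)) .cnil)))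 .cnil)) .cnil)) .cnil)) .cnil)) .cnil)) .cnil)) .cnil)) .cnil)) .cnil)) .cnil)) .cnil)) .cnil)) .cnil)) .cnil)) .cnil)) .cnil)) .cnil)) (.ccons 10 (.split 293 [(1, 803, 2), (3, 1069, 8), (6, 103, 8), (7, 391, 5), (9, 803, 2), (10, 1069, 8)] (.ccons 4 (.split 533 [(1, 659, 2), (3, 31, 9), (5, 309, 9), (7, 659, 2), (8, 309, 9), (10, 1543, 4)] (.ccons 6 (.split 149 [(1, 659, 2), (3, 31, 7), (5, 309, 7), (6, 597, 7), (8, 309, 7), (9, 597, 7)] (.ccons 10 (.split 165 [(1, 391, 5), (3, 1069, 7), (4, 1173, 5), (6, 103, 7), (8, 309, 7), (10, 1173, 5)] (.ccons 9 (.split 141 [(1, 391, 3), (4, 1173, 3), (5, 677, 3), (8, 391, 3), (9, 677, 3), (10, 1173, 3)] (.ccons 6 (.split 269 [(1, 1291, 2), (4, 309, 3), (5, 309, 3), (6, 205, 8), (7, 205, 8), (10, 1069, 8)] (.ccons 9 (.split 325 [(1, 339, 2), (3, 781, 6), (4, 597, 8), (5, 309, 6), (7, 205, 8), (9, 781, 6)] (.ccons 10 (.split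 153 [(1, 659, 3), (2, 205, 4), (5, 171, 4), (6, 205, 4), (9, 659, 3), (10, 1173, 3)] (.ccons 8 (.split 297 [(1, 803, 3), (2, 781, 5), (4, 409, 5), (7, 409, 5), (9, 781, 5), (10, 1069, 8)] (.ccons 6 (.split 57 [(1, 1075, 3), (2, 309, 3), (6, 361, 4), (7, 409, 5), (8, 361, 4), (10, 1069, 4)] (.ccons 9 (.split 89 [(1, 339, 3), (2, 205, 4), (5, 569, 6), (7, 409, 6), (8, 361, 4), (9, 569, 6)] (.ccons 10 (.split 649 [(1, 659, 3), (2, 781, 7), (4, 569, 7), (5, 569, 7), (6, 205, 9), (8, 409, 9)] (.ccons 10 (.split 113 [(1, 339, 5), (2, 597, 5), (3, 1113, 5), (8, 361, 4), (9, 569, 6), (10, 1113, 5)] (.ccons 7 (.split 785 [(1, 659, 8), (2, 781, 4), (3, 569, 8), (5, 569, 8), (6, 597, 8), (7, 409, 9)] (.ccons 10 (.split 609 [(1, 803, 6), (2, 677, 6), (3, 569, 6), (4, 241, 9), (7, 241, 9), (8, 361, 9)] (.ccons 10 (.split 417 [(1, 803, 7), (2, 677, 8), (3, 361, 7), (4, 241, 8),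 (6, 241, 8), (9, 677, 8)] (.ccons 10 (.split 449 [(1, 1219, 8), (2, 1349, 7), (3, 361, 7), (4, 241, 8), (5, 1441, 6), (10, 1441, 6)] (.ccons 9 (.split 46 [(0, 1069, 1), (4, 31, 5), (6, 103, 3), (7, 171, 2), (10, 1069, 1)] (.ccons 8 (.split 78 [(0, 205, 1), (4, 31, 6), (5, 302, 6), (7, 205, 1), (8, 302, 6), (9, 587, 2)] (.ccons 10 (.split 142 [(0, 205, 1), (4, 31, 7), (5, 302, 7), (6, 1102, 7), (8, 302, 7), (10, 1102, 7)] (.ccons 9 (.split 86 [(0, 597, 1), (3, 1102, 4), (5, 103, 4), (8, 339, 2), (9, 597, 1), (10, 1102, 4)] (.ccons 7 (.split 54 [(0, 309, 1), (3, 302, 4), (6, 214, 5), (7, 214, 5), (8, 302, 4), (10, 1075, 2)] (.ccons 9 (.split 278 [(0, 309, 1), (3, 302, 4), (5, 566, 8), (6, 214, 8), (7, 214, 8), (9, 566, 8)] (.ccons 10 (.split 166 [(0, 677, 1), (3, 654, 5), (4, 566, 7), (6, 214, 5), (8, 302, 7), (9, 566, 7)] (.ccons 10 (.split 326 [(0, 1349, 1), (3,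 1102, 8), (4, 1302, 6), (5, 302, 6), (7, 214, 8), (10, 1302, 6)] (.ccons 9 (.split 58 [(0, 569, 1), (2, 566, 3), (7, 171, 4), (8, 302, 4), (9, 566, 3), (10, 1075, 3)] (.ccons 6 (.split 154 [(0, 409, 1), (2, 214, 3), (5, 122, 7), (6, 122, 7), (8, 409, 1), (9, 654, 4)] (.ccons 10 (.split 282 [(0, 409, 1), (2, 1302, 3), (5, 122, 8), (6, 122, 8), (7, 1178, 8), (10, 1178, 8)] (.ccons 9 (.split 554 [(0, 569, 1), (2, 566, 3), (4, 794, 5), (6, 122, 9), (7, 654, 5), (8, 794, 5)] (.ccons 10 (.split 202 [(0, 205, 1), (2, 214, 3), (4, 1178, 6), (5, 122, 7), (9, 654, 6), (10, 1178, 6)] (.ccons 8 (.split 178 [(0, 241, 1), (2, 1190, 4), (3, 1178, 5), (6, 122, 7), (9, 566, 7), (10, 1178, 5)] (.ccons 8 (.split 594 [(0, 597, 1), (2, 838, 4), (3, 794, 6), (5, 122, 9), (7, 214, 9), (8, 794, 6)] (.ccons 10 (.split 226 [(0, 241, 1), (2, 1190, 6), (3, 458, 5), (4, 434, 6), (8, 434, 6),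 (10, 1190, 6)] (.ccons 9 (.split 354 [(0, 361, 1), (2, 838, 5), (3, 458, 5), (4, 434, 6), (7, 738, 8), (9, 738, 8)] (.ccons 10 (.split 898 [(0, 961, 1), (2, 838, 7), (3, 458, 9), (4, 434, 9), (5, 738, 8), (6, 738, 8)] (.ccons 10 (.split 60 [(0, 569, 2), (1, 122, 2), (6, 122, 2), (8, 302, 4), (9, 566, 3), (10, 1069, 4)] (.ccons 7 (.split 92 [(0, 1113, 2), (1, 122, 2), (5, 188, 6), (7, 188, 6), (9, 597, 3), (10, 1102, 4)] (.ccons 8 (.split 540 [(0, 569, 2), (1, 794, 2), (5, 188, 9), (6, 348, 9), (7, 188, 9), (8, 348, 9)] (.ccons 10 (.split 108 [(0, 361, 2), (1, 122, 2), (4, 348, 5), (7, 188, 6), (8, 348, 5), (10, 1102, 5)] (.ccons 9 (.split 396 [(0, 409, 2), (1, 458, 2), (4, 348, 7), (5, 188, 8), (6, 348, 7), (9, 654, 8)] (.ccons 10 (.split 116 [(0, 241, 2), (1, 122, 2), (3, 620, 4), (7, 188, 6), (8, 348, 5), (9, 620, 4)] (.ccons 10 (.split 404 [(0, 409, 2), (1, 434,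 2), (3, 1420, 4), (5, 188, 8), (6, 348, 7), (10, 1420, 4)] (.ccons 9 (.split 228 [(0, 241, 2), (1, 738, 2), (3, 620, 7), (4, 1140, 7), (9, 620, 7), (10, 1140, 7)] (.ccons 8 (.split 804 [(0, 781, 5), (1, 838, 5), (3, 620, 8), (4, 916, 5), (6, 484, 9), (7, 484, 9)] (.ccons 10 (.split 708 [(0, 961, 2), (1, 738, 2), (3, 620, 7), (4, 916, 6), (5, 484, 9), (8, 484, 9)] (.ccons 10 (.split 312 [(0, 569, 8), (1, 434, 3), (2, 348, 5), (6, 348, 5), (7, 188, 8), (9, 794, 5)] (.ccons 10 (.split 216 [(0, 241, 3), (1, 458, 4), (2, 348, 7), (5, 188, 6), (8, 348, 7), (10, 1178, 6)] (.ccons 9 (.split 232 [(0, 241, 3), (1, 738, 3), (2, 484, 3), (4, 728, 5), (8, 484, 3), (9, 728, 5)] (.ccons 10 (.split 424 [(0, 1441, 3), (1, 434, 3), (2, 484, 3), (4, 1336, 7), (6, 1256, 8), (10, 1256, 8)] (.ccons 9 (.split 840 [(0, 961, 3), (1, 458, 9), (2, 620, 8), (4, 728, 8), (5, 936, 6), (7, 936,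 6)] (.ccons 10 (.split 368 [(0, 241, 8), (1, 1378, 4), (2, 484, 4), (3, 1336, 6), (7, 484, 4), (10, 1336, 6)] (.ccons 9 (.split 688 [(0, 241, 9), (1, 738, 4), (2, 916, 5), (3, 936, 4), (6, 880, 7), (8, 880, 7)] (.ccons 10 (.split 464 [(0, 961, 4), (1, 434, 6), (2, 484, 4), (3, 728, 8), (5, 880, 7), (9, 880, 7)] (.ccons 10 (.leaf 4) .cnil)) .cnil)) .cnil)) .cnil)) .cnil)) .cnil)) .cnil)) .cnil)) .cnil)) .cnil)) .cnil)) .cnil)) .cnil)) .cnil)) .cnil)) .cnil)) .cnil)) .cnil)) .cnil)) .cnil)) .cnil)) .cnil)) .cnil)) .cnil)) .cnil)) .cnil)) .cnil)) .cnil)) .cnil)) .cnil)) .cnil)) .cnil)) .cnil)) .cnil)) .cnil)) (.ccons 9 (.split 142 [(0, 205, 1), (4, 31, 7), (5, 558, 7), (6, 205, 1), (8, 391, 3), (9, 558, 7)] (.ccons 10 (.split 78 [(0, 205, 1), (4, 31, 6), (5, 558, 6), (7, 1166, 6), (9, 558, 6), (10, 1166, 6)] (.ccons 8 (.split 54 [(0, 309, 1), (3, 558, 4), (6, 103, 4),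 (8, 309, 1), (9, 558, 4), (10, 1075, 2)] (.ccons 7 (.split 86 [(0, 597, 1), (3, 334, 4), (5, 182, 6), (7, 182, 6), (8, 334, 4), (9, 597, 1)] (.ccons 10 (.split 278 [(0, 309, 1), (3, 334, 4), (5, 182, 8), (6, 1110, 8), (7, 182, 8), (10, 1110, 8)] (.ccons 9 (.split 294 [(0, 309, 1), (3, 334, 5), (4, 790, 5), (6, 334, 5), (7, 182, 8), (9, 790, 5)] (.ccons 10 (.split 198 [(0, 205, 1), (3, 334, 7), (4, 1110, 7), (5, 182, 6), (8, 334, 7), (10, 1110, 7)] (.ccons 9 (.split 154 [(0, 409, 1), (2, 182, 3), (5, 182, 3), (8, 409, 1), (9, 659, 3), (10, 1166, 4)] (.ccons 6 (.split 58 [(0, 569, 1), (2, 182, 3), (6, 218, 5), (7, 218, 5), (9, 558, 4), (10, 1075, 3)] (.ccons 8 (.split 538 [(0, 569, 1), (2, 790, 3), (5, 314, 9), (6, 218, 9), (7, 218, 9), (8, 314, 9)] (.ccons 10 (.split 106 [(0, 361, 1), (2, 334, 5), (4, 314, 6), (7, 218, 5), (8, 314, 6), (9, 558, 6)] (.ccons 10 (.split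 394 [(0, 409, 1), (2, 334, 7), (4, 314, 7), (5, 314, 7), (6, 218, 8), (10, 1166, 8)] (.ccons 9 (.split 114 [(0, 241, 1), (2, 1110, 5), (3, 1130, 4), (7, 218, 5), (8, 314, 6), (10, 1130, 4)] (.ccons 9 (.split 402 [(0, 409, 1), (2, 790, 7), (3, 906, 4), (5, 314, 7), (6, 218, 8), (9, 906, 4)] (.ccons 10 (.split 226 [(0, 241, 1), (2, 710, 5), (3, 1130, 7), (4, 626, 7), (9, 626, 7), (10, 1130, 7)] (.ccons 8 (.split 674 [(0, 677, 1), (2, 710, 5), (3, 906, 5), (4, 626, 7), (6, 482, 9), (8, 482, 9)] (.ccons 10 (.split 834 [(0, 961, 1), (2, 710, 8), (3, 906, 6), (4, 626, 8), (5, 482, 9), (7, 482, 9)] (.ccons 10 (.split 60 [(0, 569, 2), (1, 314, 2), (7, 182, 3), (8, 314, 2), (9, 558, 4), (10, 1069, 4)] (.ccons 6 (.split 156 [(0, 409, 2), (1, 218, 2), (5, 124, 7), (6, 124, 7), (8, 409, 2), (10, 1166, 4)] (.ccons 9 (.split 284 [(0, 409, 2), (1, 314, 2), (5, 124, 8), (6, 124,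 8), (7, 668, 8), (9, 668, 8)] (.ccons 10 (.split 172 [(0, 205, 5), (1, 182, 3), (4, 668, 5), (6, 124, 7), (9, 668, 5), (10, 1166, 5)] (.ccons 8 (.split 588 [(0, 781, 6), (1, 710, 3), (4, 668, 6), (5, 124, 9), (7, 668, 6), (8, 334, 9)] (.ccons 10 (.split 564 [(0, 569, 2), (1, 626, 2), (3, 668, 5), (6, 124, 9), (7, 668, 5), (8, 790, 5)] (.ccons 10 (.split 212 [(0, 241, 2), (1, 218, 2), (3, 668, 6), (5, 124, 7), (9, 668, 6), (10, 1110, 7)] (.ccons 8 (.split 228 [(0, 241, 2), (1, 482, 2), (3, 428, 6), (4, 468, 5), (8, 468, 5), (9, 710, 5)] (.ccons 10 (.split 356 [(0, 361, 2), (1, 482, 2), (3, 428, 6), (4, 468, 5), (7, 1252, 8), (10, 1252, 8)] (.ccons 9 (.split 900 [(0, 961, 2), (1, 906, 2), (3, 428, 9), (4, 468, 9), (5, 868, 7), (6, 868, 7)] (.ccons 10 (.split 184 [(0, 241, 3), (1, 314, 7), (2, 428, 4), (6, 124, 7), (8, 428, 4), (9, 668, 5)] (.ccons 10 (.split 344 [(0,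 1113, 8), (1, 314, 6), (2, 468, 3), (5, 124, 8), (7, 468, 3), (10, 1308, 6)] (.ccons 9 (.split 232 [(0, 241, 3), (1, 482, 3), (2, 1252, 3), (4, 1208, 6), (8, 428, 6), (10, 1208, 6)] (.ccons 9 (.split 808 [(0, 569, 8), (1, 906, 5), (2, 868, 3), (4, 856, 5), (6, 744, 8), (7, 744, 8)] (.ccons 10 (.split 456 [(0, 961, 3), (1, 482, 3), (2, 468, 3), (4, 856, 7), (5, 744, 8), (9, 744, 8)] (.ccons 10 (.split 368 [(0, 241, 8), (1, 482, 4), (2, 868, 4), (3, 856, 5), (7, 468, 5), (9, 856, 5)] (.ccons 10 (.split 432 [(0, 1441, 4), (1, 482, 4), (2, 468, 5), (3, 1208, 8), (6, 1392, 7), (10, 1392, 7)] (.ccons 9 (.split 720 [(0, 961, 4), (1, 626, 7), (2, 468, 9), (3, 744, 4), (5, 944, 6), (8, 944, 6)] (.ccons 10 (.leaf 5) .cnil)) .cnil)) .cnil)) .cnil)) .cnil)) .cnil)) .cnil)) .cnil)) .cnil)) .cnil)) .cnil)) .cnil)) .cnil)) .cnil)) .cnil)) .cnil)) .cnil)) .cnil)) .cnil)) .cnil))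 .cnil)) .cnil)) .cnil)) .cnil)) .cnil)) .cnil)) .cnil)) .cnil)) .cnil)) .cnil)) .cnil)) .cnil)) .cnil)) .cnil)) .cnil)) .cnil))) .cnil)) .cnil)) .cnil)) .cnil)) .cnil)) .cnil)) .cnil)) .cnil)) .cnil)) .cnil)) .cnil)) .cnil)) .cnil)) .cnil)) .cnil)) .cnil)) .cnil)) .cnil)))) .cnil)) .cnil)) .cnil)) .cnil)) .cnil)) .cnil)) .cnil)) .cnil))) .cnil)) .cnil)) .cnil))) .cnil)

set_option maxRecDepth 100000 in
theorem tree_ok : chk 11 5 F tree none 4 [] = true := by decide +kernel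

/-- Relabelling tables carrying the standard list to each final list. -/
def T : List (List Nat) := [
  [0, 1, 2, 3, 4, 5, 6, 7, 8, 9, 10],
  [0, 1, 2, 3, 4, 6, 5, 9, 10, 7, 8],
  [0, 1, 2, 3, 4, 10, 9, 8, 7, 6, 5],
  [0, 1, 2, 3, 4, 9, 10, 6, 5, 8, 7],
  [0, 1, 2, 3, 4, 8, 7, 10, 9, 5, 6],
  [0, 1, 2, 3, 4, 7, 8, 5, 6, 10, 9]]

/-- The inverse tables. -/
def T' : List (List Nat) := [
  [0, 1, 2, 3, 4, 5, 6, 7, 8, 9, 10],
  [0, 1, 2, 3, 4, 6, 5, 9, 10, 7, 8],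
  [0, 1, 2, 3, 4, 10, 9, 8, 7, 6, 5],
  [0, 1, 2, 3, 4, 8, 7, 10, 9, 5, 6],
  [0, 1, 2, 3, 4, 9, 10, 6, 5, 8, 7],
  [0, 1, 2, 3, 4, 7, 8, 5, 6, 10, 9]]

theorem tab_ok : ∀ j, j < 6 → (tabOK 11 (T.getD j []) (T'.getD j []) &&
    L.all (fun m => (F.getD j []).contains (pmask 11 (T'.getD j []) m)) &&
    (List.range 4).all (fun i => (T.getD j []).getD i 0 == i)) = true := by decide +kernel

theorem F_length : F.length = 6 := by decide

theorem L_nodup : L.Nodup := by decide +kernel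

theorem L_lt : ∀ m ∈ L, m < 2 ^ 11 := by decide +kernel

theorem L_length : L.length = 66 := by decide +kernel

/-- The agreement list after the first propagation step. -/
def A1 : List (Nat × Nat) := [(4, 4), (3, 3), (2, 2), (1, 1), (0, 0)]

theorem run_first : run 11 5 L [(15, 15, 4, 4)] [(3, 3), (2, 2), (1, 1), (0, 0)] = some A1 := by decide +kernel

/-- Rigidity certificates. -/
def certs : List (Nat × List (Nat × Nat × Nat × Nat) × (Nat × Nat × Nat × Nat)) := [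
  (5, [(39, 39, 6, 6), (43, 43, 7, 7), (135, 135, 8, 8), (75, 75, 9, 9), (519, 519, 10, 10)], (0, 0, 0, 0)),
  (6, [(71, 39, 5, 6), (43, 75, 7, 9), (135, 519, 8, 10), (75, 43, 9, 7), (519, 135, 10, 8)], (182, 598, 604, 1)),
  (7, [(135, 39, 8, 6), (139, 43, 5, 7), (39, 135, 6, 8), (75, 267, 9, 10), (519, 1031, 10, 9)], (121, 409, 412, 0)),
  (8, [(263, 39, 7, 6), (139, 75, 5, 9), (39, 519, 6, 10), (75, 1035, 9, 8), (519, 263, 10, 7)], (121, 1561, 793, 10)),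
  (9, [(519, 39, 10, 6), (523, 43, 6, 7), (71, 135, 5, 8), (43, 267, 7, 10), (135, 1031, 8, 9)], (121, 409, 412, 0)),
  (10, [(1031, 39, 9, 6), (523, 75, 6, 9), (71, 519, 5, 10), (43, 1035, 7, 8), (135, 263, 8, 7)], (121, 1561, 793, 10))]

theorem certs_ok : certOK 11 5 L A1 5 certs = true := by decide +kernel

end Cfsg.Agent.Lib.Helper86.St11Data
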