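import Cfsg.Agent.Lib.Helper86.St12Data
import Cfsg.Agent.Lib.Helper86.SteinerAut
import Cfsg.Agent.Lib.Helper8.S5612

set_option autoImplicit false

/-! Steiner systems `S(5, 6, 12)`: every `5`-tuple of distinct points extends to a labelling
realising the standard list of blocks, and such labellings are rigid. -/

namespace Cfsg.Agent.Lib.Helper86.St12

open Cfsg.Agent.Lib.Helper86.SteinerTree Cfsg.Agent.Lib.Helper86.SteinerLabel
  Cfsg.Agent.Lib.Helper86.SteinerRigid Cfsg.Agent.Lib.Helper86.SteinerAut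
  Cfsg.Agent.Lib.Helper86.St12Data Cfsg.Agent.Lib.Helper8.Steiner

variable {α : Type*} [Fintype α] [DecidableEq α]

theorem card_blocks (hα : Fintype.card α = 12) {B : Set (Finset α)}
    (hB : Cfsg.IsSteinerSystem 5 6 B) : (blocks B).card = 132 := by
  exact Cfsg.Agent.Lib.Helper8.S5612.card_blocks hα hB

theorem lbl (hα : Fintype.card α = 12) {B : Set (Finset α)}
    (hB : Cfsg.IsSteinerSystem 5 6 B) : Lbl B 12 5 L := by
  refine ⟨hα, by norm_num, L_nodup, L_lt, ?_, ?_⟩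
  · rw [card_blocks hα hB, L_length]
  · intro q
    let ℓ₀ : ℕ → α := fun i => if h : i < 5 then q ⟨i, h⟩ else q ⟨0, by norm_num⟩
    have hℓ₀ : ∀ i (h : i < 5), ℓ₀ i = q ⟨i, h⟩ := fun i h => dif_pos h
    have hR : Real B 12 ℓ₀ 5 [] := by
      refine ⟨?_, by simp, by simp⟩
      intro i j hi hj hij
      rw [hℓ₀ i hi, hℓ₀ j hj] at hij
      exact Fin.mk.inj (q.injective hij)
    have hs : Concl B 12 F ℓ₀ 5 :=
      sound (k := 6) (by norm_num) hB hα F tree none 5 [] tree_ok (by norm_num) ℓ₀ hR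
    obtain ⟨ℓ', j, hj, hag, hinj, hmem⟩ := hs
    rw [F_length] at hj
    have hk := tab_ok j hj
    simp only [Bool.and_eq_true] at hk
    obtain ⟨⟨htab, hrel⟩, hfix⟩ := hk
    have hlab : Lab B 12 (F.getD j []) ℓ' := ⟨hinj, hmem⟩
    refine ⟨fun i => ℓ' ((T.getD j []).getD i 0), hlab.relabel htab hrel, ?_⟩
    intro i
    have h1 := List.all_eq_true.mp hfix i (List.mem_range.mpr i.2)
    rw [beq_iff_eq] at h1
    show ℓ' ((T.getD j []).getD i 0) = q i
    rw [h1, hag i i.2, hℓ₀ i i.2]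

theorem rigid (hα : Fintype.card α = 12) {B : Set (Finset α)}
    (hB : Cfsg.IsSteinerSystem 5 6 B) : Rigid B 12 5 L := by
  intro ℓ ℓ' hℓ hℓ' hag
  have hA0 : Agree ℓ ℓ' [(4, 4), (3, 3), (2, 2), (1, 1), (0, 0)] := by
    intro a ha
    simp only [List.mem_cons, List.not_mem_nil, or_false] at ha
    rcases ha with rfl | rfl | rfl | rfl | rfl <;> exact hag _ (by norm_num)
  have hA1 : Agree ℓ ℓ' A1 := run_sound (k := 6) hB hℓ hℓ' _ _ _ hA0 run_first
  exact SteinerRigid.rigid (k := 6) hα hB hℓ hℓ' L_lt hA1 (by norm_num) certs_ok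

end Cfsg.Agent.Lib.Helper86.St12
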