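import Cfsg.Agent.Lib.Helper86.SteinerRigid

set_option autoImplicit false

/-! Generated data: search tree, final block lists, relabelling tables and rigidity
certificates for the Steiner systems `S(5, 6, 12)`. -/

namespace Cfsg.Agent.Lib.Helper86.St12Data

open Cfsg.Agent.Lib.Helper86.SteinerTree Cfsg.Agent.Lib.Helper86.SteinerLabel
  Cfsg.Agent.Lib.Helper86.SteinerRigid

/-- The final block lists (as bit masks), one for each successful leaf. -/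
def F : List (List Nat) := [
  [63, 207, 243, 252, 343, 365, 378, 414, 427, 437, 473, 486, 603, 622, 629, 669, 679, 698, 726, 745, 783, 822, 825, 860, 867, 915, 940, 965, 970, 1008, 1117, 1131, 1142, 1175, 1198, 1209, 1242, 1253, 1307, 1319, 1340, 1358, 1393, 1421, 1458, 1475, 1492, 1512, 1566, 1581, 1587, 1607, 1656, 1675, 1716, 1740, 1745, 1762, 1813, 1834, 1865, 1874, 1892, 1926, 1944, 1953, 2142, 2151, 2169, 2203, 2221, 2230, 2261, 2282, 2333, 2350, 2355, 2379, 2420, 2439, 2488, 2508, 2514, 2529, 2583, 2603, 2620, 2637, 2674, 2702, 2737, 2755, 2776, 2788, 2842, 2853, 2886, 2897, 2920, 2953, 2964, 2978, 3087, 3125, 3130, 3155, 3180, 3228, 3235, 3270, 3273, 3312, 3350, 3369, 3397, 3416, 3426, 3466, 3473, 3492, 3609, 3622, 3658, 3668, 3681, 3717, 3730, 3752, 3843, 3852, 3888, 4032],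
  [63, 207, 243, 252, 343, 366, 377, 413, 427, 438, 474, 485, 603, 621, 630, 670, 679, 697, 725, 746, 783, 821, 826, 860, 867, 915, 940, 966, 969, 1008, 1118, 1131, 1141, 1175, 1197, 1210, 1241, 1254, 1307, 1319, 1340, 1357, 1394, 1422, 1457, 1475, 1492, 1512, 1565, 1582, 1587, 1607, 1656, 1675, 1716, 1740, 1746, 1761, 1814, 1833, 1866, 1873, 1892, 1925, 1944, 1954, 2141, 2151, 2170, 2203, 2222, 2229, 2262, 2281, 2334, 2349, 2355, 2379, 2420, 2439, 2488, 2508, 2513, 2530, 2583, 2603, 2620, 2638, 2673, 2701, 2738, 2755, 2776, 2788, 2841, 2854, 2885, 2898, 2920, 2954, 2964, 2977, 3087, 3126, 3129, 3155, 3180, 3228, 3235, 3269, 3274, 3312, 3349, 3370, 3398, 3416, 3425, 3465, 3474, 3492, 3610, 3621, 3657, 3668, 3682, 3718, 3729, 3752, 3843, 3852, 3888, 4032],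
  [63, 207, 245, 250, 343, 363, 380, 414, 429, 435, 473, 486, 605, 622, 627, 667, 679, 700, 726, 745, 783, 822, 825, 858, 869, 917, 938, 963, 972, 1008, 1115, 1133, 1142, 1175, 1198, 1209, 1244, 1251, 1309, 1319, 1338, 1358, 1393, 1419, 1460, 1477, 1490, 1512, 1566, 1579, 1589, 1607, 1656, 1677, 1714, 1738, 1745, 1764, 1811, 1836, 1865, 1876, 1890, 1926, 1944, 1953, 2142, 2151, 2169, 2205, 2219, 2230, 2259, 2284, 2331, 2350, 2357, 2381, 2418, 2439, 2488, 2506, 2516, 2529, 2583, 2605, 2618, 2635, 2676, 2702, 2737, 2757, 2776, 2786, 2844, 2851, 2886, 2897, 2920, 2953, 2962, 2980, 3087, 3123, 3132, 3157, 3178, 3226, 3237, 3270, 3273, 3312, 3350, 3369, 3395, 3416, 3428, 3468, 3473, 3490, 3609, 3622, 3660, 3666, 3681, 3715, 3732, 3752, 3845, 3850, 3888, 4032],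
  [63, 207, 246, 249, 343, 363, 380, 413, 430, 435, 474, 485, 606, 621, 627, 667, 679, 700, 725, 746, 783, 821, 826, 857, 870, 918, 937, 963, 972, 1008, 1115, 1134, 1141, 1175, 1197, 1210, 1244, 1251, 1310, 1319, 1337, 1357, 1394, 1419, 1460, 1478, 1489, 1512, 1565, 1579, 1590, 1607, 1656, 1678, 1713, 1737, 1746, 1764, 1811, 1836, 1866, 1876, 1889, 1925, 1944, 1954, 2141, 2151, 2170, 2206, 2219, 2229, 2259, 2284, 2331, 2349, 2358, 2382, 2417, 2439, 2488, 2505, 2516, 2530, 2583, 2606, 2617, 2635, 2676, 2701, 2738, 2758, 2776, 2785, 2844, 2851, 2885, 2898, 2920, 2954, 2961, 2980, 3087, 3123, 3132, 3158, 3177, 3225, 3238, 3269, 3274, 3312, 3349, 3370, 3395, 3416, 3428, 3468, 3474, 3489, 3610, 3621, 3660, 3665, 3682, 3715, 3732, 3752, 3846, 3849, 3888, 4032],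
  [63, 207, 245, 250, 343, 366, 377, 411, 429, 438, 476, 483, 605, 619, 630, 670, 679, 697, 723, 748, 783, 819, 828, 858, 869, 917, 938, 966, 969, 1008, 1118, 1133, 1139, 1175, 1195, 1212, 1241, 1254, 1309, 1319, 1338, 1355, 1396, 1422, 1457, 1477, 1490, 1512, 1563, 1582, 1589, 1607, 1656, 1677, 1714, 1738, 1748, 1761, 1814, 1833, 1868, 1873, 1890, 1923, 1944, 1956, 2139, 2151, 2172, 2205, 2222, 2227, 2262, 2281, 2334, 2347, 2357, 2381, 2418, 2439, 2488, 2506, 2513, 2532, 2583, 2605, 2618, 2638, 2673, 2699, 2740, 2757, 2776, 2786, 2841, 2854, 2883, 2900, 2920, 2956, 2962, 2977, 3087, 3126, 3129, 3157, 3178, 3226, 3237, 3267, 3276, 3312, 3347, 3372, 3398, 3416, 3425, 3465, 3476, 3490, 3612, 3619, 3657, 3666, 3684, 3718, 3729, 3752, 3845, 3850, 3888, 4032],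
  [63, 207, 246, 249, 343, 365, 378, 411, 430, 437, 476, 483, 606, 619, 629, 669, 679, 698, 723, 748, 783, 819, 828, 857, 870, 918, 937, 965, 970, 1008, 1117, 1134, 1139, 1175, 1195, 1212, 1242, 1253, 1310, 1319, 1337, 1355, 1396, 1421, 1458, 1478, 1489, 1512, 1563, 1581, 1590, 1607, 1656, 1678, 1713, 1737, 1748, 1762, 1813, 1834, 1868, 1874, 1889, 1923, 1944, 1956, 2139, 2151, 2172, 2206, 2221, 2227, 2261, 2282, 2333, 2347, 2358, 2382, 2417, 2439, 2488, 2505, 2514, 2532, 2583, 2606, 2617, 2637, 2674, 2699, 2740, 2758, 2776, 2785, 2842, 2853, 2883, 2900, 2920, 2956, 2961, 2978, 3087, 3125, 3130, 3158, 3177, 3225, 3238, 3267, 3276, 3312, 3347, 3372, 3397, 3416, 3426, 3466, 3476, 3489, 3612, 3619, 3658, 3665, 3684, 3717, 3730, 3752, 3846, 3849, 3888, 4032]]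

/-- The standard list of blocks. -/
def L : List Nat := F.getD 0 []

set_option maxRecDepth 100000 in
/-- The search tree. -/
def tree : Tree :=
  .split 31 [] (.ccons 5 (.arb (.split 79 [(4, 63, 6), (5, 63, 6)] (.ccons 7 (.split 87 [(3, 207, 4), (5, 63, 6), (7, 207, 4)] (.ccons 8 (.split 271 [(4, 343, 3), (5, 63, 8), (6, 343, 3), (7, 207, 8)] (.ccons 9 (.split 151 [(3, 207, 4), (5, 63, 7), (6, 343, 7), (8, 343, 7)] (.ccons 9 (.split 103 [(3, 207, 5), (4, 343, 5), (7, 207, 5), (8, 343, 5)] (.ccons 9 (.split 167 [(3, 207, 5), (4, 663, 5), (6, 615, 7), (9, 615, 7)] (.ccons 8 (.split 91 [(2, 343, 3), (5, 63, 6), (7, 207, 4), (8, 343, 3)] (.ccons 9 (.split 93 [(1, 603, 2), (5, 63, 6), (7, 207, 4), (8, 343, 3), (9, 603, 2)] (.ccons 10 (.split 1039 [(4, 1117, 1), (5, 63, 10), (6, 1117, 1), (7, 207, 10), (8, 783, 10), (9, 783, 10)] (.ccons 11 (.split 1047 [(3, 3087,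 4), (5, 63, 10), (6, 1117, 1), (7, 663, 10), (8, 343, 10), (9, 663, 10), (11, 3087, 4)] .cnil) .cnil)) .cnil)) (.ccons 10 (.split 1039 [(4, 1115, 2), (5, 63, 10), (6, 1115, 2), (7, 207, 10), (8, 783, 10), (9, 783, 10)] (.ccons 11 (.split 1047 [(3, 3087, 4), (5, 63, 10), (6, 1115, 2), (7, 663, 10), (8, 343, 10), (9, 663, 10), (11, 3087, 4)] .cnil) .cnil)) .cnil))) (.ccons 10 (.split 1039 [(4, 63, 10), (5, 1191, 3), (6, 207, 10), (7, 1191, 3), (8, 783, 10), (9, 783, 10)] (.ccons 11 (.split 1047 [(3, 3087, 4), (5, 1191, 4), (6, 343, 10), (7, 1191, 4), (8, 343, 10), (9, 663, 10), (11, 3087, 4)] .cnil) .cnil)) .cnil))) (.ccons 10 (.split 1039 [(4, 63, 10), (5, 1127, 3), (6, 1127, 3), (7, 207, 10), (8, 783, 10), (9, 783, 10)] (.ccons 11 (.split 1047 [(3, 3087, 4), (5, 1127, 4), (6, 1127, 4), (7, 663, 10), (8, 343, 10), (9, 663, 10), (11, 3087, 4)] .cnil) .cnil)) .cnil)))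 (.ccons 10 (.split 1039 [(4, 1175, 3), (5, 63, 10), (6, 207, 10), (7, 1175, 3), (8, 783, 10), (9, 783, 10)] (.ccons 11 (.split 535 [(3, 783, 4), (5, 63, 9), (6, 343, 9), (7, 1175, 9), (8, 783, 4), (10, 1175, 9)] (.ccons 11 (.split 2119 [(3, 3087, 6), (4, 2583, 6), (7, 207, 11), (8, 343, 11), (9, 2583, 6), (10, 3087, 6)] (.ccons 5 (.split 583 [(3, 783, 6), (4, 2583, 6), (5, 2151, 9), (7, 207, 9), (8, 783, 6), (11, 2151, 9)] (.ccons 10 (.split 551 [(3, 783, 5), (4, 2583, 5), (6, 1607, 5), (8, 783, 5), (10, 1607, 5), (11, 2151, 9)] (.ccons 7 (.split 295 [(3, 783, 5), (4, 343, 5), (6, 2151, 8), (7, 679, 8), (9, 679, 8), (11, 2151, 8)] (.ccons 10 (.split 391 [(3, 783, 7), (4, 1175, 8), (5, 1319, 7), (6, 343, 7), (9, 679, 8), (10, 1319, 7)] (.ccons 11 (.split 91 [(2, 343, 3), (5, 63, 6), (7, 207, 4), (8, 343, 3)] (.ccons 9 (.split 1051 [(2, 3087, 4), (5, 63, 10), (6,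 603, 10), (7, 1175, 3), (9, 603, 10), (11, 3087, 4)] (.ccons 8 (.split 155 [(2, 1175, 3), (5, 63, 7), (6, 603, 7), (8, 1307, 7), (9, 603, 7), (10, 1307, 7)] (.ccons 11 (.split 1099 [(2, 1607, 3), (4, 1307, 6), (7, 207, 10), (8, 1307, 6), (9, 603, 10), (11, 3087, 6)] (.ccons 5 (.split 171 [(2, 679, 3), (4, 2203, 5), (6, 1131, 7), (9, 679, 3), (10, 1131, 7), (11, 2203, 5)] (.ccons 8 (.split 555 [(2, 679, 3), (4, 603, 5), (6, 1131, 9), (7, 427, 9), (8, 427, 9), (10, 1131, 9)] (.ccons 11 (.split 331 [(2, 783, 6), (4, 1307, 6), (5, 427, 6), (7, 427, 6), (9, 603, 8), (10, 1131, 8)] (.ccons 11 (.split 651 [(2, 679, 3), (4, 2203, 9), (5, 2603, 7), (6, 603, 7), (8, 427, 9), (11, 2603, 7)] (.ccons 10 (.split 115 [(2, 2151, 4), (3, 1131, 4), (8, 343, 5), (9, 603, 5), (10, 1131, 4), (11, 2151, 4)] (.ccons 7 (.split 1107 [(2, 1607, 4), (3, 1131, 4), (5, 243, 10), (7, 243,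 10), (8, 1307, 6), (9, 603, 10)] (.ccons 11 (.split 1075 [(2, 1319, 4), (3, 1131, 4), (6, 3155, 5), (7, 243, 10), (8, 1307, 5), (11, 3155, 5)] (.ccons 9 (.split 307 [(2, 1319, 4), (3, 427, 4), (6, 243, 8), (7, 243, 8), (9, 1587, 8), (10, 1587, 8)] (.ccons 11 (.split 403 [(2, 2439, 4), (3, 427, 4), (5, 2355, 7), (6, 243, 8), (10, 1307, 7), (11, 2355, 7)] (.ccons 9 (.split 355 [(2, 1319, 6), (3, 2379, 5), (4, 2355, 6), (7, 243, 8), (10, 1131, 8), (11, 2355, 6)] (.ccons 9 (.split 1187 [(2, 1319, 7), (3, 1675, 5), (4, 1587, 7), (6, 243, 10), (8, 427, 10), (9, 1587, 7)] (.ccons 11 (.split 451 [(2, 2439, 6), (3, 2379, 7), (4, 915, 6), (5, 867, 7), (9, 867, 7), (11, 2379, 7)] (.ccons 10 (.split 707 [(2, 679, 6), (3, 1675, 6), (4, 915, 6), (5, 867, 7), (8, 1475, 9), (10, 1475, 9)] (.ccons 11 (.split 1795 [(2, 1319, 9), (3, 1675, 8), (4, 915, 10), (5, 867, 10), (6, 1475,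 9), (7, 1475, 9)] (.ccons 11 (.split 93 [(1, 603, 2), (5, 63, 6), (7, 207, 4), (8, 343, 3), (9, 603, 2)] (.ccons 10 (.split 541 [(1, 603, 2), (5, 63, 9), (6, 1117, 9), (8, 783, 4), (10, 1117, 9), (11, 2583, 3)] (.ccons 7 (.split 285 [(1, 1307, 2), (5, 63, 8), (6, 1117, 8), (7, 669, 8), (9, 669, 8), (10, 1117, 8)] (.ccons 11 (.split 301 [(1, 427, 2), (4, 2333, 5), (7, 427, 2), (9, 783, 5), (10, 1319, 3), (11, 2333, 5)] (.ccons 6 (.split 557 [(1, 2603, 2), (4, 669, 5), (6, 365, 9), (7, 669, 5), (8, 365, 9), (11, 2603, 2)] (.ccons 10 (.split 173 [(1, 427, 2), (4, 669, 5), (6, 365, 7), (8, 365, 7), (9, 1581, 7), (10, 1581, 7)] (.ccons 11 (.split 589 [(1, 603, 2), (4, 669, 6), (5, 1581, 6), (7, 669, 6), (8, 365, 9), (10, 1581, 6)] (.ccons 11 (.split 397 [(1, 427, 2), (4, 2333, 7), (5, 2221, 8), (6, 365, 7), (9, 669, 8), (11, 2221, 8)] (.ccons 10 (.split 117 [(1, 243,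 2), (3, 365, 4), (7, 243, 2), (8, 365, 4), (10, 1117, 5), (11, 2151, 4)] (.ccons 9 (.split 181 [(1, 243, 2), (3, 2221, 4), (6, 629, 7), (9, 629, 7), (10, 1175, 5), (11, 2221, 4)] (.ccons 8 (.split 1077 [(1, 1587, 2), (3, 1581, 4), (6, 629, 10), (7, 437, 10), (8, 437, 10), (9, 629, 10)] (.ccons 11 (.split 213 [(1, 243, 2), (3, 669, 6), (5, 437, 6), (8, 437, 6), (9, 629, 7), (10, 1117, 7)] (.ccons 11 (.split 789 [(1, 915, 2), (3, 2333, 9), (5, 437, 9), (6, 629, 8), (7, 437, 9), (11, 2333, 9)] (.ccons 10 (.split 229 [(1, 243, 2), (3, 2221, 6), (4, 2261, 5), (8, 437, 6), (9, 629, 7), (11, 2261, 5)] (.ccons 10 (.split 805 [(1, 867, 2), (3, 1581, 8), (4, 1813, 5), (6, 629, 8), (7, 437, 9), (10, 1813, 5)] (.ccons 11 (.split 453 [(1, 1475, 2), (3, 1421, 6), (4, 2261, 8), (5, 1253, 8), (10, 1253, 8), (11, 2261, 8)] (.ccons 9 (.split 1349 [(1, 1475, 2), (3, 1421, 6), (4,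 1813, 6), (5, 1253, 8), (7, 965, 10), (9, 965, 10)] (.ccons 11 (.split 1669 [(1, 1675, 2), (3, 1421, 9), (4, 1813, 7), (5, 1253, 9), (6, 965, 10), (8, 965, 10)] (.ccons 11 (.split 121 [(1, 243, 3), (2, 629, 3), (7, 243, 3), (8, 365, 4), (9, 629, 3), (10, 1117, 5)] (.ccons 11 (.split 185 [(1, 243, 3), (2, 437, 3), (6, 2169, 7), (8, 437, 3), (9, 669, 5), (11, 2169, 7)] (.ccons 10 (.split 313 [(1, 2355, 3), (2, 437, 3), (6, 2169, 8), (7, 1209, 8), (10, 1209, 8), (11, 2169, 8)] (.ccons 9 (.split 217 [(1, 243, 3), (2, 2261, 3), (5, 1209, 6), (9, 669, 6), (10, 1209, 6), (11, 2169, 7)] (.ccons 8 (.split 1561 [(1, 1587, 3), (2, 1813, 3), (5, 825, 10), (6, 1117, 9), (7, 1209, 9), (8, 825, 10)] (.ccons 11 (.split 233 [(1, 243, 3), (2, 1253, 3), (4, 473, 5), (8, 473, 5), (10, 1209, 6), (11, 2169, 7)] (.ccons 9 (.split 1321 [(1, 427, 10), (2, 1421, 5), (4, 825, 10), (6, 365,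 10), (7, 1209, 8), (9, 825, 10)] (.ccons 11 (.split 1225 [(1, 1475, 3), (2, 1253, 3), (4, 473, 10), (5, 745, 10), (8, 473, 10), (9, 745, 10)] (.ccons 11 (.split 841 [(1, 867, 3), (2, 965, 3), (4, 473, 9), (5, 745, 8), (7, 745, 8), (11, 2637, 8)] (.ccons 10 (.split 905 [(1, 915, 3), (2, 965, 3), (4, 473, 9), (5, 745, 8), (6, 1865, 7), (10, 1865, 7)] (.ccons 11 (.split 369 [(1, 867, 4), (2, 437, 6), (3, 473, 5), (7, 473, 5), (9, 825, 6), (11, 2169, 8)] (.ccons 10 (.split 689 [(1, 915, 5), (2, 437, 9), (3, 745, 4), (6, 745, 4), (8, 825, 7), (10, 1209, 9)] (.ccons 11 (.split 721 [(1, 2755, 4), (2, 965, 4), (3, 745, 4), (5, 2737, 6), (8, 473, 9), (11, 2737, 6)] (.ccons 10 (.split 849 [(1, 867, 4), (2, 965, 4), (3, 1865, 4), (5, 1393, 9), (7, 1745, 8), (10, 1745, 8)] (.ccons 11 (.split 1425 [(1, 1475, 4), (2, 1813, 7), (3, 473, 10), (5, 1393, 7), (6, 1745, 8), (9, 1745,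 8)] (.ccons 11 (.split 481 [(1, 1475, 5), (2, 965, 5), (3, 745, 8), (4, 1393, 7), (9, 745, 8), (10, 1393, 7)] (.ccons 11 (.split 1633 [(1, 867, 10), (2, 1253, 9), (3, 1865, 5), (4, 1745, 5), (7, 1745, 5), (8, 1393, 9)] (.ccons 11 (.split 929 [(1, 867, 7), (2, 965, 5), (3, 2953, 5), (4, 2737, 8), (6, 2529, 9), (11, 2529, 9)] (.ccons 10 (.split 94 [(0, 1117, 1), (5, 63, 6), (7, 207, 4), (8, 343, 3), (9, 603, 2), (10, 1117, 1)] (.ccons 11 (.split 158 [(0, 669, 1), (5, 63, 7), (6, 2142, 7), (9, 669, 1), (10, 1175, 3), (11, 2142, 7)] (.ccons 8 (.split 542 [(0, 669, 1), (5, 63, 9), (6, 2142, 9), (7, 414, 9), (8, 414, 9), (11, 2142, 9)] (.ccons 10 (.split 110 [(0, 365, 1), (4, 2142, 5), (7, 207, 5), (8, 365, 1), (10, 1131, 2), (11, 2142, 5)] (.ccons 9 (.split 174 [(0, 2221, 1), (4, 414, 5), (6, 622, 7), (8, 414, 5), (9, 622, 7), (11, 2221, 1)] (.ccons 10 (.split 302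 [(0, 365, 1), (4, 414, 5), (6, 622, 8), (7, 1198, 8), (9, 622, 8), (10, 1198, 8)] (.ccons 11 (.split 334 [(0, 365, 1), (4, 414, 6), (5, 2350, 6), (7, 414, 6), (9, 622, 8), (11, 2350, 6)] (.ccons 10 (.split 654 [(0, 669, 1), (4, 1566, 7), (5, 1198, 9), (6, 622, 7), (8, 414, 9), (10, 1198, 9)] (.ccons 11 (.split 118 [(0, 629, 1), (3, 622, 4), (7, 243, 2), (8, 343, 5), (9, 622, 4), (11, 2142, 5)] (.ccons 10 (.split 182 [(0, 437, 1), (3, 1198, 4), (6, 1142, 7), (8, 414, 5), (9, 679, 4), (10, 1142, 7)] (.ccons 11 (.split 310 [(0, 437, 1), (3, 2350, 4), (6, 1142, 8), (7, 2230, 8), (10, 1142, 8), (11, 2230, 8)] (.ccons 9 (.split 214 [(0, 2261, 1), (3, 414, 6), (5, 2230, 6), (8, 414, 6), (10, 1142, 7), (11, 2230, 6)] (.ccons 9 (.split 1302 [(0, 1813, 1), (3, 1358, 4), (5, 822, 10), (6, 1142, 8), (7, 414, 10), (9, 822, 10)] (.ccons 11 (.split 230 [(0, 1253, 1), (3, 1198,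 6), (4, 726, 5), (9, 726, 5), (10, 1142, 7), (11, 2230, 6)] (.ccons 8 (.split 1574 [(0, 1581, 1), (3, 1198, 9), (4, 822, 10), (6, 1142, 9), (7, 1198, 9), (8, 822, 10)] (.ccons 11 (.split 1222 [(0, 1253, 1), (3, 1358, 7), (4, 726, 10), (5, 486, 10), (8, 486, 10), (9, 726, 10)] (.ccons 11 (.split 838 [(0, 965, 1), (3, 1358, 9), (4, 726, 8), (5, 486, 9), (7, 486, 9), (10, 1358, 9)] (.ccons 11 (.split 902 [(0, 965, 1), (3, 2702, 8), (4, 726, 8), (5, 486, 9), (6, 2886, 7), (11, 2886, 7)] (.ccons 10 (.split 122 [(0, 2169, 1), (2, 1142, 3), (7, 243, 3), (9, 622, 4), (10, 1142, 3), (11, 2142, 5)] (.ccons 8 (.split 186 [(0, 1209, 1), (2, 2230, 3), (6, 378, 7), (8, 378, 7), (10, 1198, 4), (11, 2230, 3)] (.ccons 9 (.split 1082 [(0, 1209, 1), (2, 1142, 3), (6, 378, 10), (7, 698, 10), (8, 378, 10), (9, 698, 10)] (.ccons 11 (.split 218 [(0, 473, 1), (2, 726, 3), (5, 698, 6),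 (8, 378, 7), (9, 698, 6), (11, 2142, 7)] (.ccons 10 (.split 794 [(0, 825, 1), (2, 822, 3), (5, 698, 8), (6, 378, 9), (7, 698, 8), (10, 1566, 8)] (.ccons 11 (.split 234 [(0, 745, 1), (2, 486, 3), (4, 1242, 5), (8, 378, 7), (9, 698, 6), (10, 1242, 5)] (.ccons 11 (.split 810 [(0, 825, 1), (2, 822, 3), (4, 2842, 5), (6, 378, 9), (7, 698, 8), (11, 2842, 5)] (.ccons 10 (.split 458 [(0, 473, 1), (2, 486, 3), (4, 1242, 8), (5, 2282, 8), (10, 1242, 8), (11, 2282, 8)] (.ccons 9 (.split 1610 [(0, 1865, 1), (2, 1358, 9), (4, 1242, 9), (5, 1834, 6), (7, 970, 10), (8, 970, 10)] (.ccons 11 (.split 1418 [(0, 1421, 1), (2, 1926, 3), (4, 1242, 8), (5, 1834, 7), (6, 970, 10), (9, 970, 10)] (.ccons 11 (.split 626 [(0, 629, 1), (2, 726, 5), (3, 698, 6), (7, 698, 6), (8, 378, 9), (10, 1142, 9)] (.ccons 11 (.split 434 [(0, 437, 1), (2, 486, 4), (3, 698, 8), (6, 378, 7), (9, 698, 8),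 (11, 2230, 8)] (.ccons 10 (.split 466 [(0, 473, 1), (2, 486, 4), (3, 970, 4), (5, 1458, 6), (9, 970, 4), (10, 1458, 6)] (.ccons 11 (.split 850 [(0, 2897, 1), (2, 2886, 4), (3, 970, 4), (5, 2674, 8), (7, 2514, 9), (11, 2514, 9)] (.ccons 10 (.split 1682 [(0, 1745, 1), (2, 1926, 4), (3, 1242, 9), (5, 1458, 9), (6, 1874, 7), (8, 1874, 7)] (.ccons 11 (.split 738 [(0, 745, 1), (2, 486, 9), (3, 970, 5), (4, 2674, 7), (8, 970, 5), (11, 2674, 7)] (.ccons 10 (.split 1378 [(0, 1393, 1), (2, 486, 10), (3, 1834, 6), (4, 1874, 5), (7, 1762, 8), (9, 1762, 8)] (.ccons 11 (.split 930 [(0, 1953, 1), (2, 1926, 5), (3, 970, 5), (4, 1458, 9), (6, 1762, 8), (10, 1762, 8)] (.ccons 11 (.split 124 [(0, 2169, 2), (1, 378, 2), (8, 378, 2), (9, 622, 4), (10, 1142, 3), (11, 2142, 5)] (.ccons 7 (.split 316 [(0, 825, 2), (1, 378, 2), (6, 252, 8), (7, 252, 8), (9, 822, 3), (11, 2350, 4)] (.ccons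 10 (.split 572 [(0, 825, 2), (1, 698, 2), (6, 252, 9), (7, 252, 9), (8, 1340, 9), (10, 1340, 9)] (.ccons 11 (.split 348 [(0, 473, 2), (1, 378, 2), (5, 1340, 6), (7, 252, 8), (10, 1340, 6), (11, 2142, 8)] (.ccons 9 (.split 1180 [(0, 1209, 2), (1, 1242, 2), (5, 1340, 7), (6, 252, 10), (8, 1340, 7), (9, 1566, 7)] (.ccons 11 (.split 1132 [(0, 1253, 3), (1, 1142, 3), (4, 1340, 6), (7, 252, 10), (8, 1340, 6), (9, 622, 10)] (.ccons 11 (.split 428 [(0, 437, 3), (1, 486, 3), (4, 1340, 7), (6, 252, 8), (10, 1340, 7), (11, 2350, 7)] (.ccons 9 (.split 460 [(0, 473, 2), (1, 970, 2), (4, 860, 7), (5, 940, 6), (9, 940, 6), (10, 1358, 7)] (.ccons 11 (.split 716 [(0, 745, 2), (1, 970, 2), (4, 860, 7), (5, 940, 6), (8, 2508, 9), (11, 2508, 9)] (.ccons 10 (.split 1804 [(0, 1865, 2), (1, 1834, 2), (4, 860, 10), (5, 940, 10), (6, 1740, 8), (7, 1740, 8)] (.ccons 11 (.split 372 [(0,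 1393, 2), (1, 378, 2), (3, 860, 5), (7, 252, 8), (9, 860, 5), (10, 1340, 6)] (.ccons 11 (.split 692 [(0, 2737, 2), (1, 698, 2), (3, 940, 4), (6, 252, 9), (8, 940, 4), (11, 2620, 7)] (.ccons 10 (.split 468 [(0, 473, 2), (1, 2514, 2), (3, 2508, 4), (5, 2420, 7), (9, 860, 7), (11, 2420, 7)] (.ccons 10 (.split 1620 [(0, 1745, 2), (1, 1874, 2), (3, 1740, 4), (5, 1716, 6), (7, 1492, 9), (8, 1492, 9)] (.ccons 11 (.split 916 [(0, 965, 4), (1, 1926, 4), (3, 940, 4), (5, 1716, 8), (6, 1492, 9), (10, 1492, 9)] (.ccons 11 (.split 740 [(0, 745, 2), (1, 1762, 2), (3, 1740, 5), (4, 1716, 6), (8, 940, 6), (10, 1716, 6)] (.ccons 11 (.split 868 [(0, 965, 5), (1, 2886, 5), (3, 940, 6), (4, 2420, 9), (7, 2788, 8), (11, 2788, 8)] (.ccons 10 (.split 1444 [(0, 1953, 2), (1, 1458, 2), (3, 940, 10), (4, 1492, 5), (6, 1892, 7), (9, 1892, 7)] (.ccons 11 (.split 632 [(0, 745, 4), (1, 2674,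 3), (2, 860, 5), (7, 252, 9), (8, 860, 5), (11, 2620, 6)] (.ccons 10 (.split 440 [(0, 473, 5), (1, 1458, 3), (2, 940, 4), (6, 252, 8), (9, 940, 4), (10, 1340, 7)] (.ccons 11 (.split 728 [(0, 1745, 3), (1, 970, 4), (2, 1740, 4), (5, 1656, 7), (8, 860, 7), (10, 1656, 7)] (.ccons 11 (.split 1368 [(0, 1393, 3), (1, 1874, 3), (2, 1492, 3), (5, 1656, 8), (7, 1492, 3), (9, 1656, 8)] (.ccons 11 (.split 920 [(0, 2953, 4), (1, 970, 4), (2, 2964, 3), (5, 2488, 9), (6, 2776, 8), (11, 2776, 8)] (.ccons 10 (.split 488 [(0, 2529, 3), (1, 970, 5), (2, 2508, 5), (4, 2488, 6), (9, 940, 6), (11, 2488, 6)] (.ccons 10 (.split 872 [(0, 1865, 5), (1, 970, 5), (2, 1892, 3), (4, 1656, 8), (7, 1512, 9), (10, 1512, 9)] (.ccons 11 (.split 1704 [(0, 1953, 3), (1, 1762, 3), (2, 1716, 3), (4, 1944, 5), (6, 1512, 9), (8, 1512, 9)] (.ccons 11 (.split 496 [(0, 2529, 4), (1, 2514, 5), (2, 1492,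 5), (3, 1512, 4), (10, 1512, 4), (11, 2488, 6)] (.ccons 9 (.split 1264 [(0, 1745, 5), (1, 1762, 4), (2, 1492, 5), (3, 1512, 4), (8, 1008, 10), (9, 1008, 10)] (.ccons 11 (.split 1840 [(0, 1953, 4), (1, 1874, 5), (2, 1892, 4), (3, 1944, 5), (6, 1008, 10), (7, 1008, 10)] (.ccons 11 (.split 1984 [(0, 1953, 6), (1, 1762, 8), (2, 1892, 7), (3, 1512, 9), (4, 1008, 10), (5, 1008, 10)] (.ccons 11 (.leaf 0) .cnil)) .cnil)) .cnil)) .cnil)) .cnil)) .cnil)) .cnil)) .cnil)) .cnil)) .cnil)) .cnil)) .cnil)) .cnil)) .cnil)) .cnil)) .cnil)) .cnil)) .cnil)) .cnil)) .cnil)) .cnil)) .cnil)) .cnil)) .cnil)) .cnil)) .cnil)) .cnil)) .cnil)) .cnil)) .cnil)) .cnil)) .cnil)) .cnil)) .cnil)) .cnil)) .cnil)) .cnil)) .cnil)) .cnil)) .cnil)) .cnil)) .cnil)) .cnil)) .cnil)) .cnil)) .cnil)) .cnil)) .cnil)) .cnil)) .cnil)) .cnil)) .cnil)) .cnil)) .cnil)) .cnil)) .cnil)) .cnil)) .cnil)) .cnil))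 .cnil)) .cnil)) .cnil)) .cnil)) .cnil)) .cnil)) .cnil)) .cnil)) .cnil)) .cnil)) .cnil)) .cnil)) .cnil)) .cnil)) .cnil)) .cnil)) .cnil)) .cnil)) .cnil)) .cnil)) .cnil)) .cnil)) .cnil)) .cnil)) .cnil)) .cnil)) .cnil)) .cnil)) .cnil)) .cnil)) .cnil)) .cnil)) .cnil)) .cnil)) .cnil)) .cnil)) .cnil)) .cnil)) .cnil)) .cnil)) .cnil)) .cnil)) (.ccons 11 (.split 285 [(1, 1307, 2), (5, 63, 8), (6, 2141, 8), (9, 783, 4), (10, 1307, 2), (11, 2141, 8)] (.ccons 7 (.split 541 [(1, 603, 2), (5, 63, 9), (6, 2141, 9), (7, 413, 9), (8, 413, 9), (11, 2141, 9)] (.ccons 10 (.split 557 [(1, 2603, 2), (4, 1565, 5), (7, 679, 3), (8, 783, 5), (10, 1565, 5), (11, 2603, 2)] (.ccons 6 (.split 301 [(1, 427, 2), (4, 413, 5), (6, 621, 8), (7, 413, 5), (9, 621, 8), (10, 1319, 3)] (.ccons 11 (.split 173 [(1, 427, 2), (4, 413, 5), (6, 621, 7), (8, 2349, 7), (9, 621, 7), (11, 2349, 7)] (.ccons 10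 (.split 333 [(1, 2379, 2), (4, 413, 6), (5, 2349, 6), (7, 413, 6), (9, 621, 8), (11, 2349, 6)] (.ccons 10 (.split 653 [(1, 1675, 2), (4, 1565, 7), (5, 1197, 9), (6, 621, 7), (8, 413, 9), (10, 1197, 9)] (.ccons 11 (.split 117 [(1, 243, 2), (3, 621, 4), (7, 243, 2), (8, 343, 5), (9, 621, 4), (11, 2141, 5)] (.ccons 10 (.split 181 [(1, 243, 2), (3, 1197, 4), (6, 1141, 7), (8, 413, 5), (9, 679, 4), (10, 1141, 7)] (.ccons 11 (.split 309 [(1, 2355, 2), (3, 2349, 4), (6, 1141, 8), (7, 2229, 8), (10, 1141, 8), (11, 2229, 8)] (.ccons 9 (.split 213 [(1, 243, 2), (3, 413, 6), (5, 2229, 6), (8, 413, 6), (10, 1141, 7), (11, 2229, 6)] (.ccons 9 (.split 1301 [(1, 1307, 2), (3, 1357, 4), (5, 821, 10), (6, 1141, 8), (7, 413, 10), (9, 821, 10)] (.ccons 11 (.split 229 [(1, 243, 2), (3, 1197, 6), (4, 725, 5), (9, 725, 5), (10, 1141, 7), (11, 2229, 6)] (.ccons 8 (.split 1573 [(1, 1587,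 2), (3, 1197, 9), (4, 821, 10), (6, 1141, 9), (7, 1197, 9), (8, 821, 10)] (.ccons 11 (.split 1221 [(1, 1475, 2), (3, 1357, 7), (4, 725, 10), (5, 485, 10), (8, 485, 10), (9, 725, 10)] (.ccons 11 (.split 837 [(1, 867, 2), (3, 1357, 9), (4, 725, 8), (5, 485, 9), (7, 485, 9), (10, 1357, 9)] (.ccons 11 (.split 901 [(1, 915, 2), (3, 2701, 8), (4, 725, 8), (5, 485, 9), (6, 2885, 7), (11, 2885, 7)] (.ccons 10 (.split 121 [(1, 243, 3), (2, 1141, 3), (7, 243, 3), (9, 621, 4), (10, 1141, 3), (11, 2141, 5)] (.ccons 8 (.split 185 [(1, 243, 3), (2, 2229, 3), (6, 377, 7), (8, 377, 7), (10, 1197, 4), (11, 2229, 3)] (.ccons 9 (.split 1081 [(1, 1587, 3), (2, 1141, 3), (6, 377, 10), (7, 697, 10), (8, 377, 10), (9, 697, 10)] (.ccons 11 (.split 217 [(1, 243, 3), (2, 725, 3), (5, 697, 6), (8, 377, 7), (9, 697, 6), (11, 2141, 7)] (.ccons 10 (.split 793 [(1, 915, 3), (2, 821, 3), (5,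 697, 8), (6, 377, 9), (7, 697, 8), (10, 1565, 8)] (.ccons 11 (.split 233 [(1, 243, 3), (2, 485, 3), (4, 1241, 5), (8, 377, 7), (9, 697, 6), (10, 1241, 5)] (.ccons 11 (.split 809 [(1, 867, 3), (2, 821, 3), (4, 2841, 5), (6, 377, 9), (7, 697, 8), (11, 2841, 5)] (.ccons 10 (.split 457 [(1, 1475, 3), (2, 485, 3), (4, 1241, 8), (5, 2281, 8), (10, 1241, 8), (11, 2281, 8)] (.ccons 9 (.split 1609 [(1, 1675, 6), (2, 1357, 9), (4, 1241, 9), (5, 1833, 6), (7, 969, 10), (8, 969, 10)] (.ccons 11 (.split 1417 [(1, 1475, 3), (2, 1925, 3), (4, 1241, 8), (5, 1833, 7), (6, 969, 10), (9, 969, 10)] (.ccons 11 (.split 625 [(1, 867, 4), (2, 725, 5), (3, 697, 6), (7, 697, 6), (8, 377, 9), (10, 1141, 9)] (.ccons 11 (.split 433 [(1, 915, 5), (2, 485, 4), (3, 697, 8), (6, 377, 7), (9, 697, 8), (11, 2229, 8)] (.ccons 10 (.split 465 [(1, 1475, 4), (2, 485, 4), (3, 969, 4), (5, 1457, 6),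 (9, 969, 4), (10, 1457, 6)] (.ccons 11 (.split 849 [(1, 867, 4), (2, 2885, 4), (3, 969, 4), (5, 2673, 8), (7, 2513, 9), (11, 2513, 9)] (.ccons 10 (.split 1681 [(1, 915, 10), (2, 1925, 4), (3, 1241, 9), (5, 1457, 9), (6, 1873, 7), (8, 1873, 7)] (.ccons 11 (.split 737 [(1, 2755, 5), (2, 485, 9), (3, 969, 5), (4, 2673, 7), (8, 969, 5), (11, 2673, 7)] (.ccons 10 (.split 1377 [(1, 1475, 5), (2, 485, 10), (3, 1833, 6), (4, 1873, 5), (7, 1761, 8), (9, 1761, 8)] (.ccons 11 (.split 929 [(1, 867, 7), (2, 1925, 5), (3, 969, 5), (4, 1457, 9), (6, 1761, 8), (10, 1761, 8)] (.ccons 11 (.split 94 [(0, 2141, 1), (5, 63, 6), (7, 207, 4), (8, 343, 3), (9, 603, 2), (11, 2141, 1)] (.ccons 10 (.split 158 [(0, 413, 1), (5, 63, 7), (6, 1118, 7), (8, 413, 1), (10, 1118, 7), (11, 2203, 2)] (.ccons 9 (.split 286 [(0, 413, 1), (5, 63, 8), (6, 1118, 8), (7, 670, 8), (9, 670, 8), (10, 1118,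 8)] (.ccons 11 (.split 110 [(0, 621, 1), (4, 1118, 5), (7, 207, 5), (9, 621, 1), (10, 1118, 5), (11, 2151, 3)] (.ccons 8 (.split 174 [(0, 1197, 1), (4, 670, 5), (6, 366, 7), (8, 366, 7), (9, 670, 5), (10, 1197, 1)] (.ccons 11 (.split 558 [(0, 621, 1), (4, 670, 5), (6, 366, 9), (7, 2222, 9), (8, 366, 9), (11, 2222, 9)] (.ccons 10 (.split 590 [(0, 621, 1), (4, 670, 6), (5, 1582, 6), (7, 670, 6), (8, 366, 9), (10, 1582, 6)] (.ccons 11 (.split 398 [(0, 413, 1), (4, 2334, 7), (5, 2222, 8), (6, 366, 7), (9, 670, 8), (11, 2222, 8)] (.ccons 10 (.split 118 [(0, 1141, 1), (3, 366, 4), (7, 243, 2), (8, 366, 4), (10, 1118, 5), (11, 2151, 4)] (.ccons 9 (.split 182 [(0, 2229, 1), (3, 2222, 4), (6, 630, 7), (9, 630, 7), (10, 1175, 5), (11, 2222, 4)] (.ccons 8 (.split 1078 [(0, 1141, 1), (3, 1582, 4), (6, 630, 10), (7, 438, 10), (8, 438, 10), (9, 630, 10)] (.ccons 11 (.split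 214 [(0, 725, 1), (3, 670, 6), (5, 438, 6), (8, 438, 6), (9, 630, 7), (10, 1118, 7)] (.ccons 11 (.split 790 [(0, 821, 1), (3, 2334, 9), (5, 438, 9), (6, 630, 8), (7, 438, 9), (11, 2334, 9)] (.ccons 10 (.split 230 [(0, 485, 1), (3, 2222, 6), (4, 2262, 5), (8, 438, 6), (9, 630, 7), (11, 2262, 5)] (.ccons 10 (.split 806 [(0, 821, 1), (3, 1582, 8), (4, 1814, 5), (6, 630, 8), (7, 438, 9), (10, 1814, 5)] (.ccons 11 (.split 454 [(0, 485, 1), (3, 1422, 6), (4, 2262, 8), (5, 1254, 8), (10, 1254, 8), (11, 2262, 8)] (.ccons 9 (.split 1350 [(0, 1357, 1), (3, 1422, 6), (4, 1814, 6), (5, 1254, 8), (7, 966, 10), (9, 966, 10)] (.ccons 11 (.split 1670 [(0, 1925, 1), (3, 1422, 9), (4, 1814, 7), (5, 1254, 9), (6, 966, 10), (8, 966, 10)] (.ccons 11 (.split 122 [(0, 377, 1), (2, 630, 3), (7, 243, 3), (8, 366, 4), (9, 630, 3), (10, 1118, 5)] (.ccons 11 (.split 186 [(0, 697, 1), (2,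 438, 3), (6, 2170, 7), (8, 438, 3), (9, 670, 5), (11, 2170, 7)] (.ccons 10 (.split 314 [(0, 377, 1), (2, 438, 3), (6, 2170, 8), (7, 1210, 8), (10, 1210, 8), (11, 2170, 8)] (.ccons 9 (.split 218 [(0, 1241, 1), (2, 2262, 3), (5, 1210, 6), (9, 670, 6), (10, 1210, 6), (11, 2170, 7)] (.ccons 8 (.split 1562 [(0, 1565, 1), (2, 1814, 3), (5, 826, 10), (6, 1118, 9), (7, 1210, 9), (8, 826, 10)] (.ccons 11 (.split 234 [(0, 2281, 1), (2, 1254, 3), (4, 474, 5), (8, 474, 5), (10, 1210, 6), (11, 2170, 7)] (.ccons 9 (.split 1322 [(0, 1833, 1), (2, 1422, 5), (4, 826, 10), (6, 366, 10), (7, 1210, 8), (9, 826, 10)] (.ccons 11 (.split 1226 [(0, 1241, 1), (2, 1254, 3), (4, 474, 10), (5, 746, 10), (8, 474, 10), (9, 746, 10)] (.ccons 11 (.split 842 [(0, 969, 1), (2, 966, 3), (4, 474, 9), (5, 746, 8), (7, 746, 8), (11, 2638, 8)] (.ccons 10 (.split 906 [(0, 969, 1), (2, 966, 3), (4, 474,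 9), (5, 746, 8), (6, 1866, 7), (10, 1866, 7)] (.ccons 11 (.split 370 [(0, 377, 1), (2, 438, 6), (3, 474, 5), (7, 474, 5), (9, 826, 6), (11, 2170, 8)] (.ccons 10 (.split 690 [(0, 697, 1), (2, 438, 9), (3, 746, 4), (6, 746, 4), (8, 826, 7), (10, 1210, 9)] (.ccons 11 (.split 722 [(0, 725, 1), (2, 966, 4), (3, 746, 4), (5, 2738, 6), (8, 474, 9), (11, 2738, 6)] (.ccons 10 (.split 850 [(0, 1873, 1), (2, 966, 4), (3, 1866, 4), (5, 1394, 9), (7, 1746, 8), (10, 1746, 8)] (.ccons 11 (.split 1426 [(0, 1457, 1), (2, 1814, 7), (3, 474, 10), (5, 1394, 7), (6, 1746, 8), (9, 1746, 8)] (.ccons 11 (.split 482 [(0, 485, 1), (2, 966, 5), (3, 746, 8), (4, 1394, 7), (9, 746, 8), (10, 1394, 7)] (.ccons 11 (.split 1634 [(0, 1761, 1), (2, 1254, 9), (3, 1866, 5), (4, 1746, 5), (7, 1746, 5), (8, 1394, 9)] (.ccons 11 (.split 930 [(0, 2977, 1), (2, 966, 5), (3, 2954, 5), (4, 2738, 8), (6,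 2530, 9), (11, 2530, 9)] (.ccons 10 (.split 124 [(0, 377, 2), (1, 2170, 2), (8, 366, 4), (9, 630, 3), (10, 1118, 5), (11, 2170, 2)] (.ccons 7 (.split 316 [(0, 377, 2), (1, 826, 2), (6, 252, 8), (7, 252, 8), (9, 826, 2), (11, 2334, 5)] (.ccons 10 (.split 572 [(0, 697, 2), (1, 826, 2), (6, 252, 9), (7, 252, 9), (8, 1340, 9), (10, 1340, 9)] (.ccons 11 (.split 348 [(0, 377, 2), (1, 474, 2), (5, 1340, 6), (7, 252, 8), (10, 1340, 6), (11, 2334, 6)] (.ccons 9 (.split 1180 [(0, 1241, 2), (1, 1210, 2), (5, 1340, 7), (6, 252, 10), (8, 1340, 7), (9, 670, 10)] (.ccons 11 (.split 1132 [(0, 1141, 3), (1, 1254, 3), (4, 1340, 6), (7, 252, 10), (8, 1340, 6), (9, 1582, 6)] (.ccons 11 (.split 428 [(0, 485, 3), (1, 438, 3), (4, 1340, 7), (6, 252, 8), (10, 1340, 7), (11, 2222, 8)] (.ccons 9 (.split 460 [(0, 969, 2), (1, 474, 2), (4, 860, 7), (5, 940, 6), (9, 940, 6), (10, 1422, 6)]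 (.ccons 11 (.split 716 [(0, 969, 2), (1, 746, 2), (4, 860, 7), (5, 940, 6), (8, 2508, 9), (11, 2508, 9)] (.ccons 10 (.split 1804 [(0, 1833, 2), (1, 1866, 2), (4, 860, 10), (5, 940, 10), (6, 1740, 8), (7, 1740, 8)] (.ccons 11 (.split 372 [(0, 377, 2), (1, 1394, 2), (3, 860, 5), (7, 252, 8), (9, 860, 5), (10, 1340, 6)] (.ccons 11 (.split 692 [(0, 697, 2), (1, 2738, 2), (3, 940, 4), (6, 252, 9), (8, 940, 4), (11, 2620, 7)] (.ccons 10 (.split 468 [(0, 2513, 2), (1, 474, 2), (3, 2508, 4), (5, 2420, 7), (9, 860, 7), (11, 2420, 7)] (.ccons 10 (.split 1620 [(0, 1873, 2), (1, 1746, 2), (3, 1740, 4), (5, 1716, 6), (7, 1492, 9), (8, 1492, 9)] (.ccons 11 (.split 916 [(0, 1925, 4), (1, 966, 4), (3, 940, 4), (5, 1716, 8), (6, 1492, 9), (10, 1492, 9)] (.ccons 11 (.split 740 [(0, 1761, 2), (1, 746, 2), (3, 1740, 5), (4, 1716, 6), (8, 940, 6), (10, 1716, 6)] (.ccons 11 (.split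 868 [(0, 2885, 5), (1, 966, 5), (3, 940, 6), (4, 2420, 9), (7, 2788, 8), (11, 2788, 8)] (.ccons 10 (.split 1444 [(0, 1457, 2), (1, 1954, 2), (3, 940, 10), (4, 1492, 5), (6, 1892, 7), (9, 1892, 7)] (.ccons 11 (.split 632 [(0, 2673, 3), (1, 746, 4), (2, 860, 5), (7, 252, 9), (8, 860, 5), (11, 2620, 6)] (.ccons 10 (.split 440 [(0, 1457, 3), (1, 474, 5), (2, 940, 4), (6, 252, 8), (9, 940, 4), (10, 1340, 7)] (.ccons 11 (.split 728 [(0, 969, 4), (1, 1746, 3), (2, 1740, 4), (5, 1656, 7), (8, 860, 7), (10, 1656, 7)] (.ccons 11 (.split 1368 [(0, 1873, 3), (1, 1394, 3), (2, 1492, 3), (5, 1656, 8), (7, 1492, 3), (9, 1656, 8)] (.ccons 11 (.split 920 [(0, 969, 4), (1, 2954, 4), (2, 2964, 3), (5, 2488, 9), (6, 2776, 8), (11, 2776, 8)] (.ccons 10 (.split 488 [(0, 969, 5), (1, 2530, 3), (2, 2508, 5), (4, 2488, 6), (9, 940, 6), (11, 2488, 6)] (.ccons 10 (.split 872 [(0, 969, 5),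 (1, 1866, 5), (2, 1892, 3), (4, 1656, 8), (7, 1512, 9), (10, 1512, 9)] (.ccons 11 (.split 1704 [(0, 1761, 3), (1, 1954, 3), (2, 1716, 3), (4, 1944, 5), (6, 1512, 9), (8, 1512, 9)] (.ccons 11 (.split 496 [(0, 2513, 5), (1, 2530, 4), (2, 1492, 5), (3, 1512, 4), (10, 1512, 4), (11, 2488, 6)] (.ccons 9 (.split 1264 [(0, 1761, 4), (1, 1746, 5), (2, 1492, 5), (3, 1512, 4), (8, 1008, 10), (9, 1008, 10)] (.ccons 11 (.split 1840 [(0, 1873, 5), (1, 1954, 4), (2, 1892, 4), (3, 1944, 5), (6, 1008, 10), (7, 1008, 10)] (.ccons 11 (.split 1984 [(0, 1761, 8), (1, 1954, 6), (2, 1892, 7), (3, 1512, 9), (4, 1008, 10), (5, 1008, 10)] (.ccons 11 (.leaf 1) .cnil)) .cnil)) .cnil)) .cnil)) .cnil)) .cnil)) .cnil)) .cnil)) .cnil)) .cnil)) .cnil)) .cnil)) .cnil)) .cnil)) .cnil)) .cnil)) .cnil)) .cnil)) .cnil)) .cnil)) .cnil)) .cnil)) .cnil)) .cnil)) .cnil)) .cnil)) .cnil)) .cnil)) .cnil))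 .cnil)) .cnil)) .cnil)) .cnil)) .cnil)) .cnil)) .cnil)) .cnil)) .cnil)) .cnil)) .cnil)) .cnil)) .cnil)) .cnil)) .cnil)) .cnil)) .cnil)) .cnil)) .cnil)) .cnil)) .cnil)) .cnil)) .cnil)) .cnil)) .cnil)) .cnil)) .cnil)) .cnil)) .cnil)) .cnil)) .cnil)) .cnil)) .cnil)) .cnil)) .cnil)) .cnil)) .cnil)) .cnil)) .cnil)) .cnil)) .cnil)) .cnil)) .cnil)) .cnil)) .cnil)) .cnil)) .cnil)) .cnil)) .cnil)) .cnil)) .cnil)) .cnil)) .cnil)) .cnil)) .cnil)) .cnil)) .cnil)) .cnil)) .cnil)) .cnil)) .cnil)) .cnil)) .cnil)) .cnil)) .cnil)) .cnil)) .cnil)) .cnil)) .cnil)) .cnil)) .cnil)) .cnil)) .cnil))) .cnil)) .cnil)) .cnil)) .cnil)) .cnil)) .cnil)) .cnil)) .cnil)) .cnil)) .cnil)) .cnil)) .cnil)) .cnil)) .cnil)) .cnil)) .cnil)) .cnil)) (.ccons 10 (.split 539 [(2, 2583, 3), (5, 63, 9), (6, 1115, 9), (8, 783, 4), (10, 1115, 9), (11, 2583, 3)] (.ccons 7 (.split 283 [(2, 783, 4), (5, 63,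 8), (6, 1115, 8), (7, 667, 8), (9, 667, 8), (10, 1115, 8)] (.ccons 11 (.split 331 [(2, 783, 6), (4, 2331, 6), (7, 207, 8), (9, 783, 6), (10, 1115, 8), (11, 2331, 6)] (.ccons 5 (.split 587 [(2, 1607, 3), (4, 667, 6), (5, 363, 9), (7, 667, 6), (8, 363, 9), (10, 1115, 9)] (.ccons 11 (.split 555 [(2, 679, 3), (4, 667, 5), (6, 2635, 5), (7, 667, 5), (8, 363, 9), (11, 2635, 5)] (.ccons 10 (.split 171 [(2, 679, 3), (4, 667, 5), (6, 363, 7), (8, 363, 7), (9, 1579, 7), (10, 1579, 7)] (.ccons 11 (.split 395 [(2, 2439, 3), (4, 2331, 7), (5, 2219, 8), (6, 363, 7), (9, 667, 8), (11, 2219, 8)] (.ccons 10 (.split 1075 [(2, 1319, 4), (3, 1579, 4), (6, 1115, 5), (7, 1175, 5), (8, 1319, 4), (9, 1579, 4)] (.ccons 11 (.split 595 [(2, 1607, 4), (3, 2635, 4), (7, 667, 6), (8, 343, 9), (10, 1115, 9), (11, 2635, 4)] (.ccons 5 (.split 179 [(2, 679, 4), (3, 2219, 4), (6, 627, 7), (9, 627,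 7), (10, 3123, 7), (11, 3123, 7)] (.ccons 8 (.split 211 [(2, 1175, 6), (3, 667, 6), (5, 435, 6), (8, 435, 6), (9, 627, 7), (10, 1115, 7)] (.ccons 11 (.split 787 [(2, 2583, 8), (3, 2331, 9), (5, 435, 9), (6, 627, 8), (7, 435, 9), (11, 2331, 9)] (.ccons 10 (.split 227 [(2, 679, 6), (3, 2219, 6), (4, 2259, 5), (8, 435, 6), (9, 627, 7), (11, 2259, 5)] (.ccons 10 (.split 803 [(2, 1319, 9), (3, 1579, 8), (4, 1811, 5), (6, 627, 8), (7, 435, 9), (10, 1811, 5)] (.ccons 11 (.split 451 [(2, 2439, 6), (3, 1419, 6), (4, 2259, 8), (5, 1251, 8), (10, 1251, 8), (11, 2259, 8)] (.ccons 9 (.split 1347 [(2, 1319, 6), (3, 1419, 6), (4, 1811, 6), (5, 1251, 8), (7, 963, 10), (9, 963, 10)] (.ccons 11 (.split 1667 [(2, 679, 10), (3, 1419, 9), (4, 1811, 7), (5, 1251, 9), (6, 963, 10), (8, 963, 10)] (.ccons 11 (.split 93 [(1, 1115, 2), (5, 63, 6), (7, 207, 4), (8, 343, 3), (10, 1115, 2)]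 (.ccons 9 (.split 1053 [(1, 1115, 2), (5, 63, 10), (6, 605, 10), (7, 1175, 3), (9, 605, 10), (11, 3087, 4)] (.ccons 8 (.split 157 [(1, 667, 2), (5, 63, 7), (6, 605, 7), (8, 1309, 7), (9, 605, 7), (10, 1309, 7)] (.ccons 11 (.split 109 [(1, 363, 2), (4, 605, 5), (7, 207, 5), (8, 363, 2), (9, 605, 5), (11, 2151, 3)] (.ccons 10 (.split 173 [(1, 2219, 2), (4, 2205, 5), (6, 1133, 7), (9, 679, 3), (10, 1133, 7), (11, 2205, 5)] (.ccons 8 (.split 557 [(1, 1579, 2), (4, 605, 5), (6, 1133, 9), (7, 429, 9), (8, 429, 9), (10, 1133, 9)] (.ccons 11 (.split 333 [(1, 363, 2), (4, 1309, 6), (5, 429, 6), (7, 429, 6), (9, 605, 8), (10, 1133, 8)] (.ccons 11 (.split 653 [(1, 667, 2), (4, 2205, 9), (5, 2605, 7), (6, 605, 7), (8, 429, 9), (11, 2605, 7)] (.ccons 10 (.split 117 [(1, 627, 2), (3, 1133, 4), (8, 343, 5), (9, 605, 5), (10, 1133, 4), (11, 2151, 4)] (.ccons 7 (.split 1077 [(1,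 3123, 2), (3, 1133, 4), (6, 245, 10), (7, 245, 10), (8, 1309, 5), (11, 3123, 2)] (.ccons 9 (.split 309 [(1, 435, 2), (3, 429, 4), (6, 245, 8), (7, 245, 8), (9, 1589, 8), (10, 1589, 8)] (.ccons 11 (.split 1109 [(1, 1115, 2), (3, 1133, 4), (5, 1589, 6), (7, 245, 10), (8, 1309, 6), (9, 1589, 6)] (.ccons 11 (.split 405 [(1, 435, 2), (3, 429, 4), (5, 2357, 7), (6, 245, 8), (10, 1309, 7), (11, 2357, 7)] (.ccons 9 (.split 357 [(1, 363, 2), (3, 2381, 5), (4, 2357, 6), (7, 245, 8), (10, 1133, 8), (11, 2357, 6)] (.ccons 9 (.split 1189 [(1, 1251, 2), (3, 1677, 5), (4, 1589, 7), (6, 245, 10), (8, 429, 10), (9, 1589, 7)] (.ccons 11 (.split 453 [(1, 963, 2), (3, 2381, 7), (4, 917, 6), (5, 869, 7), (9, 869, 7), (11, 2381, 7)] (.ccons 10 (.split 709 [(1, 963, 2), (3, 1677, 6), (4, 917, 6), (5, 869, 7), (8, 1477, 9), (10, 1477, 9)] (.ccons 11 (.split 1797 [(1, 1811, 2), (3, 1677,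 8), (4, 917, 10), (5, 869, 10), (6, 1477, 9), (7, 1477, 9)] (.ccons 11 (.split 121 [(1, 627, 3), (2, 245, 3), (7, 245, 3), (8, 363, 4), (9, 605, 5), (10, 1133, 4)] (.ccons 11 (.split 185 [(1, 435, 3), (2, 245, 3), (6, 2169, 7), (8, 429, 4), (9, 667, 5), (11, 2169, 7)] (.ccons 10 (.split 313 [(1, 435, 3), (2, 2357, 3), (6, 2169, 8), (7, 1209, 8), (10, 1209, 8), (11, 2169, 8)] (.ccons 9 (.split 217 [(1, 2259, 3), (2, 245, 3), (5, 1209, 6), (9, 605, 7), (10, 1209, 6), (11, 2169, 7)] (.ccons 8 (.split 1561 [(1, 1811, 3), (2, 1589, 3), (5, 825, 10), (6, 605, 10), (7, 1209, 9), (8, 825, 10)] (.ccons 11 (.split 233 [(1, 1251, 3), (2, 245, 3), (4, 473, 5), (8, 473, 5), (10, 1209, 6), (11, 2169, 7)] (.ccons 9 (.split 1321 [(1, 1419, 5), (2, 429, 10), (4, 825, 10), (6, 1133, 8), (7, 1209, 8), (9, 825, 10)] (.ccons 11 (.split 1225 [(1, 1251, 3), (2, 1477, 3), (4, 473, 10),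 (5, 745, 10), (8, 473, 10), (9, 745, 10)] (.ccons 11 (.split 841 [(1, 963, 3), (2, 869, 3), (4, 473, 9), (5, 745, 8), (7, 745, 8), (11, 2381, 9)] (.ccons 10 (.split 905 [(1, 963, 3), (2, 917, 3), (4, 473, 9), (5, 745, 8), (6, 1865, 7), (10, 1865, 7)] (.ccons 11 (.split 369 [(1, 435, 6), (2, 869, 4), (3, 473, 5), (7, 473, 5), (9, 825, 6), (11, 2169, 8)] (.ccons 10 (.split 689 [(1, 435, 9), (2, 917, 5), (3, 745, 4), (6, 745, 4), (8, 825, 7), (10, 1209, 9)] (.ccons 11 (.split 721 [(1, 963, 4), (2, 2757, 4), (3, 745, 4), (5, 2737, 6), (8, 473, 9), (11, 2737, 6)] (.ccons 10 (.split 849 [(1, 963, 4), (2, 869, 4), (3, 1865, 4), (5, 1393, 9), (7, 1745, 8), (10, 1745, 8)] (.ccons 11 (.split 1425 [(1, 1811, 7), (2, 1477, 4), (3, 473, 10), (5, 1393, 7), (6, 1745, 8), (9, 1745, 8)] (.ccons 11 (.split 481 [(1, 963, 5), (2, 1477, 5), (3, 745, 8), (4, 1393, 7), (9, 745, 8),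 (10, 1393, 7)] (.ccons 11 (.split 1633 [(1, 1251, 9), (2, 869, 10), (3, 1865, 5), (4, 1745, 5), (7, 1745, 5), (8, 1393, 9)] (.ccons 11 (.split 929 [(1, 963, 5), (2, 869, 7), (3, 2953, 5), (4, 2737, 8), (6, 2529, 9), (11, 2529, 9)] (.ccons 10 (.split 94 [(0, 605, 1), (5, 63, 6), (7, 207, 4), (8, 343, 3), (9, 605, 1), (10, 1115, 2)] (.ccons 11 (.split 158 [(0, 2205, 1), (5, 63, 7), (6, 2142, 7), (9, 667, 2), (10, 1175, 3), (11, 2142, 7)] (.ccons 8 (.split 542 [(0, 605, 1), (5, 63, 9), (6, 2142, 9), (7, 414, 9), (8, 414, 9), (11, 2142, 9)] (.ccons 10 (.split 110 [(0, 1133, 1), (4, 2142, 5), (7, 207, 5), (8, 363, 2), (10, 1133, 1), (11, 2142, 5)] (.ccons 9 (.split 174 [(0, 429, 1), (4, 414, 5), (6, 622, 7), (8, 414, 5), (9, 622, 7), (11, 2219, 2)] (.ccons 10 (.split 302 [(0, 429, 1), (4, 414, 5), (6, 622, 8), (7, 1198, 8), (9, 622, 8), (10, 1198, 8)] (.ccons 11 (.split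 334 [(0, 2381, 1), (4, 414, 6), (5, 2350, 6), (7, 414, 6), (9, 622, 8), (11, 2350, 6)] (.ccons 10 (.split 654 [(0, 1677, 1), (4, 1566, 7), (5, 1198, 9), (6, 622, 7), (8, 414, 9), (10, 1198, 9)] (.ccons 11 (.split 118 [(0, 245, 1), (3, 622, 4), (7, 245, 1), (8, 343, 5), (9, 622, 4), (11, 2142, 5)] (.ccons 10 (.split 182 [(0, 245, 1), (3, 1198, 4), (6, 1142, 7), (8, 414, 5), (9, 679, 4), (10, 1142, 7)] (.ccons 11 (.split 310 [(0, 2357, 1), (3, 2350, 4), (6, 1142, 8), (7, 2230, 8), (10, 1142, 8), (11, 2230, 8)] (.ccons 9 (.split 214 [(0, 245, 1), (3, 414, 6), (5, 2230, 6), (8, 414, 6), (10, 1142, 7), (11, 2230, 6)] (.ccons 9 (.split 1302 [(0, 1309, 1), (3, 1358, 4), (5, 822, 10), (6, 1142, 8), (7, 414, 10), (9, 822, 10)] (.ccons 11 (.split 230 [(0, 245, 1), (3, 1198, 6), (4, 726, 5), (9, 726, 5), (10, 1142, 7), (11, 2230, 6)] (.ccons 8 (.split 1574 [(0, 1589, 1),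 (3, 1198, 9), (4, 822, 10), (6, 1142, 9), (7, 1198, 9), (8, 822, 10)] (.ccons 11 (.split 1222 [(0, 1477, 1), (3, 1358, 7), (4, 726, 10), (5, 486, 10), (8, 486, 10), (9, 726, 10)] (.ccons 11 (.split 838 [(0, 869, 1), (3, 1358, 9), (4, 726, 8), (5, 486, 9), (7, 486, 9), (10, 1358, 9)] (.ccons 11 (.split 902 [(0, 917, 1), (3, 2702, 8), (4, 726, 8), (5, 486, 9), (6, 2886, 7), (11, 2886, 7)] (.ccons 10 (.split 122 [(0, 2169, 1), (2, 1142, 3), (8, 363, 4), (9, 622, 4), (10, 1142, 3), (11, 2142, 5)] (.ccons 7 (.split 314 [(0, 825, 1), (2, 822, 3), (6, 250, 8), (7, 250, 8), (9, 822, 3), (11, 2350, 4)] (.ccons 10 (.split 570 [(0, 825, 1), (2, 822, 3), (6, 250, 9), (7, 250, 9), (8, 1338, 9), (10, 1338, 9)] (.ccons 11 (.split 346 [(0, 473, 1), (2, 1358, 4), (5, 1338, 6), (7, 250, 8), (10, 1338, 6), (11, 2142, 8)] (.ccons 9 (.split 1178 [(0, 1209, 1), (2, 1198, 4), (5, 1338,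 7), (6, 250, 10), (8, 1338, 7), (9, 1566, 7)] (.ccons 11 (.split 1130 [(0, 1133, 1), (2, 1142, 3), (4, 1338, 6), (7, 250, 10), (8, 1338, 6), (9, 622, 10)] (.ccons 11 (.split 426 [(0, 429, 1), (2, 486, 3), (4, 1338, 7), (6, 250, 8), (10, 1338, 7), (11, 2350, 7)] (.ccons 9 (.split 458 [(0, 473, 1), (2, 486, 3), (4, 858, 7), (5, 938, 6), (9, 938, 6), (10, 1358, 7)] (.ccons 11 (.split 714 [(0, 745, 1), (2, 726, 3), (4, 858, 7), (5, 938, 6), (8, 2506, 9), (11, 2506, 9)] (.ccons 10 (.split 1802 [(0, 1865, 1), (2, 1926, 3), (4, 858, 10), (5, 938, 10), (6, 1738, 8), (7, 1738, 8)] (.ccons 11 (.split 370 [(0, 1393, 1), (2, 486, 4), (3, 858, 5), (7, 250, 8), (9, 858, 5), (10, 1338, 6)] (.ccons 11 (.split 690 [(0, 2737, 1), (2, 726, 5), (3, 938, 4), (6, 250, 9), (8, 938, 4), (11, 2618, 7)] (.ccons 10 (.split 466 [(0, 473, 1), (2, 486, 4), (3, 2506, 4), (5, 2418, 7), (9, 858,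 7), (11, 2418, 7)] (.ccons 10 (.split 1618 [(0, 1745, 1), (2, 726, 10), (3, 1738, 4), (5, 1714, 6), (7, 1490, 9), (8, 1490, 9)] (.ccons 11 (.split 914 [(0, 917, 1), (2, 1926, 4), (3, 938, 4), (5, 1714, 8), (6, 1490, 9), (10, 1490, 9)] (.ccons 11 (.split 738 [(0, 745, 1), (2, 486, 9), (3, 1738, 5), (4, 1714, 6), (8, 938, 6), (10, 1714, 6)] (.ccons 11 (.split 866 [(0, 869, 1), (2, 2886, 5), (3, 938, 6), (4, 2418, 9), (7, 2786, 8), (11, 2786, 8)] (.ccons 10 (.split 1442 [(0, 1953, 1), (2, 1926, 5), (3, 938, 10), (4, 1490, 5), (6, 1890, 7), (9, 1890, 7)] (.ccons 11 (.split 124 [(0, 2169, 2), (1, 250, 2), (7, 250, 2), (9, 622, 4), (10, 1142, 3), (11, 2142, 5)] (.ccons 8 (.split 188 [(0, 1209, 2), (1, 250, 2), (6, 380, 7), (8, 380, 7), (10, 1198, 4), (11, 2230, 3)] (.ccons 9 (.split 1084 [(0, 1209, 2), (1, 1338, 2), (6, 380, 10), (7, 700, 10), (8, 380, 10), (9, 700,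 10)] (.ccons 11 (.split 220 [(0, 473, 2), (1, 250, 2), (5, 700, 6), (8, 380, 7), (9, 700, 6), (11, 2142, 7)] (.ccons 10 (.split 796 [(0, 825, 2), (1, 858, 2), (5, 700, 8), (6, 380, 9), (7, 700, 8), (10, 1566, 8)] (.ccons 11 (.split 236 [(0, 745, 2), (1, 250, 2), (4, 1244, 5), (8, 380, 7), (9, 700, 6), (10, 1244, 5)] (.ccons 11 (.split 812 [(0, 825, 2), (1, 938, 2), (4, 2844, 5), (6, 380, 9), (7, 700, 8), (11, 2844, 5)] (.ccons 10 (.split 460 [(0, 473, 2), (1, 2506, 2), (4, 1244, 8), (5, 2284, 8), (10, 1244, 8), (11, 2284, 8)] (.ccons 9 (.split 1612 [(0, 1865, 2), (1, 1738, 2), (4, 1244, 9), (5, 1836, 6), (7, 972, 10), (8, 972, 10)] (.ccons 11 (.split 1420 [(0, 1477, 3), (1, 1926, 3), (4, 1244, 8), (5, 1836, 7), (6, 972, 10), (9, 972, 10)] (.ccons 11 (.split 628 [(0, 869, 4), (1, 726, 5), (3, 700, 6), (7, 700, 6), (8, 380, 9), (10, 1142, 9)] (.ccons 11 (.split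 436 [(0, 917, 5), (1, 486, 4), (3, 700, 8), (6, 380, 7), (9, 700, 8), (11, 2230, 8)] (.ccons 10 (.split 468 [(0, 473, 2), (1, 1490, 2), (3, 972, 4), (5, 1460, 6), (9, 972, 4), (10, 1460, 6)] (.ccons 11 (.split 852 [(0, 2897, 2), (1, 858, 2), (3, 972, 4), (5, 2676, 8), (7, 2516, 9), (11, 2516, 9)] (.ccons 10 (.split 1684 [(0, 1745, 2), (1, 1714, 2), (3, 1244, 9), (5, 1460, 9), (6, 1876, 7), (8, 1876, 7)] (.ccons 11 (.split 740 [(0, 745, 2), (1, 2786, 2), (3, 972, 5), (4, 2676, 7), (8, 972, 5), (11, 2676, 7)] (.ccons 10 (.split 1380 [(0, 1393, 2), (1, 1890, 2), (3, 1836, 6), (4, 1876, 5), (7, 1764, 8), (9, 1764, 8)] (.ccons 11 (.split 932 [(0, 1953, 2), (1, 938, 2), (3, 972, 5), (4, 1460, 9), (6, 1764, 8), (10, 1764, 8)] (.ccons 11 (.split 632 [(0, 745, 4), (1, 858, 5), (2, 2676, 3), (7, 700, 6), (8, 380, 9), (11, 2676, 3)] (.ccons 10 (.split 440 [(0, 473, 5), (1,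 938, 4), (2, 1460, 3), (6, 380, 7), (9, 700, 8), (10, 1460, 3)] (.ccons 11 (.split 728 [(0, 1745, 3), (1, 1738, 4), (2, 972, 4), (5, 1656, 7), (8, 972, 4), (10, 1656, 7)] (.ccons 11 (.split 1368 [(0, 1393, 3), (1, 1490, 3), (2, 1876, 3), (5, 1656, 8), (7, 1244, 8), (9, 1656, 8)] (.ccons 11 (.split 920 [(0, 2953, 4), (1, 2962, 3), (2, 972, 4), (5, 2488, 9), (6, 2776, 8), (11, 2776, 8)] (.ccons 10 (.split 488 [(0, 2529, 3), (1, 2506, 5), (2, 972, 5), (4, 2488, 6), (9, 972, 5), (11, 2488, 6)] (.ccons 10 (.split 872 [(0, 1865, 5), (1, 1890, 3), (2, 972, 5), (4, 1656, 8), (7, 1512, 9), (10, 1512, 9)] (.ccons 11 (.split 1704 [(0, 1953, 3), (1, 1714, 3), (2, 1764, 3), (4, 1944, 5), (6, 1512, 9), (8, 1512, 9)] (.ccons 11 (.split 496 [(0, 2529, 4), (1, 1490, 5), (2, 2516, 5), (3, 1512, 4), (10, 1512, 4), (11, 2488, 6)] (.ccons 9 (.split 1264 [(0, 1745, 5), (1, 1490, 5),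 (2, 1764, 4), (3, 1512, 4), (8, 1008, 10), (9, 1008, 10)] (.ccons 11 (.split 1840 [(0, 1953, 4), (1, 1890, 4), (2, 1876, 5), (3, 1944, 5), (6, 1008, 10), (7, 1008, 10)] (.ccons 11 (.split 1984 [(0, 1953, 6), (1, 1890, 7), (2, 1764, 8), (3, 1512, 9), (4, 1008, 10), (5, 1008, 10)] (.ccons 11 (.leaf 2) .cnil)) .cnil)) .cnil)) .cnil)) .cnil)) .cnil)) .cnil)) .cnil)) .cnil)) .cnil)) .cnil)) .cnil)) .cnil)) .cnil)) .cnil)) .cnil)) .cnil)) .cnil)) .cnil)) .cnil)) .cnil)) .cnil)) .cnil)) .cnil)) .cnil)) .cnil)) .cnil)) .cnil)) .cnil)) .cnil)) .cnil)) .cnil)) .cnil)) .cnil)) .cnil)) .cnil)) .cnil)) .cnil)) .cnil)) .cnil)) .cnil)) .cnil)) .cnil)) .cnil)) .cnil)) .cnil)) .cnil)) .cnil)) .cnil)) .cnil)) .cnil)) .cnil)) .cnil)) .cnil)) .cnil)) .cnil)) .cnil)) .cnil)) .cnil)) .cnil)) .cnil)) .cnil)) .cnil)) .cnil)) .cnil)) .cnil)) .cnil)) .cnil)) .cnil)) .cnil)) .cnil)) .cnil))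 .cnil)) .cnil)) .cnil)) .cnil)) .cnil)) .cnil)) .cnil)) .cnil)) .cnil)) .cnil)) .cnil)) .cnil)) .cnil)) .cnil)) .cnil)) .cnil)) .cnil)) .cnil)) .cnil)) .cnil)) .cnil)) .cnil)) .cnil)) .cnil)) .cnil)) .cnil)) .cnil)) .cnil)) .cnil)) (.ccons 11 (.split 157 [(1, 667, 2), (5, 63, 7), (6, 2141, 7), (9, 667, 2), (10, 1175, 3), (11, 2141, 7)] (.ccons 8 (.split 541 [(1, 667, 2), (5, 63, 9), (6, 2141, 9), (7, 413, 9), (8, 413, 9), (11, 2141, 9)] (.ccons 10 (.split 173 [(1, 2219, 2), (4, 413, 5), (6, 207, 5), (8, 413, 5), (9, 679, 3), (11, 2219, 2)] (.ccons 10 (.split 109 [(1, 363, 2), (4, 2141, 5), (7, 1197, 6), (8, 363, 2), (10, 1197, 6), (11, 2141, 5)] (.ccons 9 (.split 301 [(1, 363, 2), (4, 413, 5), (6, 621, 8), (7, 1197, 8), (9, 621, 8), (10, 1197, 8)] (.ccons 11 (.split 333 [(1, 363, 2), (4, 413, 6), (5, 2349, 6), (7, 413, 6), (9, 621, 8), (11, 2349, 6)] (.ccons 10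 (.split 653 [(1, 667, 2), (4, 1565, 7), (5, 621, 7), (6, 621, 7), (8, 413, 9), (10, 1197, 9)] (.ccons 11 (.split 309 [(1, 435, 2), (3, 2349, 4), (6, 343, 5), (7, 413, 5), (10, 1319, 4), (11, 2349, 4)] (.ccons 9 (.split 1077 [(1, 3123, 2), (3, 1197, 4), (7, 1197, 4), (8, 821, 10), (9, 821, 10), (11, 3123, 2)] (.ccons 6 (.split 181 [(1, 435, 2), (3, 1197, 4), (6, 1141, 7), (8, 821, 7), (9, 821, 7), (10, 1141, 7)] (.ccons 11 (.split 213 [(1, 2259, 2), (3, 413, 6), (5, 2229, 6), (8, 413, 6), (10, 1141, 7), (11, 2229, 6)] (.ccons 9 (.split 1301 [(1, 1811, 2), (3, 1357, 4), (5, 1141, 8), (6, 1141, 8), (7, 413, 10), (9, 821, 10)] (.ccons 11 (.split 229 [(1, 1251, 2), (3, 621, 7), (4, 725, 5), (9, 725, 5), (10, 1141, 7), (11, 2229, 6)] (.ccons 8 (.split 1573 [(1, 1579, 2), (3, 621, 10), (4, 1141, 9), (6, 1141, 9), (7, 1197, 9), (8, 821, 10)] (.ccons 11 (.split 1221 [(1,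 1251, 2), (3, 1357, 7), (4, 725, 10), (5, 485, 10), (8, 485, 10), (9, 725, 10)] (.ccons 11 (.split 837 [(1, 963, 2), (3, 1357, 9), (4, 725, 8), (5, 485, 9), (7, 485, 9), (10, 1357, 9)] (.ccons 11 (.split 901 [(1, 963, 2), (3, 2701, 8), (4, 725, 8), (5, 485, 9), (6, 2885, 7), (11, 2885, 7)] (.ccons 10 (.split 121 [(1, 627, 3), (2, 1141, 3), (8, 363, 4), (9, 621, 4), (10, 1141, 3), (11, 2141, 5)] (.ccons 7 (.split 313 [(1, 435, 3), (2, 821, 3), (6, 249, 8), (7, 249, 8), (9, 821, 3), (11, 2349, 4)] (.ccons 10 (.split 569 [(1, 627, 3), (2, 821, 3), (6, 249, 9), (7, 249, 9), (8, 1337, 9), (10, 1337, 9)] (.ccons 11 (.split 345 [(1, 363, 4), (2, 1357, 4), (5, 1337, 6), (7, 249, 8), (10, 1337, 6), (11, 2141, 8)] (.ccons 9 (.split 1177 [(1, 1419, 4), (2, 1197, 4), (5, 1337, 7), (6, 249, 10), (8, 1337, 7), (9, 1565, 7)] (.ccons 11 (.split 1129 [(1, 1251, 3), (2, 1141, 3),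 (4, 1337, 6), (7, 249, 10), (8, 1337, 6), (9, 621, 10)] (.ccons 11 (.split 425 [(1, 435, 3), (2, 485, 3), (4, 1337, 7), (6, 249, 8), (10, 1337, 7), (11, 2349, 7)] (.ccons 9 (.split 457 [(1, 963, 3), (2, 485, 3), (4, 857, 7), (5, 937, 6), (9, 937, 6), (10, 1357, 7)] (.ccons 11 (.split 713 [(1, 963, 3), (2, 725, 3), (4, 857, 7), (5, 937, 6), (8, 2505, 9), (11, 2505, 9)] (.ccons 10 (.split 1801 [(1, 1811, 3), (2, 1925, 3), (4, 857, 10), (5, 937, 10), (6, 1737, 8), (7, 1737, 8)] (.ccons 11 (.split 369 [(1, 435, 6), (2, 485, 4), (3, 857, 5), (7, 249, 8), (9, 857, 5), (10, 1337, 6)] (.ccons 11 (.split 689 [(1, 435, 9), (2, 725, 5), (3, 937, 4), (6, 249, 9), (8, 937, 4), (11, 2617, 7)] (.ccons 10 (.split 465 [(1, 963, 4), (2, 485, 4), (3, 2505, 4), (5, 2417, 7), (9, 857, 7), (11, 2417, 7)] (.ccons 10 (.split 1617 [(1, 1811, 6), (2, 725, 10), (3, 1737, 4), (5, 1713, 6),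 (7, 1489, 9), (8, 1489, 9)] (.ccons 11 (.split 913 [(1, 963, 4), (2, 1925, 4), (3, 937, 4), (5, 1713, 8), (6, 1489, 9), (10, 1489, 9)] (.ccons 11 (.split 737 [(1, 963, 5), (2, 485, 9), (3, 1737, 5), (4, 1713, 6), (8, 937, 6), (10, 1713, 6)] (.ccons 11 (.split 865 [(1, 963, 5), (2, 2885, 5), (3, 937, 6), (4, 2417, 9), (7, 2785, 8), (11, 2785, 8)] (.ccons 10 (.split 1441 [(1, 1251, 8), (2, 1925, 5), (3, 937, 10), (4, 1489, 5), (6, 1889, 7), (9, 1889, 7)] (.ccons 11 (.split 94 [(0, 2141, 1), (5, 63, 6), (7, 207, 4), (8, 343, 3), (10, 1115, 2), (11, 2141, 1)] (.ccons 9 (.split 158 [(0, 413, 1), (5, 63, 7), (6, 606, 7), (8, 413, 1), (9, 606, 7), (10, 1175, 3)] (.ccons 11 (.split 286 [(0, 413, 1), (5, 63, 8), (6, 606, 8), (7, 2206, 8), (9, 606, 8), (11, 2206, 8)] (.ccons 10 (.split 110 [(0, 621, 1), (4, 606, 5), (7, 207, 5), (8, 363, 2), (9, 606, 5), (11, 2151, 3)]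 (.ccons 10 (.split 174 [(0, 1197, 1), (4, 2206, 5), (6, 1134, 7), (9, 679, 3), (10, 1134, 7), (11, 2206, 5)] (.ccons 8 (.split 558 [(0, 621, 1), (4, 606, 5), (6, 1134, 9), (7, 430, 9), (8, 430, 9), (10, 1134, 9)] (.ccons 11 (.split 334 [(0, 1357, 1), (4, 1310, 6), (5, 430, 6), (7, 430, 6), (9, 606, 8), (10, 1134, 8)] (.ccons 11 (.split 654 [(0, 2701, 1), (4, 2206, 9), (5, 2606, 7), (6, 606, 7), (8, 430, 9), (11, 2606, 7)] (.ccons 10 (.split 118 [(0, 1141, 1), (3, 1134, 4), (8, 343, 5), (9, 606, 5), (10, 1134, 4), (11, 2151, 4)] (.ccons 7 (.split 310 [(0, 821, 1), (3, 430, 4), (6, 246, 8), (7, 246, 8), (9, 821, 1), (10, 1310, 5)] (.ccons 11 (.split 566 [(0, 821, 1), (3, 2606, 4), (6, 246, 9), (7, 246, 9), (8, 2358, 9), (11, 2358, 9)] (.ccons 10 (.split 1110 [(0, 1141, 1), (3, 1134, 4), (5, 1590, 6), (7, 246, 10), (8, 1310, 6), (9, 1590, 6)] (.ccons 11 (.split 406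 [(0, 413, 1), (3, 430, 4), (5, 2358, 7), (6, 246, 8), (10, 1310, 7), (11, 2358, 7)] (.ccons 9 (.split 358 [(0, 485, 1), (3, 2382, 5), (4, 2358, 6), (7, 246, 8), (10, 1134, 8), (11, 2358, 6)] (.ccons 9 (.split 1190 [(0, 1197, 1), (3, 1678, 5), (4, 1590, 7), (6, 246, 10), (8, 430, 10), (9, 1590, 7)] (.ccons 11 (.split 454 [(0, 485, 1), (3, 2382, 7), (4, 918, 6), (5, 870, 7), (9, 870, 7), (11, 2382, 7)] (.ccons 10 (.split 710 [(0, 725, 1), (3, 1678, 6), (4, 918, 6), (5, 870, 7), (8, 1478, 9), (10, 1478, 9)] (.ccons 11 (.split 1798 [(0, 1925, 1), (3, 1678, 8), (4, 918, 10), (5, 870, 10), (6, 1478, 9), (7, 1478, 9)] (.ccons 11 (.split 122 [(0, 249, 1), (2, 246, 3), (7, 246, 3), (8, 363, 4), (9, 606, 5), (10, 1134, 4)] (.ccons 11 (.split 186 [(0, 249, 1), (2, 246, 3), (6, 2170, 7), (8, 430, 4), (9, 667, 5), (11, 2170, 7)] (.ccons 10 (.split 314 [(0, 1337, 1), (2, 2358,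 3), (6, 2170, 8), (7, 1210, 8), (10, 1210, 8), (11, 2170, 8)] (.ccons 9 (.split 218 [(0, 249, 1), (2, 246, 3), (5, 1210, 6), (9, 606, 7), (10, 1210, 6), (11, 2170, 7)] (.ccons 8 (.split 1562 [(0, 1565, 1), (2, 1590, 3), (5, 826, 10), (6, 606, 10), (7, 1210, 9), (8, 826, 10)] (.ccons 11 (.split 234 [(0, 249, 1), (2, 246, 3), (4, 474, 5), (8, 474, 5), (10, 1210, 6), (11, 2170, 7)] (.ccons 9 (.split 1322 [(0, 1337, 1), (2, 430, 10), (4, 826, 10), (6, 1134, 8), (7, 1210, 8), (9, 826, 10)] (.ccons 11 (.split 1226 [(0, 1737, 1), (2, 1478, 3), (4, 474, 10), (5, 746, 10), (8, 474, 10), (9, 746, 10)] (.ccons 11 (.split 842 [(0, 857, 1), (2, 870, 3), (4, 474, 9), (5, 746, 8), (7, 746, 8), (11, 2382, 9)] (.ccons 10 (.split 906 [(0, 937, 1), (2, 918, 3), (4, 474, 9), (5, 746, 8), (6, 1866, 7), (10, 1866, 7)] (.ccons 11 (.split 370 [(0, 2417, 1), (2, 870, 4), (3, 474, 5),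 (7, 474, 5), (9, 826, 6), (11, 2170, 8)] (.ccons 10 (.split 690 [(0, 1713, 1), (2, 918, 5), (3, 746, 4), (6, 746, 4), (8, 826, 7), (10, 1210, 9)] (.ccons 11 (.split 722 [(0, 725, 1), (2, 2758, 4), (3, 746, 4), (5, 2738, 6), (8, 474, 9), (11, 2738, 6)] (.ccons 10 (.split 850 [(0, 857, 1), (2, 870, 4), (3, 1866, 4), (5, 1394, 9), (7, 1746, 8), (10, 1746, 8)] (.ccons 11 (.split 1426 [(0, 1489, 1), (2, 1478, 4), (3, 474, 10), (5, 1394, 7), (6, 1746, 8), (9, 1746, 8)] (.ccons 11 (.split 482 [(0, 485, 1), (2, 1478, 5), (3, 746, 8), (4, 1394, 7), (9, 746, 8), (10, 1394, 7)] (.ccons 11 (.split 1634 [(0, 1889, 1), (2, 870, 10), (3, 1866, 5), (4, 1746, 5), (7, 1746, 5), (8, 1394, 9)] (.ccons 11 (.split 930 [(0, 937, 1), (2, 870, 7), (3, 2954, 5), (4, 2738, 8), (6, 2530, 9), (11, 2530, 9)] (.ccons 10 (.split 124 [(0, 249, 2), (1, 2170, 2), (7, 246, 3), (9, 606, 5), (10,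 1134, 4), (11, 2170, 2)] (.ccons 8 (.split 188 [(0, 249, 2), (1, 1210, 2), (6, 380, 7), (8, 380, 7), (10, 1210, 2), (11, 2206, 5)] (.ccons 9 (.split 1084 [(0, 1337, 2), (1, 1210, 2), (6, 380, 10), (7, 700, 10), (8, 380, 10), (9, 700, 10)] (.ccons 11 (.split 220 [(0, 249, 2), (1, 474, 2), (5, 700, 6), (8, 380, 7), (9, 700, 6), (11, 2206, 6)] (.ccons 10 (.split 796 [(0, 857, 2), (1, 826, 2), (5, 700, 8), (6, 380, 9), (7, 700, 8), (10, 1310, 9)] (.ccons 11 (.split 236 [(0, 249, 2), (1, 746, 2), (4, 1244, 5), (8, 380, 7), (9, 700, 6), (10, 1244, 5)] (.ccons 11 (.split 812 [(0, 937, 2), (1, 826, 2), (4, 2844, 5), (6, 380, 9), (7, 700, 8), (11, 2844, 5)] (.ccons 10 (.split 460 [(0, 2505, 2), (1, 474, 2), (4, 1244, 8), (5, 2284, 8), (10, 1244, 8), (11, 2284, 8)] (.ccons 9 (.split 1612 [(0, 1737, 2), (1, 1866, 2), (4, 1244, 9), (5, 1836, 6), (7, 972, 10), (8, 972, 10)]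 (.ccons 11 (.split 1420 [(0, 1925, 3), (1, 1478, 3), (4, 1244, 8), (5, 1836, 7), (6, 972, 10), (9, 972, 10)] (.ccons 11 (.split 628 [(0, 725, 5), (1, 870, 4), (3, 700, 6), (7, 700, 6), (8, 380, 9), (10, 1590, 6)] (.ccons 11 (.split 436 [(0, 485, 4), (1, 918, 5), (3, 700, 8), (6, 380, 7), (9, 700, 8), (11, 2358, 7)] (.ccons 10 (.split 468 [(0, 1489, 2), (1, 474, 2), (3, 972, 4), (5, 1460, 6), (9, 972, 4), (10, 1460, 6)] (.ccons 11 (.split 852 [(0, 857, 2), (1, 2898, 2), (3, 972, 4), (5, 2676, 8), (7, 2516, 9), (11, 2516, 9)] (.ccons 10 (.split 1684 [(0, 1713, 2), (1, 1746, 2), (3, 1244, 9), (5, 1460, 9), (6, 1876, 7), (8, 1876, 7)] (.ccons 11 (.split 740 [(0, 2785, 2), (1, 746, 2), (3, 972, 5), (4, 2676, 7), (8, 972, 5), (11, 2676, 7)] (.ccons 10 (.split 1380 [(0, 1889, 2), (1, 1394, 2), (3, 1836, 6), (4, 1876, 5), (7, 1764, 8), (9, 1764, 8)] (.ccons 11 (.split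 932 [(0, 937, 2), (1, 1954, 2), (3, 972, 5), (4, 1460, 9), (6, 1764, 8), (10, 1764, 8)] (.ccons 11 (.split 632 [(0, 857, 5), (1, 746, 4), (2, 2676, 3), (7, 700, 6), (8, 380, 9), (11, 2676, 3)] (.ccons 10 (.split 440 [(0, 937, 4), (1, 474, 5), (2, 1460, 3), (6, 380, 7), (9, 700, 8), (10, 1460, 3)] (.ccons 11 (.split 728 [(0, 1737, 4), (1, 1746, 3), (2, 972, 4), (5, 1656, 7), (8, 972, 4), (10, 1656, 7)] (.ccons 11 (.split 1368 [(0, 1489, 3), (1, 1394, 3), (2, 1876, 3), (5, 1656, 8), (7, 1244, 8), (9, 1656, 8)] (.ccons 11 (.split 920 [(0, 2961, 3), (1, 2954, 4), (2, 972, 4), (5, 2488, 9), (6, 2776, 8), (11, 2776, 8)] (.ccons 10 (.split 488 [(0, 2505, 5), (1, 2530, 3), (2, 972, 5), (4, 2488, 6), (9, 972, 5), (11, 2488, 6)] (.ccons 10 (.split 872 [(0, 1889, 3), (1, 1866, 5), (2, 972, 5), (4, 1656, 8), (7, 1512, 9), (10, 1512, 9)] (.ccons 11 (.split 1704 [(0, 1713,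 3), (1, 1954, 3), (2, 1764, 3), (4, 1944, 5), (6, 1512, 9), (8, 1512, 9)] (.ccons 11 (.split 496 [(0, 1489, 5), (1, 2530, 4), (2, 2516, 5), (3, 1512, 4), (10, 1512, 4), (11, 2488, 6)] (.ccons 9 (.split 1264 [(0, 1489, 5), (1, 1746, 5), (2, 1764, 4), (3, 1512, 4), (8, 1008, 10), (9, 1008, 10)] (.ccons 11 (.split 1840 [(0, 1889, 4), (1, 1954, 4), (2, 1876, 5), (3, 1944, 5), (6, 1008, 10), (7, 1008, 10)] (.ccons 11 (.split 1984 [(0, 1889, 7), (1, 1954, 6), (2, 1764, 8), (3, 1512, 9), (4, 1008, 10), (5, 1008, 10)] (.ccons 11 (.leaf 3) .cnil)) .cnil)) .cnil)) .cnil)) .cnil)) .cnil)) .cnil)) .cnil)) .cnil)) .cnil)) .cnil)) .cnil)) .cnil)) .cnil)) .cnil)) .cnil)) .cnil)) .cnil)) .cnil)) .cnil)) .cnil)) .cnil)) .cnil)) .cnil)) .cnil)) .cnil)) .cnil)) .cnil)) .cnil)) .cnil)) .cnil)) .cnil)) .cnil)) .cnil)) .cnil)) .cnil)) .cnil)) .cnil)) .cnil)) .cnil)) .cnil)) .cnil))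 .cnil)) .cnil)) .cnil)) .cnil)) .cnil)) .cnil)) .cnil)) .cnil)) .cnil)) .cnil)) .cnil)) .cnil)) .cnil)) .cnil)) .cnil)) .cnil)) .cnil)) .cnil)) .cnil)) .cnil)) .cnil)) .cnil)) .cnil)) .cnil)) .cnil)) .cnil)) .cnil)) .cnil)) .cnil)) .cnil)) .cnil)) .cnil)) .cnil)) .cnil)) .cnil)) .cnil)) .cnil)) .cnil)) .cnil)) .cnil)) .cnil)) .cnil)) .cnil)) .cnil)) .cnil)) .cnil)) .cnil)) .cnil)) .cnil)) .cnil)) .cnil)) .cnil)) .cnil)) .cnil)) .cnil)) .cnil)) .cnil)) .cnil)) .cnil)) .cnil))) .cnil)) .cnil)) .cnil)) .cnil)) .cnil)) .cnil)) .cnil)) .cnil)) .cnil)) .cnil)) .cnil)) .cnil)) .cnil)) .cnil)) .cnil)) .cnil)) .cnil)) (.ccons 11 (.split 587 [(2, 1607, 3), (4, 2139, 9), (7, 207, 9), (8, 783, 6), (10, 1607, 3), (11, 2139, 9)] (.ccons 5 (.split 1067 [(2, 1319, 3), (4, 63, 10), (6, 619, 10), (8, 1319, 3), (9, 619, 10), (11, 3087, 5)] (.ccons 7 (.split 299 [(2, 1319, 3), (4,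 63, 8), (6, 619, 8), (7, 1195, 8), (9, 619, 8), (10, 1195, 8)] (.ccons 11 (.split 331 [(2, 783, 6), (4, 2139, 8), (5, 2347, 6), (7, 207, 8), (9, 619, 8), (11, 2347, 6)] (.ccons 10 (.split 283 [(2, 783, 4), (5, 2347, 4), (6, 1355, 4), (9, 783, 4), (10, 1355, 4), (11, 2347, 4)] (.ccons 7 (.split 539 [(2, 2583, 3), (5, 619, 4), (6, 619, 4), (7, 411, 9), (8, 411, 9), (11, 2139, 9)] (.ccons 10 (.split 651 [(2, 679, 3), (4, 1563, 7), (5, 1195, 9), (6, 619, 7), (8, 411, 9), (10, 1563, 7)] (.ccons 11 (.split 307 [(2, 1319, 4), (3, 411, 5), (6, 343, 5), (7, 411, 5), (10, 1319, 4), (11, 2347, 4)] (.ccons 9 (.split 595 [(2, 1607, 4), (3, 1563, 6), (5, 819, 6), (8, 819, 6), (10, 1563, 6), (11, 2139, 9)] (.ccons 7 (.split 115 [(2, 2151, 4), (3, 619, 4), (7, 723, 5), (8, 819, 6), (9, 723, 5), (11, 2139, 5)] (.ccons 10 (.split 179 [(2, 679, 4), (3, 411, 5), (6, 1139, 7), (8,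 819, 7), (9, 723, 5), (10, 1139, 7)] (.ccons 11 (.split 1299 [(2, 1319, 4), (3, 1563, 8), (5, 1139, 8), (6, 1139, 8), (7, 411, 10), (9, 819, 10)] (.ccons 11 (.split 227 [(2, 679, 6), (3, 1195, 6), (4, 2227, 6), (9, 723, 5), (10, 1139, 7), (11, 2227, 6)] (.ccons 8 (.split 1571 [(2, 1319, 9), (3, 1563, 5), (4, 1139, 9), (6, 1139, 9), (7, 1195, 9), (8, 819, 10)] (.ccons 11 (.split 1219 [(2, 1607, 7), (3, 1355, 7), (4, 1139, 7), (5, 483, 10), (8, 483, 10), (9, 723, 10)] (.ccons 11 (.split 835 [(2, 1607, 8), (3, 1355, 9), (4, 723, 8), (5, 483, 9), (7, 483, 9), (10, 1355, 9)] (.ccons 11 (.split 899 [(2, 2439, 9), (3, 2699, 8), (4, 723, 8), (5, 483, 9), (6, 2883, 7), (11, 2883, 7)] (.ccons 10 (.split 93 [(1, 2139, 2), (5, 63, 6), (7, 207, 4), (8, 343, 3), (11, 2139, 2)] (.ccons 9 (.split 157 [(1, 411, 2), (5, 63, 7), (6, 605, 7), (8, 411, 2), (9, 605, 7), (10, 1175,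 3)] (.ccons 11 (.split 285 [(1, 411, 2), (5, 63, 8), (6, 605, 8), (7, 2205, 8), (9, 605, 8), (11, 2205, 8)] (.ccons 10 (.split 173 [(1, 1195, 2), (4, 2205, 5), (6, 207, 5), (9, 679, 3), (10, 1195, 2), (11, 2205, 5)] (.ccons 8 (.split 109 [(1, 619, 2), (4, 605, 5), (7, 429, 6), (8, 429, 6), (9, 605, 5), (11, 2151, 3)] (.ccons 10 (.split 557 [(1, 619, 2), (4, 605, 5), (6, 1133, 9), (7, 429, 9), (8, 429, 9), (10, 1133, 9)] (.ccons 11 (.split 333 [(1, 1355, 2), (4, 1309, 6), (5, 1133, 8), (7, 429, 6), (9, 605, 8), (10, 1133, 8)] (.ccons 11 (.split 653 [(1, 2699, 2), (4, 2205, 9), (5, 2605, 7), (6, 605, 7), (8, 429, 9), (11, 2605, 7)] (.ccons 10 (.split 117 [(1, 1139, 2), (3, 1133, 4), (8, 343, 5), (9, 605, 5), (10, 1133, 4), (11, 2151, 4)] (.ccons 7 (.split 309 [(1, 819, 2), (3, 429, 4), (6, 245, 8), (7, 245, 8), (9, 819, 2), (10, 1309, 5)] (.ccons 11 (.split 565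 [(1, 819, 2), (3, 2605, 4), (6, 245, 9), (7, 245, 9), (8, 2357, 9), (11, 2357, 9)] (.ccons 10 (.split 1109 [(1, 1139, 2), (3, 1133, 4), (5, 1589, 6), (7, 245, 10), (8, 1309, 6), (9, 1589, 6)] (.ccons 11 (.split 405 [(1, 411, 2), (3, 429, 4), (5, 2357, 7), (6, 245, 8), (10, 1309, 7), (11, 2357, 7)] (.ccons 9 (.split 357 [(1, 483, 2), (3, 2381, 5), (4, 2357, 6), (7, 245, 8), (10, 1133, 8), (11, 2357, 6)] (.ccons 9 (.split 1189 [(1, 1195, 2), (3, 1677, 5), (4, 1589, 7), (6, 245, 10), (8, 429, 10), (9, 1589, 7)] (.ccons 11 (.split 453 [(1, 483, 2), (3, 2381, 7), (4, 917, 6), (5, 869, 7), (9, 869, 7), (11, 2381, 7)] (.ccons 10 (.split 709 [(1, 723, 2), (3, 1677, 6), (4, 917, 6), (5, 869, 7), (8, 1477, 9), (10, 1477, 9)] (.ccons 11 (.split 1797 [(1, 1923, 2), (3, 1677, 8), (4, 917, 10), (5, 869, 10), (6, 1477, 9), (7, 1477, 9)] (.ccons 11 (.split 121 [(1, 1139, 3),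 (2, 245, 3), (7, 245, 3), (9, 605, 5), (10, 1133, 4), (11, 2139, 5)] (.ccons 8 (.split 185 [(1, 2227, 3), (2, 245, 3), (6, 377, 7), (8, 377, 7), (10, 1195, 4), (11, 2205, 5)] (.ccons 9 (.split 1081 [(1, 1139, 3), (2, 1589, 3), (6, 377, 10), (7, 697, 10), (8, 377, 10), (9, 697, 10)] (.ccons 11 (.split 217 [(1, 723, 3), (2, 245, 3), (5, 697, 6), (8, 377, 7), (9, 697, 6), (11, 2205, 6)] (.ccons 10 (.split 793 [(1, 819, 3), (2, 917, 3), (5, 697, 8), (6, 377, 9), (7, 697, 8), (10, 1309, 9)] (.ccons 11 (.split 233 [(1, 483, 3), (2, 245, 3), (4, 1241, 5), (8, 377, 7), (9, 697, 6), (10, 1241, 5)] (.ccons 11 (.split 809 [(1, 819, 3), (2, 869, 3), (4, 2841, 5), (6, 377, 9), (7, 697, 8), (11, 2841, 5)] (.ccons 10 (.split 457 [(1, 483, 3), (2, 1477, 3), (4, 1241, 8), (5, 2281, 8), (10, 1241, 8), (11, 2281, 8)] (.ccons 9 (.split 1609 [(1, 1563, 6), (2, 1677, 6), (4, 1241,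 9), (5, 1833, 6), (7, 969, 10), (8, 969, 10)] (.ccons 11 (.split 1417 [(1, 1923, 3), (2, 1477, 3), (4, 1241, 8), (5, 1833, 7), (6, 969, 10), (9, 969, 10)] (.ccons 11 (.split 625 [(1, 1139, 9), (2, 869, 4), (3, 697, 6), (7, 697, 6), (8, 377, 9), (10, 1589, 6)] (.ccons 11 (.split 433 [(1, 483, 4), (2, 917, 5), (3, 697, 8), (6, 377, 7), (9, 697, 8), (11, 2357, 7)] (.ccons 10 (.split 465 [(1, 483, 4), (2, 1477, 4), (3, 969, 4), (5, 1457, 6), (9, 969, 4), (10, 1457, 6)] (.ccons 11 (.split 849 [(1, 2883, 4), (2, 869, 4), (3, 969, 4), (5, 2673, 8), (7, 2513, 9), (11, 2513, 9)] (.ccons 10 (.split 1681 [(1, 1923, 4), (2, 917, 10), (3, 1241, 9), (5, 1457, 9), (6, 1873, 7), (8, 1873, 7)] (.ccons 11 (.split 737 [(1, 483, 9), (2, 2757, 5), (3, 969, 5), (4, 2673, 7), (8, 969, 5), (11, 2673, 7)] (.ccons 10 (.split 1377 [(1, 483, 10), (2, 1477, 5), (3, 1833, 6), (4, 1873, 5),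 (7, 1761, 8), (9, 1761, 8)] (.ccons 11 (.split 929 [(1, 1923, 5), (2, 869, 7), (3, 969, 5), (4, 1457, 9), (6, 1761, 8), (10, 1761, 8)] (.ccons 11 (.split 94 [(0, 605, 1), (5, 63, 6), (7, 207, 4), (8, 343, 3), (9, 605, 1), (11, 2139, 2)] (.ccons 10 (.split 158 [(0, 2205, 1), (5, 63, 7), (6, 1118, 7), (8, 411, 2), (10, 1118, 7), (11, 2205, 1)] (.ccons 9 (.split 286 [(0, 1309, 1), (5, 63, 8), (6, 1118, 8), (7, 670, 8), (9, 670, 8), (10, 1118, 8)] (.ccons 11 (.split 110 [(0, 1133, 1), (4, 1118, 5), (7, 207, 5), (9, 619, 2), (10, 1118, 5), (11, 2151, 3)] (.ccons 8 (.split 174 [(0, 429, 1), (4, 670, 5), (6, 366, 7), (8, 366, 7), (9, 670, 5), (10, 1195, 2)] (.ccons 11 (.split 558 [(0, 2605, 1), (4, 670, 5), (6, 366, 9), (7, 2222, 9), (8, 366, 9), (11, 2222, 9)] (.ccons 10 (.split 590 [(0, 605, 1), (4, 670, 6), (5, 1582, 6), (7, 670, 6), (8, 366, 9), (10, 1582, 6)] (.ccons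 11 (.split 398 [(0, 429, 1), (4, 2334, 7), (5, 2222, 8), (6, 366, 7), (9, 670, 8), (11, 2222, 8)] (.ccons 10 (.split 118 [(0, 245, 1), (3, 366, 4), (7, 245, 1), (8, 366, 4), (10, 1118, 5), (11, 2151, 4)] (.ccons 9 (.split 182 [(0, 245, 1), (3, 2222, 4), (6, 630, 7), (9, 630, 7), (10, 1175, 5), (11, 2222, 4)] (.ccons 8 (.split 1078 [(0, 1589, 1), (3, 1582, 4), (6, 630, 10), (7, 438, 10), (8, 438, 10), (9, 630, 10)] (.ccons 11 (.split 214 [(0, 245, 1), (3, 670, 6), (5, 438, 6), (8, 438, 6), (9, 630, 7), (10, 1118, 7)] (.ccons 11 (.split 790 [(0, 917, 1), (3, 2334, 9), (5, 438, 9), (6, 630, 8), (7, 438, 9), (11, 2334, 9)] (.ccons 10 (.split 230 [(0, 245, 1), (3, 2222, 6), (4, 2262, 5), (8, 438, 6), (9, 630, 7), (11, 2262, 5)] (.ccons 10 (.split 806 [(0, 869, 1), (3, 1582, 8), (4, 1814, 5), (6, 630, 8), (7, 438, 9), (10, 1814, 5)] (.ccons 11 (.split 454 [(0, 1477,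 1), (3, 1422, 6), (4, 2262, 8), (5, 1254, 8), (10, 1254, 8), (11, 2262, 8)] (.ccons 9 (.split 1350 [(0, 1477, 1), (3, 1422, 6), (4, 1814, 6), (5, 1254, 8), (7, 966, 10), (9, 966, 10)] (.ccons 11 (.split 1670 [(0, 1677, 1), (3, 1422, 9), (4, 1814, 7), (5, 1254, 9), (6, 966, 10), (8, 966, 10)] (.ccons 11 (.split 122 [(0, 377, 1), (2, 630, 3), (8, 366, 4), (9, 630, 3), (10, 1118, 5), (11, 2139, 5)] (.ccons 7 (.split 314 [(0, 377, 1), (2, 438, 3), (6, 250, 8), (7, 250, 8), (9, 819, 3), (11, 2334, 5)] (.ccons 10 (.split 570 [(0, 697, 1), (2, 630, 3), (6, 250, 9), (7, 250, 9), (8, 1338, 9), (10, 1338, 9)] (.ccons 11 (.split 346 [(0, 377, 1), (2, 366, 4), (5, 1338, 6), (7, 250, 8), (10, 1338, 6), (11, 2334, 6)] (.ccons 9 (.split 1178 [(0, 1241, 1), (2, 1422, 4), (5, 1338, 7), (6, 250, 10), (8, 1338, 7), (9, 670, 10)] (.ccons 11 (.split 1130 [(0, 1133, 1), (2, 1254, 3),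 (4, 1338, 6), (7, 250, 10), (8, 1338, 6), (9, 1582, 6)] (.ccons 11 (.split 426 [(0, 429, 1), (2, 438, 3), (4, 1338, 7), (6, 250, 8), (10, 1338, 7), (11, 2222, 8)] (.ccons 9 (.split 458 [(0, 969, 1), (2, 966, 3), (4, 858, 7), (5, 938, 6), (9, 938, 6), (10, 1422, 6)] (.ccons 11 (.split 714 [(0, 969, 1), (2, 966, 3), (4, 858, 7), (5, 938, 6), (8, 2506, 9), (11, 2506, 9)] (.ccons 10 (.split 1802 [(0, 1833, 1), (2, 1814, 3), (4, 858, 10), (5, 938, 10), (6, 1738, 8), (7, 1738, 8)] (.ccons 11 (.split 370 [(0, 377, 1), (2, 438, 6), (3, 858, 5), (7, 250, 8), (9, 858, 5), (10, 1338, 6)] (.ccons 11 (.split 690 [(0, 697, 1), (2, 438, 9), (3, 938, 4), (6, 250, 9), (8, 938, 4), (11, 2618, 7)] (.ccons 10 (.split 466 [(0, 2513, 1), (2, 966, 4), (3, 2506, 4), (5, 2418, 7), (9, 858, 7), (11, 2418, 7)] (.ccons 10 (.split 1618 [(0, 1873, 1), (2, 1814, 6), (3, 1738, 4), (5, 1714,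 6), (7, 1490, 9), (8, 1490, 9)] (.ccons 11 (.split 914 [(0, 917, 1), (2, 966, 4), (3, 938, 4), (5, 1714, 8), (6, 1490, 9), (10, 1490, 9)] (.ccons 11 (.split 738 [(0, 1761, 1), (2, 966, 5), (3, 1738, 5), (4, 1714, 6), (8, 938, 6), (10, 1714, 6)] (.ccons 11 (.split 866 [(0, 869, 1), (2, 966, 5), (3, 938, 6), (4, 2418, 9), (7, 2786, 8), (11, 2786, 8)] (.ccons 10 (.split 1442 [(0, 1457, 1), (2, 1254, 8), (3, 938, 10), (4, 1490, 5), (6, 1890, 7), (9, 1890, 7)] (.ccons 11 (.split 124 [(0, 377, 2), (1, 250, 2), (7, 250, 2), (8, 366, 4), (9, 630, 3), (10, 1118, 5)] (.ccons 11 (.split 188 [(0, 697, 2), (1, 250, 2), (6, 2172, 7), (8, 438, 3), (9, 670, 5), (11, 2172, 7)] (.ccons 10 (.split 316 [(0, 377, 2), (1, 1338, 2), (6, 2172, 8), (7, 1212, 8), (10, 1212, 8), (11, 2172, 8)] (.ccons 9 (.split 220 [(0, 1241, 2), (1, 250, 2), (5, 1212, 6), (9, 670, 6), (10, 1212, 6), (11,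 2172, 7)] (.ccons 8 (.split 1564 [(0, 1589, 3), (1, 1814, 3), (5, 828, 10), (6, 1118, 9), (7, 1212, 9), (8, 828, 10)] (.ccons 11 (.split 236 [(0, 2281, 2), (1, 250, 2), (4, 476, 5), (8, 476, 5), (10, 1212, 6), (11, 2172, 7)] (.ccons 9 (.split 1324 [(0, 1833, 2), (1, 1338, 2), (4, 828, 10), (6, 366, 10), (7, 1212, 8), (9, 828, 10)] (.ccons 11 (.split 1228 [(0, 1241, 2), (1, 1738, 2), (4, 476, 10), (5, 748, 10), (8, 476, 10), (9, 748, 10)] (.ccons 11 (.split 844 [(0, 969, 2), (1, 858, 2), (4, 476, 9), (5, 748, 8), (7, 748, 8), (11, 2638, 8)] (.ccons 10 (.split 908 [(0, 969, 2), (1, 938, 2), (4, 476, 9), (5, 748, 8), (6, 1868, 7), (10, 1868, 7)] (.ccons 11 (.split 372 [(0, 377, 2), (1, 2418, 2), (3, 476, 5), (7, 476, 5), (9, 828, 6), (11, 2172, 8)] (.ccons 10 (.split 692 [(0, 697, 2), (1, 1714, 2), (3, 748, 4), (6, 748, 4), (8, 828, 7), (10, 1212, 9)] (.ccons 11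 (.split 724 [(0, 2757, 4), (1, 966, 4), (3, 748, 4), (5, 2740, 6), (8, 476, 9), (11, 2740, 6)] (.ccons 10 (.split 852 [(0, 1873, 2), (1, 858, 2), (3, 1868, 4), (5, 1396, 9), (7, 1748, 8), (10, 1748, 8)] (.ccons 11 (.split 1428 [(0, 1457, 2), (1, 1490, 2), (3, 476, 10), (5, 1396, 7), (6, 1748, 8), (9, 1748, 8)] (.ccons 11 (.split 484 [(0, 1477, 5), (1, 966, 5), (3, 748, 8), (4, 1396, 7), (9, 748, 8), (10, 1396, 7)] (.ccons 11 (.split 1636 [(0, 1761, 2), (1, 1890, 2), (3, 1868, 5), (4, 1748, 5), (7, 1748, 5), (8, 1396, 9)] (.ccons 11 (.split 932 [(0, 2977, 2), (1, 938, 2), (3, 2956, 5), (4, 2740, 8), (6, 2532, 9), (11, 2532, 9)] (.ccons 10 (.split 632 [(0, 2673, 3), (1, 858, 5), (2, 748, 4), (7, 748, 4), (8, 828, 6), (11, 2172, 9)] (.ccons 10 (.split 440 [(0, 1457, 3), (1, 938, 4), (2, 476, 5), (6, 476, 5), (9, 828, 7), (10, 1212, 8)] (.ccons 11 (.split 728 [(0,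 969, 4), (1, 1738, 4), (2, 1748, 3), (5, 1656, 7), (8, 476, 9), (10, 1656, 7)] (.ccons 11 (.split 1368 [(0, 1873, 3), (1, 1490, 3), (2, 1396, 3), (5, 1656, 8), (7, 476, 10), (9, 1656, 8)] (.ccons 11 (.split 920 [(0, 969, 4), (1, 2962, 3), (2, 2956, 4), (5, 2488, 9), (6, 2776, 8), (11, 2776, 8)] (.ccons 10 (.split 488 [(0, 969, 5), (1, 2506, 5), (2, 2532, 3), (4, 2488, 6), (9, 748, 8), (11, 2488, 6)] (.ccons 10 (.split 872 [(0, 969, 5), (1, 1890, 3), (2, 1868, 5), (4, 1656, 8), (7, 1512, 9), (10, 1512, 9)] (.ccons 11 (.split 1704 [(0, 1761, 3), (1, 1714, 3), (2, 1956, 3), (4, 1944, 5), (6, 1512, 9), (8, 1512, 9)] (.ccons 11 (.split 496 [(0, 2513, 5), (1, 1490, 5), (2, 2532, 4), (3, 1512, 4), (10, 1512, 4), (11, 2488, 6)] (.ccons 9 (.split 1264 [(0, 1761, 4), (1, 1490, 5), (2, 1748, 5), (3, 1512, 4), (8, 1008, 10), (9, 1008, 10)] (.ccons 11 (.split 1840 [(0, 1873,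 5), (1, 1890, 4), (2, 1956, 4), (3, 1944, 5), (6, 1008, 10), (7, 1008, 10)] (.ccons 11 (.split 1984 [(0, 1761, 8), (1, 1890, 7), (2, 1956, 6), (3, 1512, 9), (4, 1008, 10), (5, 1008, 10)] (.ccons 11 (.leaf 4) .cnil)) .cnil)) .cnil)) .cnil)) .cnil)) .cnil)) .cnil)) .cnil)) .cnil)) .cnil)) .cnil)) .cnil)) .cnil)) .cnil)) .cnil)) .cnil)) .cnil)) .cnil)) .cnil)) .cnil)) .cnil)) .cnil)) .cnil)) .cnil)) .cnil)) .cnil)) .cnil)) .cnil)) .cnil)) .cnil)) .cnil)) .cnil)) .cnil)) .cnil)) .cnil)) .cnil)) .cnil)) .cnil)) .cnil)) .cnil)) .cnil)) .cnil)) .cnil)) .cnil)) .cnil)) .cnil)) .cnil)) .cnil)) .cnil)) .cnil)) .cnil)) .cnil)) .cnil)) .cnil)) .cnil)) .cnil)) .cnil)) .cnil)) .cnil)) .cnil)) .cnil)) .cnil)) .cnil)) .cnil)) .cnil)) .cnil)) .cnil)) .cnil)) .cnil)) .cnil)) .cnil)) .cnil)) .cnil)) .cnil)) .cnil)) .cnil)) .cnil)) .cnil)) .cnil)) .cnil)) .cnil)) .cnil)) .cnil))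 .cnil)) .cnil)) .cnil)) .cnil)) .cnil)) .cnil)) .cnil)) .cnil)) .cnil)) .cnil)) .cnil)) .cnil)) .cnil)) .cnil)) .cnil)) .cnil)) .cnil)) .cnil)) (.ccons 10 (.split 285 [(1, 411, 2), (5, 63, 8), (6, 1117, 8), (7, 411, 2), (9, 783, 4), (10, 1117, 8)] (.ccons 11 (.split 157 [(1, 411, 2), (5, 63, 7), (6, 1117, 7), (8, 2333, 7), (10, 1117, 7), (11, 2333, 7)] (.ccons 9 (.split 109 [(1, 619, 2), (4, 1117, 5), (7, 207, 5), (9, 619, 2), (10, 1117, 5), (11, 2151, 3)] (.ccons 8 (.split 173 [(1, 1195, 2), (4, 669, 5), (6, 365, 7), (8, 365, 7), (9, 669, 5), (10, 1195, 2)] (.ccons 11 (.split 557 [(1, 619, 2), (4, 669, 5), (6, 365, 9), (7, 2221, 9), (8, 365, 9), (11, 2221, 9)] (.ccons 10 (.split 589 [(1, 619, 2), (4, 669, 6), (5, 1581, 6), (7, 669, 6), (8, 365, 9), (10, 1581, 6)] (.ccons 11 (.split 397 [(1, 411, 2), (4, 669, 8), (5, 2221, 8), (6, 365, 7), (9, 669, 8), (11, 2221,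 8)] (.ccons 10 (.split 309 [(1, 819, 2), (3, 365, 4), (6, 365, 4), (9, 819, 2), (10, 1319, 4), (11, 2333, 5)] (.ccons 7 (.split 117 [(1, 1139, 2), (3, 365, 4), (7, 437, 6), (8, 437, 6), (10, 1117, 5), (11, 2151, 4)] (.ccons 9 (.split 1077 [(1, 1139, 2), (3, 1581, 4), (6, 629, 10), (7, 437, 10), (8, 437, 10), (9, 629, 10)] (.ccons 11 (.split 213 [(1, 723, 2), (3, 669, 6), (5, 629, 7), (8, 437, 6), (9, 629, 7), (10, 1117, 7)] (.ccons 11 (.split 789 [(1, 819, 2), (3, 669, 8), (5, 629, 8), (6, 629, 8), (7, 437, 9), (11, 2333, 9)] (.ccons 10 (.split 229 [(1, 483, 2), (3, 2221, 6), (4, 2261, 5), (8, 437, 6), (9, 629, 7), (11, 2261, 5)] (.ccons 10 (.split 805 [(1, 819, 2), (3, 1581, 8), (4, 1813, 5), (6, 629, 8), (7, 437, 9), (10, 1813, 5)] (.ccons 11 (.split 453 [(1, 483, 2), (3, 1421, 6), (4, 2261, 8), (5, 1253, 8), (10, 1253, 8), (11, 2261, 8)] (.ccons 9 (.split 1349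 [(1, 1355, 2), (3, 1421, 6), (4, 1813, 6), (5, 1253, 8), (7, 965, 10), (9, 965, 10)] (.ccons 11 (.split 1669 [(1, 1923, 2), (3, 1421, 9), (4, 1813, 7), (5, 1253, 9), (6, 965, 10), (8, 965, 10)] (.ccons 11 (.split 121 [(1, 1139, 3), (2, 629, 3), (8, 365, 4), (9, 629, 3), (10, 1117, 5), (11, 2139, 5)] (.ccons 7 (.split 313 [(1, 819, 3), (2, 437, 3), (6, 249, 8), (7, 249, 8), (9, 819, 3), (11, 2333, 5)] (.ccons 10 (.split 569 [(1, 819, 3), (2, 629, 3), (6, 249, 9), (7, 249, 9), (8, 1337, 9), (10, 1337, 9)] (.ccons 11 (.split 345 [(1, 411, 6), (2, 365, 4), (5, 1337, 6), (7, 249, 8), (10, 1337, 6), (11, 2333, 6)] (.ccons 9 (.split 1177 [(1, 1563, 7), (2, 1421, 4), (5, 1337, 7), (6, 249, 10), (8, 1337, 7), (9, 669, 10)] (.ccons 11 (.split 1129 [(1, 1139, 3), (2, 1253, 3), (4, 1337, 6), (7, 249, 10), (8, 1337, 6), (9, 1581, 6)] (.ccons 11 (.split 425 [(1, 483, 3), (2,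 437, 3), (4, 1337, 7), (6, 249, 8), (10, 1337, 7), (11, 2221, 8)] (.ccons 9 (.split 457 [(1, 483, 3), (2, 965, 3), (4, 857, 7), (5, 937, 6), (9, 937, 6), (10, 1421, 6)] (.ccons 11 (.split 713 [(1, 723, 3), (2, 965, 3), (4, 857, 7), (5, 937, 6), (8, 2505, 9), (11, 2505, 9)] (.ccons 10 (.split 1801 [(1, 1923, 3), (2, 1813, 3), (4, 857, 10), (5, 937, 10), (6, 1737, 8), (7, 1737, 8)] (.ccons 11 (.split 369 [(1, 483, 4), (2, 629, 8), (3, 857, 5), (7, 249, 8), (9, 857, 5), (10, 1337, 6)] (.ccons 11 (.split 689 [(1, 2227, 9), (2, 629, 7), (3, 937, 4), (6, 249, 9), (8, 937, 4), (11, 2617, 7)] (.ccons 10 (.split 465 [(1, 483, 4), (2, 965, 4), (3, 2505, 4), (5, 2417, 7), (9, 857, 7), (11, 2417, 7)] (.ccons 10 (.split 1617 [(1, 1139, 9), (2, 1813, 6), (3, 1737, 4), (5, 1713, 6), (7, 1489, 9), (8, 1489, 9)] (.ccons 11 (.split 913 [(1, 1923, 4), (2, 965, 4), (3, 937, 4), (5,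 1713, 8), (6, 1489, 9), (10, 1489, 9)] (.ccons 11 (.split 737 [(1, 483, 9), (2, 965, 5), (3, 1737, 5), (4, 1713, 6), (8, 937, 6), (10, 1713, 6)] (.ccons 11 (.split 865 [(1, 2883, 5), (2, 965, 5), (3, 937, 6), (4, 2417, 9), (7, 2785, 8), (11, 2785, 8)] (.ccons 10 (.split 1441 [(1, 1923, 5), (2, 1253, 8), (3, 937, 10), (4, 1489, 5), (6, 1889, 7), (9, 1889, 7)] (.ccons 11 (.split 94 [(0, 1117, 1), (5, 63, 6), (7, 207, 4), (8, 343, 3), (10, 1117, 1), (11, 2139, 2)] (.ccons 9 (.split 158 [(0, 669, 1), (5, 63, 7), (6, 606, 7), (8, 411, 2), (9, 606, 7), (10, 1175, 3)] (.ccons 11 (.split 286 [(0, 2333, 1), (5, 63, 8), (6, 606, 8), (7, 2206, 8), (9, 606, 8), (11, 2206, 8)] (.ccons 10 (.split 110 [(0, 365, 1), (4, 606, 5), (7, 207, 5), (8, 365, 1), (9, 606, 5), (11, 2151, 3)] (.ccons 10 (.split 174 [(0, 2221, 1), (4, 2206, 5), (6, 1134, 7), (9, 679, 3), (10, 1134, 7), (11,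 2206, 5)] (.ccons 8 (.split 558 [(0, 1581, 1), (4, 606, 5), (6, 1134, 9), (7, 430, 9), (8, 430, 9), (10, 1134, 9)] (.ccons 11 (.split 334 [(0, 365, 1), (4, 1310, 6), (5, 430, 6), (7, 430, 6), (9, 606, 8), (10, 1134, 8)] (.ccons 11 (.split 654 [(0, 669, 1), (4, 2206, 9), (5, 2606, 7), (6, 606, 7), (8, 430, 9), (11, 2606, 7)] (.ccons 10 (.split 118 [(0, 629, 1), (3, 1134, 4), (8, 343, 5), (9, 606, 5), (10, 1134, 4), (11, 2151, 4)] (.ccons 7 (.split 310 [(0, 437, 1), (3, 430, 4), (6, 246, 8), (7, 246, 8), (9, 819, 2), (10, 1310, 5)] (.ccons 11 (.split 566 [(0, 629, 1), (3, 2606, 4), (6, 246, 9), (7, 246, 9), (8, 2358, 9), (11, 2358, 9)] (.ccons 10 (.split 1110 [(0, 1117, 1), (3, 1134, 4), (5, 1590, 6), (7, 246, 10), (8, 1310, 6), (9, 1590, 6)] (.ccons 11 (.split 406 [(0, 437, 1), (3, 430, 4), (5, 2358, 7), (6, 246, 8), (10, 1310, 7), (11, 2358, 7)] (.ccons 9 (.split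 358 [(0, 365, 1), (3, 2382, 5), (4, 2358, 6), (7, 246, 8), (10, 1134, 8), (11, 2358, 6)] (.ccons 9 (.split 1190 [(0, 1253, 1), (3, 1678, 5), (4, 1590, 7), (6, 246, 10), (8, 430, 10), (9, 1590, 7)] (.ccons 11 (.split 454 [(0, 965, 1), (3, 2382, 7), (4, 918, 6), (5, 870, 7), (9, 870, 7), (11, 2382, 7)] (.ccons 10 (.split 710 [(0, 965, 1), (3, 1678, 6), (4, 918, 6), (5, 870, 7), (8, 1478, 9), (10, 1478, 9)] (.ccons 11 (.split 1798 [(0, 1813, 1), (3, 1678, 8), (4, 918, 10), (5, 870, 10), (6, 1478, 9), (7, 1478, 9)] (.ccons 11 (.split 122 [(0, 249, 1), (2, 246, 3), (7, 246, 3), (9, 606, 5), (10, 1134, 4), (11, 2139, 5)] (.ccons 8 (.split 186 [(0, 249, 1), (2, 246, 3), (6, 378, 7), (8, 378, 7), (10, 1195, 4), (11, 2206, 5)] (.ccons 9 (.split 1082 [(0, 1337, 1), (2, 1590, 3), (6, 378, 10), (7, 698, 10), (8, 378, 10), (9, 698, 10)] (.ccons 11 (.split 218 [(0, 249, 1),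 (2, 246, 3), (5, 698, 6), (8, 378, 7), (9, 698, 6), (11, 2206, 6)] (.ccons 10 (.split 794 [(0, 857, 1), (2, 918, 3), (5, 698, 8), (6, 378, 9), (7, 698, 8), (10, 1310, 9)] (.ccons 11 (.split 234 [(0, 249, 1), (2, 246, 3), (4, 1242, 5), (8, 378, 7), (9, 698, 6), (10, 1242, 5)] (.ccons 11 (.split 810 [(0, 937, 1), (2, 870, 3), (4, 2842, 5), (6, 378, 9), (7, 698, 8), (11, 2842, 5)] (.ccons 10 (.split 458 [(0, 2505, 1), (2, 1478, 3), (4, 1242, 8), (5, 2282, 8), (10, 1242, 8), (11, 2282, 8)] (.ccons 9 (.split 1610 [(0, 1737, 1), (2, 1678, 6), (4, 1242, 9), (5, 1834, 6), (7, 970, 10), (8, 970, 10)] (.ccons 11 (.split 1418 [(0, 1421, 1), (2, 1478, 3), (4, 1242, 8), (5, 1834, 7), (6, 970, 10), (9, 970, 10)] (.ccons 11 (.split 626 [(0, 629, 1), (2, 870, 4), (3, 698, 6), (7, 698, 6), (8, 378, 9), (10, 1590, 6)] (.ccons 11 (.split 434 [(0, 437, 1), (2, 918, 5), (3, 698, 8),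 (6, 378, 7), (9, 698, 8), (11, 2358, 7)] (.ccons 10 (.split 466 [(0, 1489, 1), (2, 1478, 4), (3, 970, 4), (5, 1458, 6), (9, 970, 4), (10, 1458, 6)] (.ccons 11 (.split 850 [(0, 857, 1), (2, 870, 4), (3, 970, 4), (5, 2674, 8), (7, 2514, 9), (11, 2514, 9)] (.ccons 10 (.split 1682 [(0, 1713, 1), (2, 918, 10), (3, 1242, 9), (5, 1458, 9), (6, 1874, 7), (8, 1874, 7)] (.ccons 11 (.split 738 [(0, 2785, 1), (2, 2758, 5), (3, 970, 5), (4, 2674, 7), (8, 970, 5), (11, 2674, 7)] (.ccons 10 (.split 1378 [(0, 1889, 1), (2, 1478, 5), (3, 1834, 6), (4, 1874, 5), (7, 1762, 8), (9, 1762, 8)] (.ccons 11 (.split 930 [(0, 937, 1), (2, 870, 7), (3, 970, 5), (4, 1458, 9), (6, 1762, 8), (10, 1762, 8)] (.ccons 11 (.split 124 [(0, 249, 2), (1, 378, 2), (7, 246, 3), (8, 378, 2), (9, 606, 5), (10, 1134, 4)] (.ccons 11 (.split 188 [(0, 249, 2), (1, 698, 2), (6, 2172, 7), (8, 430, 4), (9, 698,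 2), (11, 2172, 7)] (.ccons 10 (.split 316 [(0, 1337, 2), (1, 378, 2), (6, 2172, 8), (7, 1212, 8), (10, 1212, 8), (11, 2172, 8)] (.ccons 9 (.split 220 [(0, 249, 2), (1, 1242, 2), (5, 1212, 6), (9, 606, 7), (10, 1212, 6), (11, 2172, 7)] (.ccons 8 (.split 1564 [(0, 1813, 3), (1, 1590, 3), (5, 828, 10), (6, 606, 10), (7, 1212, 9), (8, 828, 10)] (.ccons 11 (.split 236 [(0, 249, 2), (1, 2282, 2), (4, 476, 5), (8, 476, 5), (10, 1212, 6), (11, 2172, 7)] (.ccons 9 (.split 1324 [(0, 1337, 2), (1, 1834, 2), (4, 828, 10), (6, 1134, 8), (7, 1212, 8), (9, 828, 10)] (.ccons 11 (.split 1228 [(0, 1737, 2), (1, 1242, 2), (4, 476, 10), (5, 748, 10), (8, 476, 10), (9, 748, 10)] (.ccons 11 (.split 844 [(0, 857, 2), (1, 970, 2), (4, 476, 9), (5, 748, 8), (7, 748, 8), (11, 2382, 9)] (.ccons 10 (.split 908 [(0, 937, 2), (1, 970, 2), (4, 476, 9), (5, 748, 8), (6, 1868, 7), (10, 1868,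 7)] (.ccons 11 (.split 372 [(0, 2417, 2), (1, 378, 2), (3, 476, 5), (7, 476, 5), (9, 828, 6), (11, 2172, 8)] (.ccons 10 (.split 692 [(0, 1713, 2), (1, 698, 2), (3, 748, 4), (6, 748, 4), (8, 828, 7), (10, 1212, 9)] (.ccons 11 (.split 724 [(0, 965, 4), (1, 2758, 4), (3, 748, 4), (5, 2740, 6), (8, 476, 9), (11, 2740, 6)] (.ccons 10 (.split 852 [(0, 857, 2), (1, 1874, 2), (3, 1868, 4), (5, 1396, 9), (7, 1748, 8), (10, 1748, 8)] (.ccons 11 (.split 1428 [(0, 1489, 2), (1, 1458, 2), (3, 476, 10), (5, 1396, 7), (6, 1748, 8), (9, 1748, 8)] (.ccons 11 (.split 484 [(0, 965, 5), (1, 1478, 5), (3, 748, 8), (4, 1396, 7), (9, 748, 8), (10, 1396, 7)] (.ccons 11 (.split 1636 [(0, 1889, 2), (1, 1762, 2), (3, 1868, 5), (4, 1748, 5), (7, 1748, 5), (8, 1396, 9)] (.ccons 11 (.split 932 [(0, 937, 2), (1, 2978, 2), (3, 2956, 5), (4, 2740, 8), (6, 2532, 9), (11, 2532, 9)] (.ccons 10 (.split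 632 [(0, 857, 5), (1, 2674, 3), (2, 748, 4), (7, 748, 4), (8, 828, 6), (11, 2172, 9)] (.ccons 10 (.split 440 [(0, 937, 4), (1, 1458, 3), (2, 476, 5), (6, 476, 5), (9, 828, 7), (10, 1212, 8)] (.ccons 11 (.split 728 [(0, 1737, 4), (1, 970, 4), (2, 1748, 3), (5, 1656, 7), (8, 476, 9), (10, 1656, 7)] (.ccons 11 (.split 1368 [(0, 1489, 3), (1, 1874, 3), (2, 1396, 3), (5, 1656, 8), (7, 476, 10), (9, 1656, 8)] (.ccons 11 (.split 920 [(0, 2961, 3), (1, 970, 4), (2, 2956, 4), (5, 2488, 9), (6, 2776, 8), (11, 2776, 8)] (.ccons 10 (.split 488 [(0, 2505, 5), (1, 970, 5), (2, 2532, 3), (4, 2488, 6), (9, 748, 8), (11, 2488, 6)] (.ccons 10 (.split 872 [(0, 1889, 3), (1, 970, 5), (2, 1868, 5), (4, 1656, 8), (7, 1512, 9), (10, 1512, 9)] (.ccons 11 (.split 1704 [(0, 1713, 3), (1, 1762, 3), (2, 1956, 3), (4, 1944, 5), (6, 1512, 9), (8, 1512, 9)] (.ccons 11 (.split 496 [(0, 1489,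 5), (1, 2514, 5), (2, 2532, 4), (3, 1512, 4), (10, 1512, 4), (11, 2488, 6)] (.ccons 9 (.split 1264 [(0, 1489, 5), (1, 1762, 4), (2, 1748, 5), (3, 1512, 4), (8, 1008, 10), (9, 1008, 10)] (.ccons 11 (.split 1840 [(0, 1889, 4), (1, 1874, 5), (2, 1956, 4), (3, 1944, 5), (6, 1008, 10), (7, 1008, 10)] (.ccons 11 (.split 1984 [(0, 1889, 7), (1, 1762, 8), (2, 1956, 6), (3, 1512, 9), (4, 1008, 10), (5, 1008, 10)] (.ccons 11 (.leaf 5) .cnil)) .cnil)) .cnil)) .cnil)) .cnil)) .cnil)) .cnil)) .cnil)) .cnil)) .cnil)) .cnil)) .cnil)) .cnil)) .cnil)) .cnil)) .cnil)) .cnil)) .cnil)) .cnil)) .cnil)) .cnil)) .cnil)) .cnil)) .cnil)) .cnil)) .cnil)) .cnil)) .cnil)) .cnil)) .cnil)) .cnil)) .cnil)) .cnil)) .cnil)) .cnil)) .cnil)) .cnil)) .cnil)) .cnil)) .cnil)) .cnil)) .cnil)) .cnil)) .cnil)) .cnil)) .cnil)) .cnil)) .cnil)) .cnil)) .cnil)) .cnil)) .cnil)) .cnil)) .cnil)) .cnil)) .cnil))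 .cnil)) .cnil)) .cnil)) .cnil)) .cnil)) .cnil)) .cnil)) .cnil)) .cnil)) .cnil)) .cnil)) .cnil)) .cnil)) .cnil)) .cnil)) .cnil)) .cnil)) .cnil)) .cnil)) .cnil)) .cnil)) .cnil)) .cnil)) .cnil)) .cnil)) .cnil)) .cnil)) .cnil)) .cnil)) .cnil)) .cnil)) .cnil)) .cnil)) .cnil)) .cnil)) .cnil)) .cnil)) .cnil)) .cnil)) .cnil)) .cnil)) .cnil)) .cnil)) .cnil)) .cnil)) .cnil))) .cnil)) .cnil)) .cnil)) .cnil)) .cnil)) .cnil)) .cnil)) .cnil)) .cnil)) .cnil)) .cnil)) .cnil)) .cnil)) .cnil)) .cnil)) .cnil)) .cnil)) .cnil)))) .cnil)) .cnil)) .cnil)) .cnil)) .cnil)) .cnil)) .cnil)) .cnil))) .cnil)) .cnil)) .cnil))) .cnil)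

set_option maxRecDepth 100000 in
theorem tree_ok : chk 12 6 F tree none 5 [] = true := by decide +kernel

/-- Relabelling tables carrying the standard list to each final list. -/
def T : List (List Nat) := [
  [0, 1, 2, 3, 4, 5, 6, 7, 8, 9, 10, 11],
  [0, 1, 2, 3, 4, 5, 7, 6, 10, 11, 8, 9],
  [0, 1, 2, 3, 4, 5, 11, 10, 9, 8, 7, 6],
  [0, 1, 2, 3, 4, 5, 10, 11, 7, 6, 9, 8],
  [0, 1, 2, 3, 4, 5, 9, 8, 11, 10, 6, 7],
  [0, 1, 2, 3, 4, 5, 8, 9, 6, 7, 11, 10]]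

/-- The inverse tables. -/
def T' : List (List Nat) := [
  [0, 1, 2, 3, 4, 5, 6, 7, 8, 9, 10, 11],
  [0, 1, 2, 3, 4, 5, 7, 6, 10, 11, 8, 9],
  [0, 1, 2, 3, 4, 5, 11, 10, 9, 8, 7, 6],
  [0, 1, 2, 3, 4, 5, 9, 8, 11, 10, 6, 7],
  [0, 1, 2, 3, 4, 5, 10, 11, 7, 6, 9, 8],
  [0, 1, 2, 3, 4, 5, 8, 9, 6, 7, 11, 10]]

theorem tab_ok : ∀ j, j < 6 → (tabOK 12 (T.getD j []) (T'.getD j []) &&
    L.all (fun m => (F.getD j []).contains (pmask 12 (T'.getD j []) m)) &&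
    (List.range 5).all (fun i => (T.getD j []).getD i 0 == i)) = true := by decide +kernel

theorem F_length : F.length = 6 := by decide

theorem L_nodup : L.Nodup := by decide +kernel

theorem L_lt : ∀ m ∈ L, m < 2 ^ 12 := by decide +kernel

theorem L_length : L.length = 132 := by decide +kernel

/-- The agreement list after the first propagation step. -/
def A1 : List (Nat × Nat) := [(5, 5), (4, 4), (3, 3), (2, 2), (1, 1), (0, 0)]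

theorem run_first : run 12 6 L [(31, 31, 5, 5)] [(4, 4), (3, 3), (2, 2), (1, 1), (0, 0)] = some A1 := by decide +kernel

/-- Rigidity certificates. -/
def certs : List (Nat × List (Nat × Nat × Nat × Nat) × (Nat × Nat × Nat × Nat)) := [
  (6, [(79, 79, 7, 7), (87, 87, 8, 8), (271, 271, 9, 9), (151, 151, 10, 10), (1039, 1039, 11, 11)], (0, 0, 0, 0)),
  (7, [(143, 79, 6, 7), (87, 151, 8, 10), (271, 1039, 9, 11), (151, 87, 10, 8), (1039, 271, 11, 9)], (365, 1197, 1198, 0)),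
  (8, [(271, 79, 9, 7), (279, 87, 6, 8), (79, 271, 7, 9), (151, 535, 10, 11), (1039, 2063, 11, 10)], (243, 819, 822, 0)),
  (9, [(527, 79, 8, 7), (279, 151, 6, 10), (79, 1039, 7, 11), (151, 2071, 10, 9), (1039, 527, 11, 8)], (243, 3123, 1587, 11)),
  (10, [(1039, 79, 11, 7), (1047, 87, 7, 8), (143, 271, 6, 9), (87, 535, 8, 11), (271, 2063, 9, 10)], (243, 819, 822, 0)),
  (11, [(2063, 79, 10, 7), (1047, 151, 7, 10), (143, 1039, 6, 11), (87, 2071, 8, 9), (271, 527, 9, 8)], (243, 3123, 1587, 11))]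

theorem certs_ok : certOK 12 6 L A1 6 certs = true := by decide +kernel

end Cfsg.Agent.Lib.Helper86.St12Data
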