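import Cfsg.Agent.Lib.Helper86.SteinerTree
import Cfsg.Agent.Lib.Helper8.Steiner
import Cfsg.Agent.Lib.Helper8.AutTransport

set_option autoImplicit false

/-!
# Full labellings of Steiner systems `S(k - 1, k, v)`

A labelling realising a complete list of blocks gives an isomorphism with the standard system of
the list; relabelling by a table; rigidity of labellings by propagation along blocks; and the
resulting sharp transitivity of the automorphism group.
-/

namespace Cfsg.Agent.Lib.Helper86.SteinerLabel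

open Cfsg.Agent.Lib.Helper86.SteinerTree Cfsg.Agent.Lib.Helper8.Steiner

variable {α : Type*} [DecidableEq α]

/-- A labelling of all points realising a list of blocks. -/
structure Lab (B : Set (Finset α)) (v : Nat) (L : List Nat) (ℓ : ℕ → α) : Prop where
  inj : ∀ i j, i < v → j < v → ℓ i = ℓ j → i = j
  mem : ∀ m ∈ L, (bits v m).image ℓ ∈ B

/-! ### Relabelling -/

/-- The tables `τ` and `τ'` are mutually inverse permutations of the labels. -/
def tabOK (v : Nat) (τ τ' : List Nat) : Bool :=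
  (List.range v).all (fun i => decide (τ.getD i 0 < v) && (τ'.getD (τ.getD i 0) 0 == i) &&
    decide (τ'.getD i 0 < v) && (τ.getD (τ'.getD i 0) 0 == i))

theorem tabOK_spec {v : Nat} {τ τ' : List Nat} (h : tabOK v τ τ' = true) {i : Nat} (hi : i < v) :
    τ.getD i 0 < v ∧ τ'.getD (τ.getD i 0) 0 = i ∧ τ'.getD i 0 < v ∧ τ.getD (τ'.getD i 0) 0 = i := by
  simp only [tabOK, List.all_eq_true, List.mem_range, Bool.and_eq_true, decide_eq_true_eq,
    beq_iff_eq] at h
  obtain ⟨⟨⟨h1, h2⟩, h3⟩, h4⟩ := h i hi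
  exact ⟨h1, h2, h3, h4⟩

/-- The image of a mask under the permutation with inverse table `τ'`. -/
def pmask (v : Nat) (τ' : List Nat) (m : Nat) : Nat :=
  Nat.ofBits (fun j : Fin v => m.testBit (τ'.getD j 0))

theorem bits_pmask {v : Nat} {τ τ' : List Nat} (h : tabOK v τ τ' = true) (m : Nat) :
    bits v (pmask v τ' m) = (bits v m).image (fun i => τ.getD i 0) := by
  ext j
  rw [mem_bits, pmask, Nat.testBit_ofBits, Finset.mem_image]
  constructor
  · rintro ⟨hj, h1⟩
    rw [dif_pos hj] at h1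
    obtain ⟨-, -, h3, h4⟩ := tabOK_spec h hj
    exact ⟨τ'.getD j 0, mem_bits.mpr ⟨h3, h1⟩, h4⟩
  · rintro ⟨i, hi, rfl⟩
    obtain ⟨hiv, hit⟩ := mem_bits.mp hi
    obtain ⟨h1, h2, -, -⟩ := tabOK_spec h hiv
    refine ⟨h1, ?_⟩
    rw [dif_pos h1]
    show m.testBit (τ'.getD (τ.getD i 0) 0) = true
    rw [h2]; exact hit

theorem Lab.relabel {B : Set (Finset α)} {v : Nat} {L L₀ : List Nat} {ℓ : ℕ → α}
    (h : Lab B v L ℓ) {τ τ' : List Nat} (hτ : tabOK v τ τ' = true)
    (hchk : L₀.all (fun m => L.contains (pmask v τ' m)) = true) :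
    Lab B v L₀ (fun i => ℓ (τ.getD i 0)) := by
  refine ⟨?_, ?_⟩
  · intro i j hi hj hij
    obtain ⟨h1, h2, -, -⟩ := tabOK_spec hτ hi
    obtain ⟨h1', h2', -, -⟩ := tabOK_spec hτ hj
    have := h.inj _ _ h1 h1' hij
    rw [← h2, ← h2', this]
  · intro m hm
    have h1 := List.all_eq_true.mp hchk m hm
    rw [List.contains_iff_mem] at h1
    have h2 := h.mem _ h1
    rw [bits_pmask hτ, Finset.image_image] at h2
    exact h2

/-! ### Completeness -/

theorem mask_eq_of_bits {v m m' : Nat} (hm : m < 2 ^ v) (hm' : m' < 2 ^ v)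
    (h : bits v m = bits v m') : m = m' := by
  apply Nat.eq_of_testBit_eq
  intro i
  by_cases hi : i < v
  · have h1 : i ∈ bits v m ↔ i ∈ bits v m' := by rw [h]
    rw [mem_bits, mem_bits] at h1
    rw [Bool.eq_iff_iff]
    constructor
    · intro h2; exact (h1.mp ⟨hi, h2⟩).2
    · intro h2; exact (h1.mpr ⟨hi, h2⟩).2
  · have e1 : m.testBit i = false := by
      by_contra hc
      rw [Bool.not_eq_false] at hc
      exact hi (testBit_lt hm hc)
    have e2 : m'.testBit i = false := by
      by_contra hc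
      rw [Bool.not_eq_false] at hc
      exact hi (testBit_lt hm' hc)
    rw [e1, e2]

theorem bits_eq_of_image {v : Nat} {ℓ : ℕ → α}
    (hinj : ∀ i j, i < v → j < v → ℓ i = ℓ j → i = j) {m m' : Nat}
    (h : (bits v m).image ℓ = (bits v m').image ℓ) : bits v m = bits v m' := by
  have key : ∀ a b : Nat, (bits v a).image ℓ = (bits v b).image ℓ → bits v a ⊆ bits v b := by
    intro a b hab i hi
    have : ℓ i ∈ (bits v b).image ℓ := by rw [← hab]; exact Finset.mem_image_of_mem _ hi
    obtain ⟨j, hj, hji⟩ := Finset.mem_image.mp this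
    have := hinj j i (mem_bits.mp hj).1 (mem_bits.mp hi).1 hji
    rw [← this]; exact hj
  exact Finset.Subset.antisymm (key m m' h) (key m' m h.symm)

theorem Lab.exists_mask [Fintype α] {B : Set (Finset α)} {v : Nat} {L : List Nat} {ℓ : ℕ → α}
    (h : Lab B v L ℓ) (hnd : L.Nodup) (hlt : ∀ m ∈ L, m < 2 ^ v)
    (hcard : (blocks B).card = L.length) {b : Finset α} (hb : b ∈ B) :
    ∃ m ∈ L, b = (bits v m).image ℓ := by
  classical
  have hsub : L.toFinset.image (fun m => (bits v m).image ℓ) ⊆ blocks B := by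
    intro c hc
    obtain ⟨m, hm, rfl⟩ := Finset.mem_image.mp hc
    exact mem_blocks.mpr (h.mem m (List.mem_toFinset.mp hm))
  have hc : (L.toFinset.image (fun m => (bits v m).image ℓ)).card = L.length := by
    rw [Finset.card_image_of_injOn, List.toFinset_card_of_nodup hnd]
    intro m hm m' hm' hmm
    have hm1 := List.mem_toFinset.mp (Finset.mem_coe.mp hm)
    have hm2 := List.mem_toFinset.mp (Finset.mem_coe.mp hm')
    exact mask_eq_of_bits (hlt m hm1) (hlt m' hm2) (bits_eq_of_image h.inj hmm)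
  have heq := Finset.eq_of_subset_of_card_le hsub (by rw [hc, hcard])
  have hb' : b ∈ L.toFinset.image (fun m => (bits v m).image ℓ) := by
    rw [heq]; exact mem_blocks.mpr hb
  obtain ⟨m, hm, rfl⟩ := Finset.mem_image.mp hb'
  exact ⟨m, List.mem_toFinset.mp hm, rfl⟩

/-! ### The standard system of a list of masks -/

/-- The set of labels of a mask, as a finset of `Fin v`. -/
def fbits (v m : Nat) : Finset (Fin v) := Finset.univ.filter (fun i : Fin v => m.testBit i = true)

/-- The set system on `Fin v` given by a list of masks. -/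
def Sys (v : Nat) (L : List Nat) : Set (Finset (Fin v)) := {b | ∃ m ∈ L, b = fbits v m}

theorem Lab.exists_equiv [Fintype α] {B : Set (Finset α)} {v : Nat} {L : List Nat} {ℓ : ℕ → α}
    (hv : Fintype.card α = v) (h : Lab B v L ℓ) (hnd : L.Nodup) (hlt : ∀ m ∈ L, m < 2 ^ v)
    (hcard : (blocks B).card = L.length) :
    ∃ e : α ≃ Fin v, (∀ i (hi : i < v), e (ℓ i) = ⟨i, hi⟩) ∧
      (fun b : Finset α => b.image e) '' B = Sys v L := by
  have hbij : Function.Bijective (fun i : Fin v => ℓ i) := by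
    constructor
    · intro i j hij
      exact Fin.ext (h.inj i j i.2 j.2 hij)
    · intro x
      obtain ⟨p, hp, hpx⟩ := exists_label hv h.inj x
      exact ⟨⟨p, hp⟩, hpx⟩
  let e₀ : Fin v ≃ α := Equiv.ofBijective _ hbij
  have he : ∀ i (hi : i < v), e₀.symm (ℓ i) = ⟨i, hi⟩ := by
    intro i hi
    rw [Equiv.symm_apply_eq]
    rfl
  have himg : ∀ m : Nat, ((bits v m).image ℓ).image e₀.symm = fbits v m := by
    intro m
    ext j
    simp only [Finset.mem_image, fbits, Finset.mem_filter, Finset.mem_univ, true_and]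
    constructor
    · rintro ⟨x, ⟨i, hi, rfl⟩, rfl⟩
      rw [he i (mem_bits.mp hi).1]
      exact (mem_bits.mp hi).2
    · intro hj
      exact ⟨ℓ j, ⟨j, mem_bits.mpr ⟨j.2, hj⟩, rfl⟩, he j j.2⟩
  refine ⟨e₀.symm, he, ?_⟩
  ext c
  constructor
  · rintro ⟨b, hb, rfl⟩
    obtain ⟨m, hm, rfl⟩ := h.exists_mask hnd hlt hcard hb
    exact ⟨m, hm, himg m⟩
  · rintro ⟨m, hm, rfl⟩
    exact ⟨(bits v m).image ℓ, h.mem m hm, himg m⟩

end Cfsg.Agent.Lib.Helper86.SteinerLabel
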