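import Cfsg.Agent.Lib.Helper86.SteinerLabel

set_option autoImplicit false

/-!
# Rigidity of labellings of a Steiner system

Two labellings realising the same list of blocks and agreeing on some labels agree on more
labels, by propagation along blocks; certificates for all possible images of one further label
show that the two labellings agree everywhere.
-/

namespace Cfsg.Agent.Lib.Helper86.SteinerRigid

open Cfsg.Agent.Lib.Helper86.SteinerTree Cfsg.Agent.Lib.Helper86.SteinerLabel

variable {α : Type*} [DecidableEq α]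

/-- The pairs `(i, i')` of the list satisfy `ℓ i = ℓ' i'`. -/
def Agree (ℓ ℓ' : ℕ → α) (A : List (Nat × Nat)) : Prop := ∀ a ∈ A, ℓ a.1 = ℓ' a.2

/-- Every label of `s` is paired with a label of `s'`. -/
def mapsOK (v : Nat) (A : List (Nat × Nat)) (s s' : Nat) : Bool :=
  (List.range v).all (fun i => !s.testBit i || A.any (fun a => a.1 == i && s'.testBit a.2))

theorem image_subset_of_maps {ℓ ℓ' : ℕ → α} {A : List (Nat × Nat)} (hA : Agree ℓ ℓ' A)
    {v s s' : Nat} (hs' : s' < 2 ^ v) (h : mapsOK v A s s' = true) :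
    (bits v s).image ℓ ⊆ (bits v s').image ℓ' := by
  intro x hx
  obtain ⟨i, hi, rfl⟩ := Finset.mem_image.mp hx
  obtain ⟨hiv, hit⟩ := mem_bits.mp hi
  simp only [mapsOK, List.all_eq_true, List.mem_range, Bool.or_eq_true, Bool.not_eq_true',
    List.any_eq_true, Bool.and_eq_true, beq_iff_eq] at h
  rcases h i hiv with h1 | ⟨a, ha, rfl, h2⟩
  · rw [hit] at h1; exact absurd h1 (by decide)
  · rw [hA a ha]
    exact Finset.mem_image_of_mem _ (mem_bits.mpr ⟨testBit_lt hs' h2, h2⟩)

/-- One propagation step `(s, s', c, c')`. -/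
def stepOK (v k : Nat) (L : List Nat) (A : List (Nat × Nat)) (e : Nat × Nat × Nat × Nat) : Bool :=
  decide (e.1 < 2 ^ v) && decide (e.2.1 < 2 ^ v) && (popc v e.1 == k - 1) &&
    (popc v e.2.1 == k - 1) && decide (e.2.2.1 < v) && decide (e.2.2.2 < v) &&
    !e.1.testBit e.2.2.1 && L.contains (e.1 ||| 2 ^ e.2.2.1) &&
    L.contains (e.2.1 ||| 2 ^ e.2.2.2) && mapsOK v A e.1 e.2.1

/-- Run a list of propagation steps. -/
def run (v k : Nat) (L : List Nat) :
    List (Nat × Nat × Nat × Nat) → List (Nat × Nat) → Option (List (Nat × Nat))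
  | [], A => some A
  | e :: es, A => if stepOK v k L A e then run v k L es ((e.2.2.1, e.2.2.2) :: A) else none

theorem step_sound {B : Set (Finset α)} {v k : Nat} (hB : Cfsg.IsSteinerSystem (k - 1) k B)
    {L : List Nat} {ℓ ℓ' : ℕ → α} (hℓ : Lab B v L ℓ) (hℓ' : Lab B v L ℓ')
    {A : List (Nat × Nat)} (hA : Agree ℓ ℓ' A) {e : Nat × Nat × Nat × Nat}
    (h : stepOK v k L A e = true) : ℓ e.2.2.1 = ℓ' e.2.2.2 := by
  obtain ⟨s, s', c, c'⟩ := e
  simp only [stepOK, Bool.and_eq_true, decide_eq_true_eq, beq_iff_eq, Bool.not_eq_true',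
    List.contains_iff_mem] at h
  obtain ⟨⟨⟨⟨⟨⟨⟨⟨⟨hs, hs'⟩, hp⟩, hp'⟩, hc⟩, hc'⟩, hsc⟩, hm⟩, hm'⟩, hmaps⟩ := h
  have hsub := image_subset_of_maps hA hs' hmaps
  have hS : ((bits v s).image ℓ).card = k - 1 := by rw [card_image_bits hℓ.inj hs, hp]
  have hS' : ((bits v s').image ℓ').card = k - 1 := by rw [card_image_bits hℓ'.inj hs', hp']
  have heq : (bits v s).image ℓ = (bits v s').image ℓ' :=
    Finset.eq_of_subset_of_card_le hsub (by rw [hS, hS'])
  have hb1 := hℓ.mem _ hm
  have hb2 := hℓ'.mem _ hm'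
  rw [image_or_pow hc] at hb1
  rw [image_or_pow hc'] at hb2
  obtain ⟨d, -, huniq⟩ := hB.2 _ hS
  have e1 := huniq _ ⟨hb1, Finset.subset_insert _ _⟩
  have e2 := huniq _ ⟨hb2, by rw [heq]; exact Finset.subset_insert _ _⟩
  have h3 : ℓ c ∈ insert (ℓ' c') ((bits v s').image ℓ') := by
    rw [e2, ← e1]; exact Finset.mem_insert_self _ _
  rcases Finset.mem_insert.mp h3 with h4 | h4
  · exact h4
  · exfalso
    rw [← heq] at h4
    obtain ⟨i, hi, hic⟩ := Finset.mem_image.mp h4
    have := hℓ.inj i c (mem_bits.mp hi).1 hc hic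
    subst this
    rw [(mem_bits.mp hi).2] at hsc
    exact absurd hsc (by decide)

theorem run_sound {B : Set (Finset α)} {v k : Nat} (hB : Cfsg.IsSteinerSystem (k - 1) k B)
    {L : List Nat} {ℓ ℓ' : ℕ → α} (hℓ : Lab B v L ℓ) (hℓ' : Lab B v L ℓ') :
    ∀ (es : List (Nat × Nat × Nat × Nat)) (A A' : List (Nat × Nat)), Agree ℓ ℓ' A →
      run v k L es A = some A' → Agree ℓ ℓ' A'
  | [], A, A', hA, h => by
    simp only [run, Option.some.injEq] at h
    subst h; exact hA
  | e :: es, A, A', hA, h => by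
    simp only [run] at h
    split_ifs at h with h1
    apply run_sound hB hℓ hℓ' es _ A' _ h
    intro a ha
    rcases List.mem_cons.mp ha with rfl | ha'
    · exact step_sound hB hℓ hℓ' hA h1
    · exact hA a ha'

/-- `(m, mT, m'', q)`: the block `m` is carried to `mT`, which meets the block `m''` in all
points but `q`. -/
def contraOK (v k : Nat) (L : List Nat) (A : List (Nat × Nat)) (e : Nat × Nat × Nat × Nat) :
    Bool :=
  L.contains e.1 && decide (e.2.1 < 2 ^ v) && (popc v e.2.1 == k) && mapsOK v A e.1 e.2.1 &&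
    L.contains e.2.2.1 && e.2.1.testBit e.2.2.2 && (e.2.2.1 &&& e.2.1 == e.2.1 ^^^ 2 ^ e.2.2.2)

theorem contra_absurd {B : Set (Finset α)} {v k : Nat} (hB : Cfsg.IsSteinerSystem (k - 1) k B)
    {L : List Nat} {ℓ ℓ' : ℕ → α} (hℓ : Lab B v L ℓ) (hℓ' : Lab B v L ℓ')
    (hlt : ∀ m ∈ L, m < 2 ^ v) {A : List (Nat × Nat)} (hA : Agree ℓ ℓ' A)
    {e : Nat × Nat × Nat × Nat} (h : contraOK v k L A e = true) : False := by
  obtain ⟨m, mT, m'', q⟩ := e
  simp only [contraOK, Bool.and_eq_true, decide_eq_true_eq, beq_iff_eq,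
    List.contains_iff_mem] at h
  obtain ⟨⟨⟨⟨⟨⟨hm, hmT⟩, hp⟩, hmaps⟩, hm''⟩, hq⟩, hand⟩ := h
  have hsub := image_subset_of_maps hA hmT hmaps
  have hb := hℓ.mem _ hm
  have hc1 : ((bits v m).image ℓ).card = k := hB.1 _ hb
  have hc2 : ((bits v mT).image ℓ').card = k := by rw [card_image_bits hℓ'.inj hmT, hp]
  have heq := Finset.eq_of_subset_of_card_le hsub (by rw [hc1, hc2])
  rw [heq] at hb
  exact excl_absurd hB hℓ'.inj (hlt _ hm'') hmT (le_refl v) (hℓ'.mem _ hm'') hb hq hand

/-- All labels are paired with themselves. -/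
def idOK (v : Nat) (A : List (Nat × Nat)) : Bool :=
  (List.range v).all (fun i => A.contains (i, i))

/-- Certificates for every possible label `c` with `ℓ c = ℓ' x`. -/
def certOK (v k : Nat) (L : List Nat) (A₀ : List (Nat × Nat)) (x : Nat)
    (certs : List (Nat × List (Nat × Nat × Nat × Nat) × (Nat × Nat × Nat × Nat))) : Bool :=
  (List.range v).all (fun c => A₀.any (fun a => a.1 == c && a.2 != x && decide (a.2 < v)) ||
    certs.any (fun e => e.1 == c &&
      match run v k L e.2.1 ((c, x) :: A₀) with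
      | some A => idOK v A || contraOK v k L A e.2.2
      | none => false))

theorem rigid [Fintype α] {B : Set (Finset α)} {v k : Nat} (hv : Fintype.card α = v)
    (hB : Cfsg.IsSteinerSystem (k - 1) k B) {L : List Nat} {ℓ ℓ' : ℕ → α} (hℓ : Lab B v L ℓ)
    (hℓ' : Lab B v L ℓ') (hlt : ∀ m ∈ L, m < 2 ^ v) {A₀ : List (Nat × Nat)}
    (hA₀ : Agree ℓ ℓ' A₀) {x : Nat} (hx : x < v)
    {certs : List (Nat × List (Nat × Nat × Nat × Nat) × (Nat × Nat × Nat × Nat))}
    (h : certOK v k L A₀ x certs = true) : ∀ i, i < v → ℓ i = ℓ' i := by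
  obtain ⟨c, hc, hcx⟩ := exists_label hv hℓ.inj (ℓ' x)
  simp only [certOK, List.all_eq_true, List.mem_range, Bool.or_eq_true, List.any_eq_true,
    Bool.and_eq_true, beq_iff_eq, bne_iff_ne, ne_eq, decide_eq_true_eq] at h
  rcases h c hc with ⟨a, ha, ⟨rfl, hax⟩, hav⟩ | ⟨e, he, rfl, hrun⟩
  · exfalso
    have h1 := hA₀ a ha
    rw [hcx] at h1
    exact hax (hℓ'.inj _ _ hav hx h1.symm)
  · cases hr : run v k L e.2.1 ((e.1, x) :: A₀) with
    | none => rw [hr] at hrun; simp at hrun
    | some A =>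
      rw [hr] at hrun
      simp only [Bool.or_eq_true] at hrun
      have hA : Agree ℓ ℓ' A := by
        apply run_sound hB hℓ hℓ' _ _ _ _ hr
        intro a ha
        rcases List.mem_cons.mp ha with rfl | ha'
        · exact hcx
        · exact hA₀ a ha'
      rcases hrun with h1 | h1
      · intro i hi
        simp only [idOK, List.all_eq_true, List.mem_range, List.contains_iff_mem] at h1
        exact hA _ (h1 i hi)
      · exact (contra_absurd hB hℓ hℓ' hlt hA h1).elim

end Cfsg.Agent.Lib.Helper86.SteinerRigid
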