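import Mathlib
import Cfsg.Prelude.Def_Sporadic_a

set_option autoImplicit false

/-!
# Certified search trees for Steiner systems `S(k - 1, k, v)`

Labels `0, …, v - 1` are attached step by step to the points of an arbitrary Steiner system
with blocks of size `k` in which every `(k - 1)`-set lies in exactly one block.  A state is a
number `n` of labelled points and a list `K` of bit masks of labelled blocks.  A `split` node
takes a `(k - 1)`-set `s` of labels and branches on the point completing it to a block: a label
already in use (unless excluded by a known block sharing `k - 1` points with the candidate), or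
a new point, which then gets the label `n`.  `arb` labels an arbitrary new point.  A leaf `j`
asserts that all masks of the `j`-th final list are known blocks.
-/

namespace Cfsg.Agent.Lib.Helper86.SteinerTree

/-- Proof trees; `ccons`/`cnil` form the child lists of `split` nodes. -/
inductive Tree
  | leaf (j : Nat)
  | arb (t : Tree)
  | split (s : Nat) (excl : List (Nat × Nat × Nat)) (ch : Tree)
  | cnil
  | ccons (p : Nat) (t : Tree) (rest : Tree)

/-- Is `p` the label of a child in a child list? -/
def childMem (p : Nat) : Tree → Bool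
  | .ccons q _ rest => q == p || childMem p rest
  | _ => false

/-- Number of set bits among the low bits. -/
def popc : Nat → Nat → Nat
  | 0, _ => 0
  | f + 1, m => m % 2 + popc f (m / 2)

/-- The candidate `p` (with candidate block `c`) is excluded by a known block `b` meeting `c`
in all points but `q`. -/
def exclOK (K : List Nat) (c p : Nat) (excl : List (Nat × Nat × Nat)) : Bool :=
  excl.any (fun e => e.1 == p && K.contains e.2.1 && c.testBit e.2.2 &&
    (e.2.1 &&& c == c ^^^ 2 ^ e.2.2))

/-- The checker.  The `Option Nat` argument is `none` at proper nodes and `some s` inside the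
child list of a `split` node on the set `s`. -/
def chk (v k : Nat) (F : List (List Nat)) : Tree → Option Nat → Nat → List Nat → Bool
  | .leaf j, none, n, K => n == v && decide (j < F.length) &&
      (F.getD j []).all (fun m => K.contains m)
  | .arb t, none, n, K => decide (n < v) && chk v k F t none (n + 1) K
  | .split s excl ch, none, n, K =>
      decide (s < 2 ^ n) && popc v s == k - 1 &&
      (List.range n).all (fun p => s.testBit p || childMem p ch ||
        exclOK K (s ||| 2 ^ p) p excl) &&
      (n == v || childMem n ch) && chk v k F ch (some s) n K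
  | .cnil, some _, _, _ => true
  | .ccons p t rest, some s, n, K =>
      (if p < n then !s.testBit p && chk v k F t none n ((s ||| 2 ^ p) :: K)
       else p == n && decide (n < v) && chk v k F t none (n + 1) ((s ||| 2 ^ n) :: K)) &&
      chk v k F rest (some s) n K
  | _, _, _, _ => false

/-! ### Masks -/

/-- The set of labels of a mask. -/
def bits (v m : Nat) : Finset Nat := (Finset.range v).filter (fun i => m.testBit i = true)

theorem mem_bits {v m i : Nat} : i ∈ bits v m ↔ i < v ∧ m.testBit i = true := by
  simp [bits]

theorem testBit_lt {m n i : Nat} (h : m < 2 ^ n) (hi : m.testBit i = true) : i < n := by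
  by_contra hn
  have h1 : m < 2 ^ i := lt_of_lt_of_le h (Nat.pow_le_pow_right (by norm_num) (by omega))
  rw [Nat.testBit_lt_two_pow h1] at hi
  exact Bool.false_ne_true hi

theorem bits_lt {v m n : Nat} (h : m < 2 ^ n) {i : Nat} (hi : i ∈ bits v m) : i < n :=
  testBit_lt h (mem_bits.mp hi).2

theorem bits_or_pow {v s p : Nat} (hp : p < v) : bits v (s ||| 2 ^ p) = insert p (bits v s) := by
  ext i
  simp only [mem_bits, Nat.testBit_or, Nat.testBit_two_pow, Bool.or_eq_true, decide_eq_true_eq,
    Finset.mem_insert]
  constructor
  · rintro ⟨h1, h2 | h2⟩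
    · exact Or.inr ⟨h1, h2⟩
    · exact Or.inl h2.symm
  · rintro (rfl | ⟨h1, h2⟩)
    · exact ⟨hp, Or.inr rfl⟩
    · exact ⟨h1, Or.inl h2⟩

theorem bits_xor_pow {v c q : Nat} : bits v (c ^^^ 2 ^ q) = (bits v c \ {q}) ∪
    (if q < v ∧ c.testBit q = false then {q} else ∅) := by
  ext i
  simp only [mem_bits, Nat.testBit_xor, Nat.testBit_two_pow, Finset.mem_union, Finset.mem_sdiff,
    Finset.mem_singleton]
  by_cases hiq : q = i
  · subst hiq
    by_cases hq : q < v <;> cases hc : c.testBit q <;> simp [hq]
  · have : i ≠ q := fun h => hiq h.symm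
    simp only [hiq, decide_false, Bool.bne_false, this, not_false_eq_true, and_true]
    constructor
    · intro h; exact Or.inl h
    · rintro (h | h)
      · exact h
      · split_ifs at h with h1
        · simp at h; exact absurd h this
        · simp at h

theorem popc_eq (f m : Nat) :
    popc f m = ∑ i ∈ Finset.range f, if m.testBit i = true then 1 else 0 := by
  induction f generalizing m with
  | zero => simp [popc]
  | succ f ih =>
    rw [popc, ih, Finset.sum_range_succ', add_comm]
    congr 1
    · apply Finset.sum_congr rfl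
      intro i _
      rw [Nat.testBit_succ]
    · rw [Nat.testBit_zero]
      rcases Nat.mod_two_eq_zero_or_one m with h | h <;> simp [h]

theorem card_bits (v m : Nat) : (bits v m).card = popc v m := by
  rw [popc_eq, bits, Finset.card_filter]


/-! ### Realisations -/

variable {α : Type*} [DecidableEq α]

/-- A labelling `ℓ` of `n` points realises the state `(n, K)`. -/
structure Real (B : Set (Finset α)) (v : Nat) (ℓ : ℕ → α) (n : Nat) (K : List Nat) : Prop where
  inj : ∀ i j, i < n → j < n → ℓ i = ℓ j → i = j
  lt : ∀ m ∈ K, m < 2 ^ n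
  mem : ∀ m ∈ K, (bits v m).image ℓ ∈ B

/-- The conclusion: some extension of the labelling to all `v` labels realises a final list. -/
def Concl (B : Set (Finset α)) (v : Nat) (F : List (List Nat)) (ℓ : ℕ → α) (n : Nat) : Prop :=
  ∃ (ℓ' : ℕ → α) (j : Nat), j < F.length ∧ (∀ i, i < n → ℓ' i = ℓ i) ∧
    (∀ i j, i < v → j < v → ℓ' i = ℓ' j → i = j) ∧
    ∀ m ∈ F.getD j [], (bits v m).image ℓ' ∈ B

theorem card_image_bits {ℓ : ℕ → α} {n : Nat} (hinj : ∀ i j, i < n → j < n → ℓ i = ℓ j → i = j)
    {v m : Nat} (hm : m < 2 ^ n) : ((bits v m).image ℓ).card = popc v m := by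
  rw [Finset.card_image_of_injOn, card_bits]
  intro i hi j hj h
  exact hinj i j (bits_lt hm hi) (bits_lt hm hj) h

theorem image_or_pow {ℓ : ℕ → α} {v s p : Nat} (hp : p < v) :
    (bits v (s ||| 2 ^ p)).image ℓ = insert (ℓ p) ((bits v s).image ℓ) := by
  rw [bits_or_pow hp, Finset.image_insert]

theorem or_pow_lt {s p n : Nat} (hs : s < 2 ^ n) (hp : p < n) : s ||| 2 ^ p < 2 ^ n :=
  Nat.or_lt_two_pow hs (Nat.pow_lt_pow_right (by norm_num) hp)

theorem lt_pow_succ {s n : Nat} (hs : s < 2 ^ n) : s < 2 ^ (n + 1) :=
  lt_of_lt_of_le hs (Nat.pow_le_pow_right (by norm_num) (by omega))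

/-- Two distinct-looking blocks sharing `k - 1` points cannot both be blocks. -/
theorem excl_absurd {B : Set (Finset α)} {k : Nat}
    (hB : Cfsg.IsSteinerSystem (k - 1) k B) {ℓ : ℕ → α} {n v : Nat}
    (hinj : ∀ i j, i < n → j < n → ℓ i = ℓ j → i = j) {b c q : Nat} (hb : b < 2 ^ n)
    (hc : c < 2 ^ n) (hnv : n ≤ v) (hbB : (bits v b).image ℓ ∈ B) (hcB : (bits v c).image ℓ ∈ B)
    (hq : c.testBit q = true) (hbc : b &&& c = c ^^^ 2 ^ q) : False := by
  have hqn : q < n := testBit_lt hc hq
  have hqv : q < v := lt_of_lt_of_le hqn hnv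
  have hx : c ^^^ 2 ^ q < 2 ^ n := Nat.xor_lt_two_pow hc (Nat.pow_lt_pow_right (by norm_num) hqn)
  have hbits : bits v (c ^^^ 2 ^ q) = (bits v c).erase q := by
    rw [bits_xor_pow, if_neg (by simp [hq]), Finset.union_empty, Finset.sdiff_singleton_eq_erase]
  have hqc : q ∈ bits v c := mem_bits.mpr ⟨hqv, hq⟩
  have hcard : ((bits v (c ^^^ 2 ^ q)).image ℓ).card = k - 1 := by
    rw [Finset.card_image_of_injOn, hbits, Finset.card_erase_of_mem hqc]
    · have := hB.1 _ hcB
      rw [Finset.card_image_of_injOn] at this
      · rw [this]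
      · intro i hi j hj h
        exact hinj i j (bits_lt hc hi) (bits_lt hc hj) h
    · intro i hi j hj h
      exact hinj i j (bits_lt hx hi) (bits_lt hx hj) h
  obtain ⟨d, -, huniq⟩ := hB.2 _ hcard
  have h1 : (bits v c).image ℓ = d := by
    apply huniq _ ⟨hcB, ?_⟩
    apply Finset.image_subset_image
    rw [hbits]
    exact Finset.erase_subset _ _
  have h2 : (bits v b).image ℓ = d := by
    apply huniq _ ⟨hbB, ?_⟩
    apply Finset.image_subset_image
    intro i hi
    rw [← hbc, mem_bits, Nat.testBit_and, Bool.and_eq_true] at hi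
    exact mem_bits.mpr ⟨hi.1, hi.2.1⟩
  have h3 : ℓ q ∈ (bits v b).image ℓ := by
    rw [h2, ← h1]
    exact Finset.mem_image_of_mem _ hqc
  obtain ⟨i, hi, hiq⟩ := Finset.mem_image.mp h3
  have := hinj i q (bits_lt hb hi) hqn hiq
  subst this
  have h4 : (b &&& c).testBit i = true := by
    rw [Nat.testBit_and, (mem_bits.mp hi).2, hq]; rfl
  rw [hbc, Nat.testBit_xor, hq, Nat.testBit_two_pow] at h4
  simp at h4

/-- If all `v` labels are in use, every point has a label. -/
theorem exists_label [Fintype α] {v : Nat} (hv : Fintype.card α = v) {ℓ : ℕ → α}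
    (hinj : ∀ i j, i < v → j < v → ℓ i = ℓ j → i = j) (x : α) : ∃ p, p < v ∧ ℓ p = x := by
  have hcard : ((Finset.range v).image ℓ).card = v := by
    rw [Finset.card_image_of_injOn, Finset.card_range]
    intro i hi j hj h
    exact hinj i j (Finset.mem_range.mp hi) (Finset.mem_range.mp hj) h
  have huniv : (Finset.range v).image ℓ = Finset.univ := by
    apply Finset.eq_univ_of_card
    rw [hcard, hv]
  have : x ∈ (Finset.range v).image ℓ := by rw [huniv]; exact Finset.mem_univ x
  obtain ⟨p, hp, hpx⟩ := Finset.mem_image.mp this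
  exact ⟨p, Finset.mem_range.mp hp, hpx⟩

/-- If fewer than `v` labels are in use, some point has no label. -/
theorem exists_unlabelled [Fintype α] {v n : Nat} (hv : Fintype.card α = v) (hn : n < v)
    (ℓ : ℕ → α) : ∃ x : α, ∀ p, p < n → ℓ p ≠ x := by
  by_contra hcon
  simp only [not_exists, not_forall, ne_eq, not_not] at hcon
  have huniv : (Finset.range n).image ℓ = Finset.univ := by
    apply Finset.eq_univ_of_forall
    intro x
    obtain ⟨p, hp, hpx⟩ := hcon x
    exact Finset.mem_image.mpr ⟨p, Finset.mem_range.mpr hp, hpx⟩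
  have h1 : ((Finset.range n).image ℓ).card ≤ n := by
    calc _ ≤ (Finset.range n).card := Finset.card_image_le
      _ = n := Finset.card_range n
  rw [huniv, Finset.card_univ, hv] at h1
  omega

/-- Extending a realisation by a new point. -/
theorem Real.extend {B : Set (Finset α)} {v : Nat} {ℓ : ℕ → α} {n : Nat} {K : List Nat}
    (hR : Real B v ℓ n K) {x : α} (hx : ∀ p, p < n → ℓ p ≠ x) :
    Real B v (Function.update ℓ n x) (n + 1) K := by
  have hupd : ∀ i, i < n → Function.update ℓ n x i = ℓ i := fun i hi =>
    Function.update_of_ne (by omega) _ _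
  refine ⟨?_, fun m hm => lt_pow_succ (hR.lt m hm), ?_⟩
  · intro i j hi hj h
    rcases Nat.lt_succ_iff_lt_or_eq.mp hi with hi' | rfl
    · rcases Nat.lt_succ_iff_lt_or_eq.mp hj with hj' | rfl
      · rw [hupd i hi', hupd j hj'] at h
        exact hR.inj i j hi' hj' h
      · rw [hupd i hi', Function.update_self] at h
        exact absurd h (hx i hi')
    · rcases Nat.lt_succ_iff_lt_or_eq.mp hj with hj' | rfl
      · rw [hupd j hj', Function.update_self] at h
        exact absurd h.symm (hx j hj')
      · rfl
  · intro m hm
    have : (bits v m).image (Function.update ℓ n x) = (bits v m).image ℓ := by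
      apply Finset.image_congr
      intro i hi
      exact hupd i (bits_lt (hR.lt m hm) hi)
    rw [this]
    exact hR.mem m hm

/-- Adding a block to a realisation. -/
theorem Real.cons {B : Set (Finset α)} {v : Nat} {ℓ : ℕ → α} {n : Nat} {K : List Nat}
    (hR : Real B v ℓ n K) {m : Nat} (hm : m < 2 ^ n) (hmB : (bits v m).image ℓ ∈ B) :
    Real B v ℓ n (m :: K) := by
  refine ⟨hR.inj, ?_, ?_⟩
  · intro m' hm'
    rcases List.mem_cons.mp hm' with rfl | h
    · exact hm
    · exact hR.lt m' h
  · intro m' hm'
    rcases List.mem_cons.mp hm' with rfl | h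
    · exact hmB
    · exact hR.mem m' h


/-! ### Soundness -/

/-- The statement proved by induction on the tree. -/
def Stmt (B : Set (Finset α)) (v k : Nat) (F : List (List Nat)) (t : Tree) : Prop :=
  ∀ (mode : Option Nat) (n : Nat) (K : List Nat), chk v k F t mode n K = true → n ≤ v →
    ∀ ℓ : ℕ → α, Real B v ℓ n K →
      match mode with
      | none => Concl B v F ℓ n
      | some s => ∀ p, childMem p t = true →
          (p < n → Real B v ℓ n ((s ||| 2 ^ p) :: K) → Concl B v F ℓ n) ∧
          (p = n → ∀ ℓ₁ : ℕ → α, (∀ i, i < n → ℓ₁ i = ℓ i) →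
            Real B v ℓ₁ (n + 1) ((s ||| 2 ^ n) :: K) → Concl B v F ℓ n)

theorem Concl.shrink {B : Set (Finset α)} {v : Nat} {F : List (List Nat)} {ℓ ℓ₁ : ℕ → α}
    {n : Nat} (h : Concl B v F ℓ₁ (n + 1)) (hag : ∀ i, i < n → ℓ₁ i = ℓ i) : Concl B v F ℓ n := by
  obtain ⟨ℓ', j, hj, h1, h2, h3⟩ := h
  exact ⟨ℓ', j, hj, fun i hi => (h1 i (by omega)).trans (hag i hi), h2, h3⟩

theorem sound [Fintype α] {B : Set (Finset α)} {v k : Nat} (hk : 1 ≤ k)
    (hB : Cfsg.IsSteinerSystem (k - 1) k B) (hv : Fintype.card α = v) (F : List (List Nat)) :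
    ∀ t : Tree, Stmt B v k F t := by
  intro t
  induction t with
  | leaf j =>
    intro mode n K h hn ℓ hR
    cases mode with
    | some s => simp [chk] at h
    | none =>
      simp only [chk, Bool.and_eq_true, beq_iff_eq, decide_eq_true_eq, List.all_eq_true,
        List.contains_iff_mem] at h
      obtain ⟨⟨rfl, hj⟩, hall⟩ := h
      exact ⟨ℓ, j, hj, fun _ _ => rfl, hR.inj, fun m hm => hR.mem m (hall m hm)⟩
  | arb t ih =>
    intro mode n K h hn ℓ hR
    cases mode with
    | some s => simp [chk] at h
    | none =>
      simp only [chk, Bool.and_eq_true, decide_eq_true_eq] at h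
      obtain ⟨hnv, ht⟩ := h
      obtain ⟨x, hx⟩ := exists_unlabelled hv hnv ℓ
      have h1 := ih none (n + 1) K ht (by omega) _ (hR.extend hx)
      exact Concl.shrink h1 (fun i hi => Function.update_of_ne (by omega) _ _)
  | cnil =>
    intro mode n K h hn ℓ hR
    cases mode with
    | none => simp [chk] at h
    | some s =>
      intro p hp
      simp [childMem] at hp
  | ccons q t rest iht ihr =>
    intro mode n K h hn ℓ hR
    cases mode with
    | none => simp [chk] at h
    | some s =>
      simp only [chk, Bool.and_eq_true] at h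
      obtain ⟨h1, h2⟩ := h
      intro p hp
      simp only [childMem, Bool.or_eq_true, beq_iff_eq] at hp
      rcases hp with rfl | hp
      · constructor
        · intro hqn hR'
          rw [if_pos hqn] at h1
          simp only [Bool.and_eq_true] at h1
          exact iht none n _ h1.2 hn ℓ hR'
        · intro hqn ℓ₁ hag hR'
          rw [if_neg (by omega)] at h1
          simp only [Bool.and_eq_true, decide_eq_true_eq] at h1
          have h3 := iht none (n + 1) _ h1.2 (by omega) ℓ₁ hR'
          exact Concl.shrink h3 hag
      · exact ihr (some s) n K h2 hn ℓ hR p hp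
  | split s excl ch ih =>
    intro mode n K h hn ℓ hR
    cases mode with
    | some s' => simp [chk] at h
    | none =>
      simp only [chk, Bool.and_eq_true, decide_eq_true_eq, beq_iff_eq, List.all_eq_true,
        List.mem_range, Bool.or_eq_true] at h
      obtain ⟨⟨⟨⟨hs, hpop⟩, hcand⟩, hnew⟩, hch⟩ := h
      have ihc := ih (some s) n K hch hn ℓ hR
      -- the block through the image of `s`
      have hS : ((bits v s).image ℓ).card = k - 1 := by
        rw [card_image_bits hR.inj hs, hpop]
      obtain ⟨b, ⟨hbB, hSb⟩, -⟩ := hB.2 _ hS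
      have hbk := hB.1 b hbB
      have hd : (b \ (bits v s).image ℓ).card = 1 := by
        rw [Finset.card_sdiff_of_subset hSb, hbk, hS]; omega
      obtain ⟨x, hx⟩ := Finset.card_eq_one.mp hd
      have hxb : x ∈ b ∧ x ∉ (bits v s).image ℓ := by
        have : x ∈ b \ (bits v s).image ℓ := by rw [hx]; exact Finset.mem_singleton_self x
        exact Finset.mem_sdiff.mp this
      have hbeq : b = insert x ((bits v s).image ℓ) := by
        ext y
        rw [Finset.mem_insert]
        constructor
        · intro hy
          by_cases hyS : y ∈ (bits v s).image ℓ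
          · exact Or.inr hyS
          · have : y ∈ b \ (bits v s).image ℓ := Finset.mem_sdiff.mpr ⟨hy, hyS⟩
            rw [hx, Finset.mem_singleton] at this
            exact Or.inl this
        · rintro (rfl | hy)
          · exact hxb.1
          · exact hSb hy
      by_cases hnamed : ∃ p, p < n ∧ ℓ p = x
      · obtain ⟨p, hpn, rfl⟩ := hnamed
        have hpv : p < v := lt_of_lt_of_le hpn hn
        have hps : s.testBit p = false := by
          by_contra hcon
          rw [Bool.not_eq_false] at hcon
          exact hxb.2 (Finset.mem_image_of_mem _ (mem_bits.mpr ⟨hpv, hcon⟩))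
        have hcB : (bits v (s ||| 2 ^ p)).image ℓ ∈ B := by
          rw [image_or_pow hpv, ← hbeq]; exact hbB
        have hclt : s ||| 2 ^ p < 2 ^ n := or_pow_lt hs hpn
        rcases hcand p hpn with (h1 | h1) | h1
        · rw [hps] at h1; exact absurd h1 Bool.false_ne_true
        · exact (ihc p h1).1 hpn (hR.cons hclt hcB)
        · exfalso
          simp only [exclOK, List.any_eq_true, Bool.and_eq_true, beq_iff_eq,
            List.contains_iff_mem] at h1
          obtain ⟨e, -, ⟨⟨-, heK⟩, heq⟩, hbc⟩ := h1
          exact excl_absurd hB hR.inj (hR.lt _ heK) hclt hn (hR.mem _ heK) hcB heq hbc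
      · have hx' : ∀ p, p < n → ℓ p ≠ x := fun p hp hpx => hnamed ⟨p, hp, hpx⟩
        have hnv : n < v := by
          rcases Nat.lt_or_eq_of_le hn with h1 | rfl
          · exact h1
          · obtain ⟨p, hp, hpx⟩ := exists_label hv hR.inj x
            exact absurd hpx (hx' p hp)
        have hmem : childMem n ch = true := by
          rcases hnew with rfl | h1
          · exact absurd hnv (lt_irrefl _)
          · exact h1
        have hR1 := hR.extend hx'
        have hupd : ∀ i, i < n → Function.update ℓ n x i = ℓ i := fun i hi =>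
          Function.update_of_ne (by omega) _ _
        have himg : (bits v s).image (Function.update ℓ n x) = (bits v s).image ℓ := by
          apply Finset.image_congr
          intro i hi
          exact hupd i (bits_lt hs hi)
        have hcB : (bits v (s ||| 2 ^ n)).image (Function.update ℓ n x) ∈ B := by
          rw [image_or_pow hnv, Function.update_self, himg, ← hbeq]; exact hbB
        have hclt : s ||| 2 ^ n < 2 ^ (n + 1) := or_pow_lt (lt_pow_succ hs) (by omega)
        exact (ihc n hmem).2 rfl _ hupd (hR1.cons hclt hcB)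

end Cfsg.Agent.Lib.Helper86.SteinerTree
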