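import Cfsg.Agent.Lib.Helper86.SmallEnum
import Cfsg.Agent.Lib.Helper86.TabMathieu

set_option autoImplicit false

/-! Generated data: a Sylow 3-subgroup of `M24` (order 27) enumerated by tables, and an
element of order 3 commuting with the fixed-point-free involution `zB`. -/

namespace Cfsg.Agent.Lib.Helper86.Syl3Data

open Cfsg Cfsg.Agent.Lib.Helper7.GolayBase Cfsg.Agent.Lib.Helper7.GolayPerm
  Cfsg.Agent.Lib.Helper86.TabGrp Cfsg.Agent.Lib.Helper86.TabMathieu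
  Cfsg.Agent.Lib.Helper86.SmallEnum

/-- Generators (with their inverses) of a Sylow 3-subgroup. -/
def gT : List (List Nat) := [
  [3, 0, 20, 1, 6, 4, 5, 7, 14, 9, 17, 8, 15, 2, 11, 22, 16, 19, 18, 10, 13, 21, 12, 23],
  [0, 1, 17, 3, 6, 4, 5, 7, 11, 23, 15, 14, 20, 10, 8, 13, 16, 22, 9, 12, 19, 21, 2, 18],
  [14, 8, 19, 11, 0, 1, 3, 16, 5, 23, 12, 6, 20, 17, 4, 13, 21, 15, 9, 22, 10, 7, 2, 18],
  [1, 3, 13, 0, 5, 6, 4, 7, 11, 9, 19, 14, 22, 20, 8, 12, 16, 10, 18, 17, 2, 21, 15, 23],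
  [0, 1, 22, 3, 5, 6, 4, 7, 14, 18, 13, 8, 19, 15, 11, 10, 16, 2, 23, 20, 12, 21, 17, 9],
  [4, 5, 22, 6, 14, 8, 11, 21, 1, 18, 20, 3, 10, 15, 0, 17, 7, 13, 23, 2, 12, 16, 19, 9]]

/-- The tables of the Sylow 3-subgroup. -/
def L : List (List Nat) := [
  [0, 1, 2, 3, 4, 5, 6, 7, 8, 9, 10, 11, 12, 13, 14, 15, 16, 17, 18, 19, 20, 21, 22, 23],
  [3, 0, 20, 1, 6, 4, 5, 7, 14, 9, 17, 8, 15, 2, 11, 22, 16, 19, 18, 10, 13, 21, 12, 23],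
  [0, 1, 17, 3, 6, 4, 5, 7, 11, 23, 15, 14, 20, 10, 8, 13, 16, 22, 9, 12, 19, 21, 2, 18],
  [14, 8, 19, 11, 0, 1, 3, 16, 5, 23, 12, 6, 20, 17, 4, 13, 21, 15, 9, 22, 10, 7, 2, 18],
  [1, 3, 13, 0, 5, 6, 4, 7, 11, 9, 19, 14, 22, 20, 8, 12, 16, 10, 18, 17, 2, 21, 15, 23],
  [0, 1, 22, 3, 5, 6, 4, 7, 14, 18, 13, 8, 19, 15, 11, 10, 16, 2, 23, 20, 12, 21, 17, 9],
  [4, 5, 22, 6, 14, 8, 11, 21, 1, 18, 20, 3, 10, 15, 0, 17, 7, 13, 23, 2, 12, 16, 19, 9],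
  [3, 0, 19, 1, 5, 6, 4, 7, 8, 23, 22, 11, 13, 17, 14, 2, 16, 12, 9, 15, 10, 21, 20, 18],
  [11, 14, 10, 8, 3, 0, 1, 16, 4, 23, 15, 5, 13, 19, 6, 2, 21, 22, 9, 12, 17, 7, 20, 18],
  [3, 0, 12, 1, 4, 5, 6, 7, 11, 18, 2, 14, 10, 22, 8, 17, 16, 20, 23, 13, 15, 21, 19, 9],
  [6, 4, 12, 5, 11, 14, 8, 21, 0, 18, 13, 1, 17, 22, 3, 19, 7, 2, 23, 20, 15, 16, 10, 9],
  [14, 8, 15, 11, 3, 0, 1, 16, 6, 18, 13, 4, 10, 12, 5, 17, 21, 2, 23, 20, 22, 7, 19, 9],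
  [1, 3, 10, 0, 4, 5, 6, 7, 14, 23, 12, 8, 2, 19, 11, 20, 16, 15, 9, 22, 17, 21, 13, 18],
  [4, 5, 13, 6, 11, 14, 8, 21, 3, 9, 17, 0, 12, 20, 1, 15, 7, 19, 18, 10, 2, 16, 22, 23],
  [8, 11, 12, 14, 0, 1, 3, 16, 4, 18, 20, 5, 19, 22, 6, 10, 21, 13, 23, 2, 15, 7, 17, 9],
  [8, 11, 17, 14, 1, 3, 0, 16, 6, 23, 22, 4, 2, 10, 5, 20, 21, 12, 9, 15, 19, 7, 13, 18],
  [11, 14, 20, 8, 0, 1, 3, 16, 6, 9, 19, 4, 12, 2, 5, 15, 21, 10, 18, 17, 13, 7, 22, 23],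
  [1, 3, 15, 0, 6, 4, 5, 7, 8, 18, 20, 11, 17, 12, 14, 19, 16, 13, 23, 2, 22, 21, 10, 9],
  [5, 6, 15, 4, 8, 11, 14, 21, 3, 18, 2, 0, 19, 12, 1, 10, 7, 20, 23, 13, 22, 16, 17, 9],
  [14, 8, 2, 11, 1, 3, 0, 16, 4, 9, 17, 5, 22, 13, 6, 12, 21, 19, 18, 10, 20, 7, 15, 23],
  [4, 5, 19, 6, 8, 11, 14, 21, 0, 23, 15, 1, 2, 17, 3, 20, 7, 22, 9, 12, 10, 16, 13, 18],
  [6, 4, 2, 5, 8, 11, 14, 21, 1, 9, 19, 3, 15, 13, 0, 22, 7, 10, 18, 17, 20, 16, 12, 23],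
  [5, 6, 17, 4, 11, 14, 8, 21, 1, 23, 12, 3, 13, 10, 0, 2, 7, 15, 9, 22, 19, 16, 20, 18],
  [11, 14, 22, 8, 1, 3, 0, 16, 5, 18, 2, 6, 17, 15, 4, 19, 21, 20, 23, 13, 12, 7, 10, 9],
  [8, 11, 13, 14, 3, 0, 1, 16, 5, 9, 10, 6, 15, 20, 4, 22, 21, 17, 18, 19, 2, 7, 12, 23],
  [6, 4, 10, 5, 14, 8, 11, 21, 3, 23, 22, 0, 20, 19, 1, 13, 7, 12, 9, 15, 17, 16, 2, 18],
  [5, 6, 20, 4, 14, 8, 11, 21, 0, 9, 10, 1, 22, 2, 3, 12, 7, 17, 18, 19, 13, 16, 15, 23]]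

/-- How each table arises from a generator and an earlier table. -/
def rows : List (Nat × Nat) := [(0, 0), (1, 0), (2, 0), (3, 0), (4, 0), (5, 0), (1, 1), (2, 1), (4, 1), (5, 1), (2, 2), (3, 2), (5, 2), (1, 3), (3, 3), (4, 3), (4, 4), (5, 4), (2, 5), (5, 5), (1, 6), (4, 6), (2, 7), (4, 8), (5, 9), (1, 10)]

theorem hE : Enum (grp gT) L := enum_small gT L rows (by decide +kernel)

theorem card_grp : Nat.card (grp gT) = 27 := by rw [hE.card]; rfl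

theorem gT_mem : ∀ t ∈ gT, ∃ g ∈ M24, Rep g t := by
  intro t ht
  have h : gT.all (fun t => gT.any (fun t' => inM24 t t')) = true := by decide +kernel
  have h1 := List.all_eq_true.mp h t ht
  rw [List.any_eq_true] at h1
  obtain ⟨t', -, h2⟩ := h1
  obtain ⟨g, hg, hr, -⟩ := exists_M24 t t' h2
  exact ⟨g, hg, hr⟩

theorem grpLe : grp gT ≤ M24 := grp_le gT M24 gT_mem

/-- An element of order 3 commuting with `zB`, and its inverse. -/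
def yT : List (List Nat) := [
  [4, 17, 14, 20, 5, 0, 10, 11, 7, 18, 19, 8, 2, 22, 12, 9, 13, 21, 15, 6, 23, 1, 16, 3],
  [5, 21, 12, 23, 0, 4, 19, 8, 11, 15, 6, 7, 14, 16, 2, 18, 22, 1, 9, 10, 3, 17, 13, 20]]

/-- The tables of the group generated by it. -/
def yL : List (List Nat) := [
  [0, 1, 2, 3, 4, 5, 6, 7, 8, 9, 10, 11, 12, 13, 14, 15, 16, 17, 18, 19, 20, 21, 22, 23],
  [4, 17, 14, 20, 5, 0, 10, 11, 7, 18, 19, 8, 2, 22, 12, 9, 13, 21, 15, 6, 23, 1, 16, 3],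
  [5, 21, 12, 23, 0, 4, 19, 8, 11, 15, 6, 7, 14, 16, 2, 18, 22, 1, 9, 10, 3, 17, 13, 20]]

theorem hEy : Enum (grp yT) yL := enum_small yT yL [(0, 0), (0, 1)] (by decide +kernel)

theorem card_y : Nat.card (grp yT) = 3 := by rw [hEy.card]; rfl

end Cfsg.Agent.Lib.Helper86.Syl3Data
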