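import Cfsg.Agent.Lib.Helper86.TabMathieu

set_option autoImplicit false

/-! Generated data: an explicit Sylow 2-subgroup of `M22` (order 128), enumerated by tables,
with certificates for its normaliser and for its strongly closed subgroups. -/

namespace Cfsg.Agent.Lib.Helper86.SylM22

open Cfsg Cfsg.Spor Cfsg.Agent.Lib.Helper7.GolayBase Cfsg.Agent.Lib.Helper7.GolayRigid
  Cfsg.Agent.Lib.Helper7.GolayPerm Cfsg.Agent.Lib.Helper7.ChainGen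
  Cfsg.Agent.Lib.Helper86.TabGrp Cfsg.Agent.Lib.Helper86.TabMathieu

/-- Generators (involutions), a polycyclic sequence. -/
def gT : List (List Nat) := [
  [0, 21, 22, 19, 14, 5, 15, 12, 8, 9, 10, 13, 7, 11, 4, 6, 20, 17, 18, 3, 16, 1, 2, 23],
  [0, 1, 6, 12, 14, 9, 2, 19, 8, 5, 18, 13, 3, 11, 4, 22, 16, 17, 10, 7, 20, 21, 15, 23],
  [0, 1, 7, 15, 14, 5, 19, 2, 17, 9, 18, 11, 22, 13, 4, 3, 20, 8, 10, 6, 16, 21, 12, 23],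
  [0, 1, 12, 19, 20, 5, 15, 22, 18, 9, 17, 11, 2, 13, 16, 6, 14, 10, 8, 3, 4, 21, 7, 23],
  [0, 11, 2, 6, 14, 5, 3, 7, 18, 9, 17, 1, 12, 21, 4, 19, 20, 10, 8, 15, 16, 13, 22, 23],
  [0, 4, 2, 3, 1, 9, 15, 12, 17, 5, 10, 20, 7, 16, 21, 6, 13, 8, 18, 19, 11, 14, 22, 23],
  [0, 2, 1, 14, 19, 5, 16, 13, 8, 9, 10, 12, 11, 7, 3, 20, 6, 17, 18, 4, 15, 22, 21, 23]]

/-- The central involution. -/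
def zT : List Nat := [0, 21, 22, 19, 14, 5, 15, 12, 8, 9, 10, 13, 7, 11, 4, 6, 20, 17, 18, 3, 16, 1, 2, 23]

/-- The tables of the group, in doubling order. -/
def L : List (List Nat) := [
  [0, 1, 2, 3, 4, 5, 6, 7, 8, 9, 10, 11, 12, 13, 14, 15, 16, 17, 18, 19, 20, 21, 22, 23],
  [0, 21, 22, 19, 14, 5, 15, 12, 8, 9, 10, 13, 7, 11, 4, 6, 20, 17, 18, 3, 16, 1, 2, 23],
  [0, 1, 6, 12, 14, 9, 2, 19, 8, 5, 18, 13, 3, 11, 4, 22, 16, 17, 10, 7, 20, 21, 15, 23],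
  [0, 21, 15, 7, 4, 9, 22, 3, 8, 5, 18, 11, 19, 13, 14, 2, 20, 17, 10, 12, 16, 1, 6, 23],
  [0, 1, 7, 15, 14, 5, 19, 2, 17, 9, 18, 11, 22, 13, 4, 3, 20, 8, 10, 6, 16, 21, 12, 23],
  [0, 21, 12, 6, 4, 5, 3, 22, 17, 9, 18, 13, 2, 11, 14, 19, 16, 8, 10, 15, 20, 1, 7, 23],
  [0, 1, 19, 22, 4, 9, 7, 6, 17, 5, 10, 13, 15, 11, 14, 12, 20, 8, 18, 2, 16, 21, 3, 23],
  [0, 21, 3, 2, 14, 9, 12, 15, 17, 5, 10, 11, 6, 13, 4, 7, 16, 8, 18, 22, 20, 1, 19, 23],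
  [0, 1, 12, 19, 20, 5, 15, 22, 18, 9, 17, 11, 2, 13, 16, 6, 14, 10, 8, 3, 4, 21, 7, 23],
  [0, 21, 7, 3, 16, 5, 6, 2, 18, 9, 17, 13, 22, 11, 20, 15, 4, 10, 8, 19, 14, 1, 12, 23],
  [0, 1, 3, 7, 20, 9, 22, 15, 10, 5, 17, 13, 6, 11, 16, 2, 4, 18, 8, 12, 14, 21, 19, 23],
  [0, 21, 19, 12, 16, 9, 2, 6, 10, 5, 17, 11, 15, 13, 20, 22, 14, 18, 8, 7, 4, 1, 3, 23],
  [0, 1, 22, 6, 16, 5, 3, 12, 10, 9, 8, 11, 7, 13, 20, 19, 4, 18, 17, 15, 14, 21, 2, 23],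
  [0, 21, 2, 15, 20, 5, 19, 7, 10, 9, 8, 13, 12, 11, 16, 3, 14, 18, 17, 6, 4, 1, 22, 23],
  [0, 1, 15, 2, 16, 9, 12, 3, 18, 5, 8, 13, 19, 11, 20, 7, 14, 10, 17, 22, 4, 21, 6, 23],
  [0, 21, 6, 22, 20, 9, 7, 19, 18, 5, 8, 11, 3, 13, 16, 12, 4, 10, 17, 2, 14, 1, 15, 23],
  [0, 11, 2, 6, 14, 5, 3, 7, 18, 9, 17, 1, 12, 21, 4, 19, 20, 10, 8, 15, 16, 13, 22, 23],
  [0, 13, 22, 15, 4, 5, 19, 12, 18, 9, 17, 21, 7, 1, 14, 3, 16, 10, 8, 6, 20, 11, 2, 23],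
  [0, 13, 6, 2, 4, 9, 12, 19, 10, 5, 17, 1, 3, 21, 14, 7, 20, 18, 8, 22, 16, 11, 15, 23],
  [0, 11, 15, 22, 14, 9, 7, 3, 10, 5, 17, 21, 19, 1, 4, 12, 16, 18, 8, 2, 20, 13, 6, 23],
  [0, 11, 7, 19, 4, 5, 15, 2, 10, 9, 8, 1, 22, 21, 14, 6, 16, 18, 17, 3, 20, 13, 12, 23],
  [0, 13, 12, 3, 14, 5, 6, 22, 10, 9, 8, 21, 2, 1, 4, 15, 20, 18, 17, 19, 16, 11, 7, 23],
  [0, 13, 19, 7, 14, 9, 22, 6, 18, 5, 8, 1, 15, 21, 4, 2, 16, 10, 17, 12, 20, 11, 3, 23],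
  [0, 11, 3, 12, 4, 9, 2, 15, 18, 5, 8, 21, 6, 1, 14, 22, 20, 10, 17, 7, 16, 13, 19, 23],
  [0, 11, 12, 15, 16, 5, 19, 22, 8, 9, 10, 1, 2, 21, 20, 3, 4, 17, 18, 6, 14, 13, 7, 23],
  [0, 13, 7, 6, 20, 5, 3, 2, 8, 9, 10, 21, 22, 1, 16, 19, 14, 17, 18, 15, 4, 11, 12, 23],
  [0, 13, 3, 22, 16, 9, 7, 15, 8, 5, 18, 1, 6, 21, 20, 12, 14, 17, 10, 2, 4, 11, 19, 23],
  [0, 11, 19, 2, 20, 9, 12, 6, 8, 5, 18, 21, 15, 1, 16, 7, 4, 17, 10, 22, 14, 13, 3, 23],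
  [0, 11, 22, 3, 20, 5, 6, 12, 17, 9, 18, 1, 7, 21, 16, 15, 14, 8, 10, 19, 4, 13, 2, 23],
  [0, 13, 2, 19, 16, 5, 15, 7, 17, 9, 18, 21, 12, 1, 20, 6, 4, 8, 10, 3, 14, 11, 22, 23],
  [0, 13, 15, 12, 20, 9, 2, 3, 17, 5, 10, 1, 19, 21, 16, 22, 4, 8, 18, 7, 14, 11, 6, 23],
  [0, 11, 6, 7, 16, 9, 22, 19, 17, 5, 10, 21, 3, 1, 20, 2, 14, 8, 18, 12, 4, 13, 15, 23],
  [0, 4, 2, 3, 1, 9, 15, 12, 17, 5, 10, 20, 7, 16, 21, 6, 13, 8, 18, 19, 11, 14, 22, 23],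
  [0, 14, 22, 19, 21, 9, 6, 7, 17, 5, 10, 16, 12, 20, 1, 15, 11, 8, 18, 3, 13, 4, 2, 23],
  [0, 14, 6, 12, 1, 5, 22, 3, 17, 9, 18, 20, 19, 16, 21, 2, 11, 8, 10, 7, 13, 4, 15, 23],
  [0, 4, 15, 7, 21, 5, 2, 19, 17, 9, 18, 16, 3, 20, 1, 22, 13, 8, 10, 12, 11, 14, 6, 23],
  [0, 14, 7, 15, 1, 9, 3, 22, 8, 5, 18, 16, 2, 20, 21, 19, 13, 17, 10, 6, 11, 4, 12, 23],
  [0, 4, 12, 6, 21, 9, 19, 2, 8, 5, 18, 20, 22, 16, 1, 3, 11, 17, 10, 15, 13, 14, 7, 23],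
  [0, 4, 19, 22, 1, 5, 12, 15, 8, 9, 10, 16, 6, 20, 21, 7, 11, 17, 18, 2, 13, 14, 3, 23],
  [0, 14, 3, 2, 21, 5, 7, 6, 8, 9, 10, 20, 15, 16, 1, 12, 13, 17, 18, 22, 11, 4, 19, 23],
  [0, 20, 12, 19, 1, 9, 6, 2, 10, 5, 17, 4, 22, 14, 21, 15, 13, 18, 8, 3, 11, 16, 7, 23],
  [0, 16, 7, 3, 21, 9, 15, 22, 10, 5, 17, 14, 2, 4, 1, 6, 11, 18, 8, 19, 13, 20, 12, 23],
  [0, 20, 3, 7, 1, 5, 2, 6, 18, 9, 17, 14, 15, 4, 21, 22, 11, 10, 8, 12, 13, 16, 19, 23],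
  [0, 16, 19, 12, 21, 5, 22, 15, 18, 9, 17, 4, 6, 14, 1, 2, 13, 10, 8, 7, 11, 20, 3, 23],
  [0, 16, 22, 6, 1, 9, 19, 7, 18, 5, 8, 14, 12, 4, 21, 3, 13, 10, 17, 15, 11, 20, 2, 23],
  [0, 20, 2, 15, 21, 9, 3, 12, 18, 5, 8, 4, 7, 14, 1, 19, 11, 10, 17, 6, 13, 16, 22, 23],
  [0, 16, 15, 2, 1, 5, 7, 19, 10, 9, 8, 4, 3, 14, 21, 12, 11, 18, 17, 22, 13, 20, 6, 23],
  [0, 20, 6, 22, 21, 5, 12, 3, 10, 9, 8, 14, 19, 4, 1, 7, 13, 18, 17, 2, 11, 16, 15, 23],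
  [0, 14, 2, 6, 11, 9, 19, 12, 10, 5, 17, 16, 7, 20, 13, 3, 21, 18, 8, 15, 1, 4, 22, 23],
  [0, 4, 22, 15, 13, 9, 3, 7, 10, 5, 17, 20, 12, 16, 11, 19, 1, 18, 8, 6, 21, 14, 2, 23],
  [0, 4, 6, 2, 13, 5, 7, 3, 18, 9, 17, 16, 19, 20, 11, 12, 21, 10, 8, 22, 1, 14, 15, 23],
  [0, 14, 15, 22, 11, 5, 12, 19, 18, 9, 17, 20, 3, 16, 13, 7, 1, 10, 8, 2, 21, 4, 6, 23],
  [0, 4, 7, 19, 11, 9, 6, 22, 18, 5, 8, 20, 2, 16, 13, 15, 21, 10, 17, 3, 1, 14, 12, 23],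
  [0, 14, 12, 3, 13, 9, 15, 2, 18, 5, 8, 16, 22, 20, 11, 6, 1, 10, 17, 19, 21, 4, 7, 23],
  [0, 14, 19, 7, 13, 5, 2, 15, 10, 9, 8, 20, 6, 16, 11, 22, 21, 18, 17, 12, 1, 4, 3, 23],
  [0, 4, 3, 12, 11, 5, 22, 6, 10, 9, 8, 16, 15, 20, 13, 2, 1, 18, 17, 7, 21, 14, 19, 23],
  [0, 16, 12, 15, 11, 9, 3, 2, 17, 5, 10, 14, 22, 4, 13, 19, 21, 8, 18, 6, 1, 20, 7, 23],
  [0, 20, 7, 6, 13, 9, 19, 22, 17, 5, 10, 4, 2, 14, 11, 3, 1, 8, 18, 15, 21, 16, 12, 23],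
  [0, 16, 3, 22, 13, 5, 12, 6, 17, 9, 18, 4, 15, 14, 11, 7, 21, 8, 10, 2, 1, 20, 19, 23],
  [0, 20, 19, 2, 11, 5, 7, 15, 17, 9, 18, 14, 6, 4, 13, 12, 1, 8, 10, 22, 21, 16, 3, 23],
  [0, 20, 22, 3, 11, 9, 15, 7, 8, 5, 18, 4, 12, 14, 13, 6, 21, 17, 10, 19, 1, 16, 2, 23],
  [0, 16, 2, 19, 13, 9, 6, 12, 8, 5, 18, 14, 7, 4, 11, 15, 1, 17, 10, 3, 21, 20, 22, 23],
  [0, 20, 15, 12, 13, 5, 22, 19, 8, 9, 10, 14, 3, 4, 11, 2, 21, 17, 18, 7, 1, 16, 6, 23],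
  [0, 16, 6, 7, 11, 5, 2, 3, 8, 9, 10, 4, 19, 14, 13, 22, 1, 17, 18, 12, 21, 20, 15, 23],
  [0, 2, 1, 14, 19, 5, 16, 13, 8, 9, 10, 12, 11, 7, 3, 20, 6, 17, 18, 4, 15, 22, 21, 23],
  [0, 22, 21, 4, 3, 5, 20, 11, 8, 9, 10, 7, 13, 12, 19, 16, 15, 17, 18, 14, 6, 2, 1, 23],
  [0, 6, 1, 4, 7, 9, 16, 11, 8, 5, 18, 3, 13, 19, 12, 20, 2, 17, 10, 14, 22, 15, 21, 23],
  [0, 15, 21, 14, 12, 9, 20, 13, 8, 5, 18, 19, 11, 3, 7, 16, 22, 17, 10, 4, 2, 6, 1, 23],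
  [0, 7, 1, 4, 6, 5, 20, 13, 17, 9, 18, 22, 11, 2, 15, 16, 19, 8, 10, 14, 3, 12, 21, 23],
  [0, 12, 21, 14, 15, 5, 16, 11, 17, 9, 18, 2, 13, 22, 6, 20, 3, 8, 10, 4, 19, 7, 1, 23],
  [0, 19, 1, 14, 2, 9, 20, 11, 17, 5, 10, 15, 13, 6, 22, 16, 7, 8, 18, 4, 12, 3, 21, 23],
  [0, 3, 21, 4, 22, 9, 16, 13, 17, 5, 10, 6, 11, 15, 2, 20, 12, 8, 18, 14, 7, 19, 1, 23],
  [0, 12, 1, 16, 3, 5, 14, 13, 18, 9, 17, 2, 11, 22, 19, 4, 15, 10, 8, 20, 6, 7, 21, 23],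
  [0, 7, 21, 20, 19, 5, 4, 11, 18, 9, 17, 22, 13, 2, 3, 14, 6, 10, 8, 16, 15, 12, 1, 23],
  [0, 3, 1, 16, 12, 9, 4, 11, 10, 5, 17, 6, 13, 15, 7, 14, 22, 18, 8, 20, 2, 19, 21, 23],
  [0, 19, 21, 20, 7, 9, 14, 13, 10, 5, 17, 15, 11, 6, 12, 4, 2, 18, 8, 16, 22, 3, 1, 23],
  [0, 22, 1, 20, 15, 5, 4, 13, 10, 9, 8, 7, 11, 12, 6, 14, 3, 18, 17, 16, 19, 2, 21, 23],
  [0, 2, 21, 16, 6, 5, 14, 11, 10, 9, 8, 12, 13, 7, 15, 4, 19, 18, 17, 20, 3, 22, 1, 23],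
  [0, 15, 1, 20, 22, 9, 14, 11, 18, 5, 8, 19, 13, 3, 2, 4, 12, 10, 17, 16, 7, 6, 21, 23],
  [0, 6, 21, 16, 2, 9, 4, 13, 18, 5, 8, 3, 11, 19, 22, 14, 7, 10, 17, 20, 12, 15, 1, 23],
  [0, 2, 11, 4, 15, 5, 20, 21, 18, 9, 17, 12, 1, 7, 6, 16, 3, 10, 8, 14, 19, 22, 13, 23],
  [0, 22, 13, 14, 6, 5, 16, 1, 18, 9, 17, 7, 21, 12, 15, 20, 19, 10, 8, 4, 3, 2, 11, 23],
  [0, 6, 13, 14, 22, 9, 20, 21, 10, 5, 17, 3, 1, 19, 2, 16, 12, 18, 8, 4, 7, 15, 11, 23],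
  [0, 15, 11, 4, 2, 9, 16, 1, 10, 5, 17, 19, 21, 3, 22, 20, 7, 18, 8, 14, 12, 6, 13, 23],
  [0, 7, 11, 14, 3, 5, 16, 21, 10, 9, 8, 22, 1, 2, 19, 20, 15, 18, 17, 4, 6, 12, 13, 23],
  [0, 12, 13, 4, 19, 5, 20, 1, 10, 9, 8, 2, 21, 22, 3, 16, 6, 18, 17, 14, 15, 7, 11, 23],
  [0, 19, 13, 4, 12, 9, 16, 21, 18, 5, 8, 15, 1, 6, 7, 20, 22, 10, 17, 14, 2, 3, 11, 23],
  [0, 3, 11, 14, 7, 9, 20, 1, 18, 5, 8, 6, 21, 15, 12, 16, 2, 10, 17, 4, 22, 19, 13, 23],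
  [0, 12, 11, 20, 6, 5, 4, 21, 8, 9, 10, 2, 1, 22, 15, 14, 19, 17, 18, 16, 3, 7, 13, 23],
  [0, 7, 13, 16, 15, 5, 14, 1, 8, 9, 10, 22, 21, 2, 6, 4, 3, 17, 18, 20, 19, 12, 11, 23],
  [0, 3, 13, 20, 2, 9, 14, 21, 8, 5, 18, 6, 1, 15, 22, 4, 7, 17, 10, 16, 12, 19, 11, 23],
  [0, 19, 11, 16, 22, 9, 4, 1, 8, 5, 18, 15, 21, 6, 2, 14, 12, 17, 10, 20, 7, 3, 13, 23],
  [0, 22, 11, 16, 19, 5, 14, 21, 17, 9, 18, 7, 1, 12, 3, 4, 6, 8, 10, 20, 15, 2, 13, 23],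
  [0, 2, 13, 20, 3, 5, 4, 1, 17, 9, 18, 12, 21, 7, 19, 14, 15, 8, 10, 16, 6, 22, 11, 23],
  [0, 15, 13, 16, 7, 9, 4, 21, 17, 5, 10, 19, 1, 3, 12, 14, 2, 8, 18, 20, 22, 6, 11, 23],
  [0, 6, 11, 20, 12, 9, 14, 1, 17, 5, 10, 3, 21, 19, 7, 4, 22, 8, 18, 16, 2, 15, 13, 23],
  [0, 2, 4, 21, 19, 9, 13, 16, 17, 5, 10, 7, 20, 12, 3, 11, 15, 8, 18, 1, 6, 22, 14, 23],
  [0, 22, 14, 1, 3, 9, 11, 20, 17, 5, 10, 12, 16, 7, 19, 13, 6, 8, 18, 21, 15, 2, 4, 23],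
  [0, 6, 14, 21, 7, 5, 11, 16, 17, 9, 18, 19, 20, 3, 12, 13, 22, 8, 10, 1, 2, 15, 4, 23],
  [0, 15, 4, 1, 12, 5, 13, 20, 17, 9, 18, 3, 16, 19, 7, 11, 2, 8, 10, 21, 22, 6, 14, 23],
  [0, 7, 14, 21, 6, 9, 13, 20, 8, 5, 18, 2, 16, 22, 15, 11, 3, 17, 10, 1, 19, 12, 4, 23],
  [0, 12, 4, 1, 15, 9, 11, 16, 8, 5, 18, 22, 20, 2, 6, 13, 19, 17, 10, 21, 3, 7, 14, 23],
  [0, 19, 4, 21, 2, 5, 11, 20, 8, 9, 10, 6, 16, 15, 22, 13, 12, 17, 18, 1, 7, 3, 14, 23],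
  [0, 3, 14, 1, 22, 5, 13, 16, 8, 9, 10, 15, 20, 6, 2, 11, 7, 17, 18, 21, 12, 19, 4, 23],
  [0, 12, 20, 21, 3, 9, 13, 14, 10, 5, 17, 22, 4, 2, 19, 11, 6, 18, 8, 1, 15, 7, 16, 23],
  [0, 7, 16, 1, 19, 9, 11, 4, 10, 5, 17, 2, 14, 22, 3, 13, 15, 18, 8, 21, 6, 12, 20, 23],
  [0, 3, 20, 21, 12, 5, 11, 4, 18, 9, 17, 15, 14, 6, 7, 13, 2, 10, 8, 1, 22, 19, 16, 23],
  [0, 19, 16, 1, 7, 5, 13, 14, 18, 9, 17, 6, 4, 15, 12, 11, 22, 10, 8, 21, 2, 3, 20, 23],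
  [0, 22, 16, 21, 15, 9, 13, 4, 18, 5, 8, 12, 14, 7, 6, 11, 19, 10, 17, 1, 3, 2, 20, 23],
  [0, 2, 20, 1, 6, 9, 11, 14, 18, 5, 8, 7, 4, 12, 15, 13, 3, 10, 17, 21, 19, 22, 16, 23],
  [0, 15, 16, 21, 22, 5, 11, 14, 10, 9, 8, 3, 4, 19, 2, 13, 7, 18, 17, 1, 12, 6, 20, 23],
  [0, 6, 20, 1, 2, 5, 13, 4, 10, 9, 8, 19, 14, 3, 22, 11, 12, 18, 17, 21, 7, 15, 16, 23],
  [0, 2, 14, 13, 15, 9, 21, 20, 10, 5, 17, 7, 16, 12, 6, 1, 19, 18, 8, 11, 3, 22, 4, 23],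
  [0, 22, 4, 11, 6, 9, 1, 16, 10, 5, 17, 12, 20, 7, 15, 21, 3, 18, 8, 13, 19, 2, 14, 23],
  [0, 6, 4, 11, 22, 5, 21, 20, 18, 9, 17, 19, 16, 3, 2, 1, 7, 10, 8, 13, 12, 15, 14, 23],
  [0, 15, 14, 13, 2, 5, 1, 16, 18, 9, 17, 3, 20, 19, 22, 21, 12, 10, 8, 11, 7, 6, 4, 23],
  [0, 7, 4, 13, 3, 9, 21, 16, 18, 5, 8, 2, 20, 22, 19, 1, 6, 10, 17, 11, 15, 12, 14, 23],
  [0, 12, 14, 11, 19, 9, 1, 20, 18, 5, 8, 22, 16, 2, 3, 21, 15, 10, 17, 13, 6, 7, 4, 23],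
  [0, 19, 14, 11, 12, 5, 21, 16, 10, 9, 8, 6, 20, 15, 7, 1, 2, 18, 17, 13, 22, 3, 4, 23],
  [0, 3, 4, 13, 7, 5, 1, 20, 10, 9, 8, 15, 16, 6, 12, 21, 22, 18, 17, 11, 2, 19, 14, 23],
  [0, 12, 16, 13, 6, 9, 21, 4, 17, 5, 10, 22, 14, 2, 15, 1, 3, 8, 18, 11, 19, 7, 20, 23],
  [0, 7, 20, 11, 15, 9, 1, 14, 17, 5, 10, 2, 4, 22, 6, 21, 19, 8, 18, 13, 3, 12, 16, 23],
  [0, 3, 16, 11, 2, 5, 21, 14, 17, 9, 18, 15, 4, 6, 22, 1, 12, 8, 10, 13, 7, 19, 20, 23],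
  [0, 19, 20, 13, 22, 5, 1, 4, 17, 9, 18, 6, 14, 15, 2, 21, 7, 8, 10, 11, 12, 3, 16, 23],
  [0, 22, 20, 13, 19, 9, 21, 14, 8, 5, 18, 12, 4, 7, 3, 1, 15, 17, 10, 11, 6, 2, 16, 23],
  [0, 2, 16, 11, 3, 9, 1, 4, 8, 5, 18, 7, 14, 12, 19, 21, 6, 17, 10, 13, 15, 22, 20, 23],
  [0, 15, 20, 11, 7, 5, 21, 4, 8, 9, 10, 3, 14, 19, 12, 1, 22, 17, 18, 13, 2, 6, 16, 23],
  [0, 6, 16, 13, 12, 5, 1, 14, 8, 9, 10, 19, 4, 3, 7, 21, 2, 17, 18, 11, 22, 15, 20, 23]]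

/-- Witnesses of non-centrality. -/
def ws : List (Nat × Nat) := [
  (0, 0), (0, 0), (4, 1), (4, 1), (5, 1), (5, 1), (4, 1), (4, 1), (5, 1), (5, 1), (4, 1), (4, 1), (5, 1), (5, 1), (4, 1), (4, 1),
  (1, 1), (1, 1), (1, 1), (1, 1), (1, 1), (1, 1), (1, 1), (1, 1), (1, 1), (1, 1), (1, 1), (1, 1), (1, 1), (1, 1), (1, 1), (1, 1),
  (1, 1), (1, 1), (1, 1), (1, 1), (1, 1), (1, 1), (1, 1), (1, 1), (2, 1), (2, 1), (2, 1), (2, 1), (2, 1), (2, 1), (2, 1), (2, 1),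
  (1, 1), (1, 1), (1, 1), (1, 1), (1, 1), (1, 1), (1, 1), (1, 1), (2, 1), (2, 1), (2, 1), (2, 1), (2, 1), (2, 1), (2, 1), (2, 1),
  (1, 1), (1, 1), (1, 1), (1, 1), (1, 1), (1, 1), (1, 1), (1, 1), (1, 1), (1, 1), (1, 1), (1, 1), (1, 1), (1, 1), (1, 1), (1, 1),
  (1, 1), (1, 1), (1, 1), (1, 1), (1, 1), (1, 1), (1, 1), (1, 1), (1, 1), (1, 1), (1, 1), (1, 1), (1, 1), (1, 1), (1, 1), (1, 1),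
  (1, 1), (1, 1), (1, 1), (1, 1), (1, 1), (1, 1), (1, 1), (1, 1), (1, 1), (1, 1), (1, 1), (1, 1), (1, 1), (1, 1), (1, 1), (1, 1),
  (1, 1), (1, 1), (1, 1), (1, 1), (1, 1), (1, 1), (1, 1), (1, 1), (1, 1), (1, 1), (1, 1), (1, 1), (1, 1), (1, 1), (1, 1), (1, 1)]

/-- Conjugating elements with their inverses. -/
def Cg : List (List Nat × List Nat) := [
  ([0, 12, 4, 11, 19, 21, 5, 18, 20, 1, 17, 22, 10, 15, 7, 9, 2, 16, 8, 13, 6, 3, 14, 23], [0, 9, 16, 21, 2, 6, 20, 14, 18, 15, 12, 3, 1, 19, 22, 13, 17, 10, 7, 4, 8, 5, 11, 23]),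
  ([0, 7, 20, 14, 22, 1, 18, 17, 11, 21, 5, 6, 8, 19, 12, 10, 15, 13, 9, 4, 3, 2, 16, 23], [0, 5, 21, 20, 19, 10, 11, 1, 12, 18, 15, 8, 14, 17, 3, 16, 22, 7, 6, 13, 2, 9, 4, 23]),
  ([0, 6, 22, 12, 3, 11, 8, 17, 21, 1, 5, 16, 10, 14, 19, 18, 4, 13, 9, 2, 20, 15, 7, 23], [0, 9, 19, 4, 16, 10, 1, 22, 6, 18, 12, 5, 3, 17, 13, 21, 11, 7, 15, 14, 20, 8, 2, 23]),
  ([0, 19, 8, 17, 6, 12, 21, 11, 22, 2, 5, 14, 1, 4, 3, 13, 16, 7, 9, 10, 20, 15, 18, 23], [0, 12, 9, 14, 13, 10, 4, 17, 2, 18, 19, 7, 5, 15, 11, 21, 16, 3, 22, 1, 20, 6, 8, 23]),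
  ([0, 17, 20, 14, 15, 10, 1, 16, 3, 18, 2, 9, 13, 5, 6, 4, 12, 19, 22, 21, 7, 8, 11, 23], [0, 6, 10, 8, 15, 13, 14, 20, 21, 11, 5, 22, 16, 12, 3, 4, 7, 1, 9, 17, 2, 19, 18, 23]),
  ([0, 15, 19, 21, 12, 8, 7, 16, 9, 18, 17, 3, 6, 14, 11, 13, 2, 10, 5, 22, 1, 20, 4, 23], [0, 20, 16, 11, 22, 18, 12, 6, 5, 8, 17, 14, 4, 15, 13, 1, 7, 10, 9, 2, 21, 3, 19, 23])]

/-- The fusion program. -/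
def fus : List (Nat × Nat × Nat × List Nat) := [
  (0, 0, 1000000, [0, 1, 6, 12, 14, 9, 2, 19, 8, 5, 18, 13, 3, 11, 4, 22, 16, 17, 10, 7, 20, 21, 15, 23]),
  (1, 0, 1000000, [0, 1, 7, 15, 14, 5, 19, 2, 17, 9, 18, 11, 22, 13, 4, 3, 20, 8, 10, 6, 16, 21, 12, 23]),
  (2, 0, 1000000, [0, 1, 12, 19, 20, 5, 15, 22, 18, 9, 17, 11, 2, 13, 16, 6, 14, 10, 8, 3, 4, 21, 7, 23]),
  (3, 0, 1000000, [0, 11, 2, 6, 14, 5, 3, 7, 18, 9, 17, 1, 12, 21, 4, 19, 20, 10, 8, 15, 16, 13, 22, 23]),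
  (4, 0, 1000000, [0, 4, 2, 3, 1, 9, 15, 12, 17, 5, 10, 20, 7, 16, 21, 6, 13, 8, 18, 19, 11, 14, 22, 23]),
  (5, 0, 1000000, [0, 2, 1, 14, 19, 5, 16, 13, 8, 9, 10, 12, 11, 7, 3, 20, 6, 17, 18, 4, 15, 22, 21, 23])]

theorem hE : Enum (grp gT) L := enum_pc gT L (by decide +kernel)

theorem card_grp : Nat.card (grp gT) = 2 ^ 7 := by
  rw [hE.card]
  decide +kernel

theorem gT_mem : ∀ t ∈ gT, ∃ g ∈ M22, Rep g t := all_gens exists_M22 gT (by decide +kernel)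

theorem grpLe : grp gT ≤ M22 := grp_le gT M22 gT_mem

theorem Cg_mem : ∀ c ∈ Cg, ∃ g ∈ M22, Rep g c.1 ∧ Rep g⁻¹ c.2 :=
  all_pairs exists_M22 Cg (by decide +kernel)

theorem norm_le : (M22 ⊓ Subgroup.normalizer ((grp gT : Subgroup (Equiv.Perm GolayPt)) : Set (Equiv.Perm GolayPt))) ≤ grp gT := by
  have h0 : (M22 ⊓ Subgroup.normalizer ((grp gT : Subgroup (Equiv.Perm GolayPt)) : Set (Equiv.Perm GolayPt))) ⊓ FixL [] ≤ grp gT := by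
    apply sift_level hE grpLe [8388608, 1] extra_M22
      [([], [128, 8, 8, 8, 8, 64, 8, 8, 32, 64, 32, 8, 8, 8, 8, 8, 8, 32, 32, 8, 8, 8, 8, 128], [32, 64])]
      [] 1 [1, 2, 3, 4, 6, 7, 11, 12, 13, 14, 15, 16, 19, 20, 21, 22] (by decide +kernel)
    apply sift_level hE grpLe [8388608, 1] extra_M22
      [([1], [8, 8, 1, 1, 2, 4, 1, 1, 2, 4, 2, 4, 1, 4, 2, 1, 2, 2, 2, 1, 2, 8, 1, 8], [2, 4, 8])]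
      [1] 2 [2, 3, 6, 7, 12, 15, 19, 22] (by decide +kernel)
    exact rigid_end hE (M22_le) [8388608, 1] extra_M22
      [([2], [8, 1, 8, 2, 1, 4, 2, 4, 2, 4, 2, 1, 4, 1, 1, 2, 1, 2, 2, 2, 1, 1, 8, 8], [8]), ([1], [8, 8, 1, 1, 2, 4, 1, 1, 2, 4, 2, 4, 1, 4, 2, 1, 2, 2, 2, 1, 2, 8, 1, 8], [4, 8])]
      [2, 1] 3 6 (by decide +kernel)
  intro g hg
  exact h0 ⟨hg, fun f hf => absurd hf List.not_mem_nil⟩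

theorem isPGroup : IsPGroup 2 (grp gT) := IsPGroup.of_card card_grp

theorem closed (T : Subgroup (Equiv.Perm GolayPt)) (hT : T ≤ grp gT) (hT0 : T ≠ ⊥)
    (hcl : ∀ x ∈ T, ∀ g ∈ M22, g * x * g⁻¹ ∈ grp gT → g * x * g⁻¹ ∈ T) : grp gT ≤ T :=
  closed_grp hE isPGroup grpLe zT ws Cg Cg_mem fus (by decide +kernel) T hT hT0 hcl

end Cfsg.Agent.Lib.Helper86.SylM22
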