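import Mathlib
import Cfsg.Agent.Lib.Helper26.T64Stmt

/-!
# S3157: the abelian `ρ`-invariant subgroup `K = ⟨t, ρ t, Z⟩` (helper86)
-/

set_option autoImplicit false

namespace Cfsg.Agent.Lib.Helper86.T64K

open Cfsg.Agent.Lib.Helper26.T64Stmt

universe u

theorem rho_center {T : Type u} [Group T] (ρ : MulAut T) :
    ∀ z ∈ Subgroup.center T, ρ z ∈ Subgroup.center T := by
  intro z hz
  rw [Subgroup.mem_center_iff] at hz ⊢
  intro g
  have h1 := hz (ρ.symm g)
  have h2 := congrArg ρ h1
  simpa using h2

theorem exists_K {T : Type u} [Group T] (ρ : MulAut T) (hF : FpfFacts T ρ) (t : T) :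
    ∃ K : Subgroup T, Subgroup.center T ≤ K ∧ t ∈ K ∧ (∀ n ∈ K, ρ n ∈ K) ∧
      (∀ a ∈ K, ∀ b ∈ K, a * b = b * a) := by
  obtain ⟨S, hS⟩ : ∃ S : Set T, S = {t, ρ t} ∪ (Subgroup.center T : Set T) := ⟨_, rfl⟩
  have hcomm : ∀ x ∈ S, ∀ y ∈ S, x * y = y * x := by
    intro x hx y hy
    rw [hS] at hx hy
    rcases hx with hx | hx
    · rcases hy with hy | hy
      · rcases hx with rfl | rfl <;> rcases hy with rfl | rfl
        · rfl
        · exact (hF _).2
        · exact ((hF _).2).symm
        · rfl
      · exact Subgroup.mem_center_iff.mp hy x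
    · exact (Subgroup.mem_center_iff.mp hx y).symm
  have ht : t ∈ Subgroup.closure S :=
    Subgroup.subset_closure (by rw [hS]; exact Or.inl (Or.inl rfl))
  have hρt : ρ t ∈ Subgroup.closure S :=
    Subgroup.subset_closure (by rw [hS]; exact Or.inl (Or.inr rfl))
  refine ⟨Subgroup.closure S, ?_, ht, ?_, ?_⟩
  · intro z hz
    exact Subgroup.subset_closure (by rw [hS]; exact Or.inr hz)
  · intro n hn
    induction hn using Subgroup.closure_induction with
    | mem x hx =>
      rw [hS] at hx
      rcases hx with hx | hx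
      · rcases hx with rfl | rfl
        · exact hρt
        · rw [eq_inv_of_mul_eq_one_right (hF t).1]
          exact Subgroup.inv_mem _ (Subgroup.mul_mem _ ht hρt)
      · exact Subgroup.subset_closure (by rw [hS]; exact Or.inr (rho_center ρ x hx))
    | one =>
      rw [map_one]
      exact Subgroup.one_mem _
    | mul x y _ _ hx hy =>
      rw [map_mul]
      exact Subgroup.mul_mem _ hx hy
    | inv x _ hx =>
      rw [map_inv]
      exact Subgroup.inv_mem _ hx
  · intro a ha b hb
    have hc := Subgroup.isMulCommutative_closure hcomm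
    have h := hc.is_comm.comm (⟨a, ha⟩ : Subgroup.closure S) ⟨b, hb⟩
    exact congrArg Subtype.val h

end Cfsg.Agent.Lib.Helper86.T64K
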