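import Mathlib
import Cfsg.Agent.Lib.Helper26.T64Stmt
import Cfsg.Agent.Lib.Helper86.T64K

/-!
# S3157 piece SQ (helper86): squares are central
-/

set_option autoImplicit false

namespace Cfsg.Agent.Lib.Helper86.T64SQ

open Cfsg.Agent.Lib.Helper26.T64Stmt

universe u

theorem main : Cfsg.Agent.Lib.Helper26.T64Stmt.SQ.{u} := by
  intro T _ _ ρ hcard hnc hρ hFpf hF hLang hMod hZ4 hZexp t
  by_contra htt
  obtain ⟨K, hZK, htK, hKρ, hKc⟩ := T64K.exists_K ρ hF t
  have htZ : t ∉ Subgroup.center T := fun h => htt (Subgroup.mul_mem _ h h)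
  have hKdvd : Nat.card K ∣ 2 ^ 6 := by
    have h := Subgroup.card_subgroup_dvd_card K
    rw [hcard] at h
    exact h
  obtain ⟨i, hi, hKi⟩ := (Nat.dvd_prime_pow Nat.prime_two).mp hKdvd
  have h4 : 4 ∣ Nat.card K := hZ4 ▸ Subgroup.card_dvd_of_le hZK
  have hKmod := hMod K hKρ
  have hKne4 : Nat.card K ≠ 4 := by
    intro h
    have hEq : Subgroup.center T = K :=
      Subgroup.eq_of_le_of_card_ge hZK (by rw [h, hZ4])
    exact htZ (hEq ▸ htK)
  have hKne64 : Nat.card K ≠ 64 := by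
    intro hKc64
    have hKtop : K = ⊤ := (Subgroup.card_eq_iff_eq_top K).mp (by rw [hKc64, hcard])
    apply hnc
    exact ⟨⟨fun a b => hKc a (hKtop ▸ Subgroup.mem_top a) b (hKtop ▸ Subgroup.mem_top b)⟩⟩
  have hK16 : Nat.card K = 16 := by
    have hic : i = 0 ∨ i = 1 ∨ i = 2 ∨ i = 3 ∨ i = 4 ∨ i = 5 ∨ i = 6 := by omega
    rcases hic with rfl | rfl | rfl | rfl | rfl | rfl | rfl
    · rw [hKi] at h4
      norm_num at h4
    · rw [hKi] at h4
      norm_num at h4
    · exact absurd (by rw [hKi]; norm_num) hKne4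
    · rw [hKi] at hKmod
      norm_num at hKmod
    · rw [hKi]
      norm_num
    · rw [hKi] at hKmod
      norm_num at hKmod
    · exact absurd (by rw [hKi]; norm_num) hKne64
  -- the subgroup of elements of `K` with central square
  let Sq : Subgroup T :=
    { carrier := {k | k ∈ K ∧ k * k ∈ Subgroup.center T}
      one_mem' := ⟨K.one_mem, by simp⟩
      mul_mem' := by
        intro a b ha hb
        refine ⟨K.mul_mem ha.1 hb.1, ?_⟩
        have h : a * b * (a * b) = a * a * (b * b) := by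
          calc a * b * (a * b) = a * (b * a) * b := by group
            _ = a * (a * b) * b := by rw [hKc a ha.1 b hb.1]
            _ = a * a * (b * b) := by group
        rw [h]
        exact Subgroup.mul_mem _ ha.2 hb.2
      inv_mem' := by
        intro a ha
        refine ⟨K.inv_mem ha.1, ?_⟩
        rw [← mul_inv_rev]
        exact Subgroup.inv_mem _ ha.2 }
  have hSqmem : ∀ k : T, k ∈ Sq ↔ k ∈ K ∧ k * k ∈ Subgroup.center T := fun k => Iff.rfl
  have hSqK : Sq ≤ K := fun k hk => ((hSqmem k).mp hk).1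
  have hZSq : Subgroup.center T ≤ Sq := fun z hz =>
    (hSqmem z).mpr ⟨hZK hz, Subgroup.mul_mem _ hz hz⟩
  have hSqρ : ∀ n ∈ Sq, ρ n ∈ Sq := by
    intro n hn
    have hn' := (hSqmem n).mp hn
    refine (hSqmem _).mpr ⟨hKρ n hn'.1, ?_⟩
    rw [← map_mul]
    exact T64K.rho_center ρ _ hn'.2
  have hSqmod := hMod Sq hSqρ
  have hSqdvd : Nat.card Sq ∣ 2 ^ 4 := by
    have h := Subgroup.card_dvd_of_le hSqK
    rw [hK16] at h
    exact h
  have hSq4 : 4 ∣ Nat.card Sq := hZ4 ▸ Subgroup.card_dvd_of_le hZSq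
  have hSqne16 : Nat.card Sq ≠ 16 := by
    intro h
    have hEq : Sq = K := Subgroup.eq_of_le_of_card_ge hSqK (by rw [h, hK16])
    have htSq : t ∈ Sq := hEq ▸ htK
    exact htt ((hSqmem t).mp htSq).2
  obtain ⟨j, hj, hSqj⟩ := (Nat.dvd_prime_pow Nat.prime_two).mp hSqdvd
  have hSqcard : Nat.card Sq = 4 := by
    have hjc : j = 0 ∨ j = 1 ∨ j = 2 ∨ j = 3 ∨ j = 4 := by omega
    rcases hjc with rfl | rfl | rfl | rfl | rfl
    · rw [hSqj] at hSq4
      norm_num at hSq4
    · rw [hSqj] at hSq4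
      norm_num at hSq4
    · rw [hSqj]
      norm_num
    · rw [hSqj] at hSqmod
      norm_num at hSqmod
    · exact absurd (by rw [hSqj]; norm_num) hSqne16
  have hZeqSq : Subgroup.center T = Sq :=
    Subgroup.eq_of_le_of_card_ge hZSq (by rw [hSqcard, hZ4])
  have hdesc : ∀ k ∈ K, k * k ∈ Subgroup.center T → k ∈ Subgroup.center T := by
    intro k hk hkk
    rw [hZeqSq]
    exact (hSqmem k).mpr ⟨hk, hkk⟩
  have ht16 : t ^ 16 = 1 := by
    have h := pow_card_eq_one' (G := K) (x := ⟨t, htK⟩)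
    rw [hK16] at h
    have h2 := congrArg Subtype.val h
    simpa using h2
  have ht8 : t ^ 8 ∈ Subgroup.center T := by
    apply hdesc _ (K.pow_mem htK 8)
    rw [← pow_add, ht16]
    exact Subgroup.one_mem _
  have ht4 : t ^ 4 ∈ Subgroup.center T := by
    apply hdesc _ (K.pow_mem htK 4)
    rw [← pow_add]
    exact ht8
  have ht2 : t ^ 2 ∈ Subgroup.center T := by
    apply hdesc _ (K.pow_mem htK 2)
    rw [← pow_add]
    exact ht4
  rw [sq] at ht2
  exact htt ht2

end Cfsg.Agent.Lib.Helper86.T64SQ
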