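import Mathlib
import Cfsg.Agent.Lib.Helper26.T64Stmt
import Cfsg.Agent.Lib.Helper86.T64K

/-!
# S3157 piece ZCARD (helper86): the centre has order 4
-/

set_option autoImplicit false

namespace Cfsg.Agent.Lib.Helper86.T64ZCARD

open Cfsg.Agent.Lib.Helper26.T64Stmt

universe u

theorem main : Cfsg.Agent.Lib.Helper26.T64Stmt.ZCARD.{u} := by
  intro T _ _ ρ hcard hnc hρ hFpf hF hLang hMod
  have hρZ : ∀ z ∈ Subgroup.center T, ρ z ∈ Subgroup.center T := T64K.rho_center ρ
  have hZmod : Nat.card (Subgroup.center T) % 3 = 1 := hMod _ hρZ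
  have hZdvd : Nat.card (Subgroup.center T) ∣ 2 ^ 6 := by
    have h := Subgroup.card_subgroup_dvd_card (Subgroup.center T)
    rw [hcard] at h
    exact h
  obtain ⟨j, hj, hZj⟩ := (Nat.dvd_prime_pow Nat.prime_two).mp hZdvd
  have hcomm_of_top : ∀ K : Subgroup T, (∀ a ∈ K, ∀ b ∈ K, a * b = b * a) →
      Nat.card K = 64 → False := by
    intro K hK hKc
    have hKtop : K = ⊤ := (Subgroup.card_eq_iff_eq_top K).mp (by rw [hKc, hcard])
    apply hnc
    exact ⟨⟨fun a b => hK a (hKtop ▸ Subgroup.mem_top a) b (hKtop ▸ Subgroup.mem_top b)⟩⟩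
  have hcenter_comm : ∀ a ∈ Subgroup.center T, ∀ b ∈ Subgroup.center T, a * b = b * a :=
    fun a _ b hb => Subgroup.mem_center_iff.mp hb a
  have hpg : IsPGroup 2 T := IsPGroup.of_card (n := 6) (by rw [hcard]; norm_num)
  have hnt : Nontrivial T := by
    apply Finite.one_lt_card_iff_nontrivial.mp
    rw [hcard]
    norm_num
  have hZnt : Nontrivial (Subgroup.center T) := hpg.center_nontrivial
  have hZ1 : Nat.card (Subgroup.center T) ≠ 1 := by
    intro h
    have h1 := Finite.one_lt_card_iff_nontrivial.mpr hZnt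
    omega
  have hjc : j = 0 ∨ j = 1 ∨ j = 2 ∨ j = 3 ∨ j = 4 ∨ j = 5 ∨ j = 6 := by omega
  rcases hjc with rfl | rfl | rfl | rfl | rfl | rfl | rfl
  · exact absurd (by rw [hZj]; norm_num) hZ1
  · rw [hZj] at hZmod
    norm_num at hZmod
  · rw [hZj]
    norm_num
  · rw [hZj] at hZmod
    norm_num at hZmod
  · exfalso
    have hex : ∃ t, t ∉ Subgroup.center T := by
      by_contra h
      push Not at h
      have htop : Subgroup.center T = ⊤ := (Subgroup.eq_top_iff' _).mpr h
      rw [htop, Subgroup.card_top, hcard] at hZj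
      norm_num at hZj
    obtain ⟨t, ht⟩ := hex
    obtain ⟨K, hZK, htK, hKρ, hKc⟩ := T64K.exists_K ρ hF t
    have hKdvd : Nat.card K ∣ 2 ^ 6 := by
      have h := Subgroup.card_subgroup_dvd_card K
      rw [hcard] at h
      exact h
    obtain ⟨i, hi, hKi⟩ := (Nat.dvd_prime_pow Nat.prime_two).mp hKdvd
    have h16 : 2 ^ 4 ∣ Nat.card K := hZj ▸ Subgroup.card_dvd_of_le hZK
    have hKmod := hMod K hKρ
    have hKne : Nat.card K ≠ 2 ^ 4 := by
      intro h
      have hEq : Subgroup.center T = K :=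
        Subgroup.eq_of_le_of_card_ge hZK (by rw [h, hZj])
      exact ht (hEq ▸ htK)
    have hic : i = 0 ∨ i = 1 ∨ i = 2 ∨ i = 3 ∨ i = 4 ∨ i = 5 ∨ i = 6 := by omega
    rcases hic with rfl | rfl | rfl | rfl | rfl | rfl | rfl
    · rw [hKi] at h16
      norm_num at h16
    · rw [hKi] at h16
      norm_num at h16
    · rw [hKi] at h16
      norm_num at h16
    · rw [hKi] at h16
      norm_num at h16
    · exact hKne hKi
    · rw [hKi] at hKmod
      norm_num at hKmod
    · exact hcomm_of_top K hKc (by rw [hKi]; norm_num)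
  · rw [hZj] at hZmod
    norm_num at hZmod
  · exact (hcomm_of_top _ hcenter_comm (by rw [hZj]; norm_num)).elim

end Cfsg.Agent.Lib.Helper86.T64ZCARD
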