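import Mathlib
import Cfsg.Agent.Lib.Helper56.TPStmt

/-!
# S3557 piece SYLORB (helper86): Sylow orbits have size divisible by the `p`-part of `|Ω|`
-/

set_option autoImplicit false

namespace Cfsg.Agent.Lib.Helper86.TPSYLORB

universe u v

theorem main : Cfsg.Agent.Lib.Helper56.TPStmt.SylOrb.{u, v} := by
  intro G Ω _ _ _ _ hT p hp P a
  have hpp : p.Prime := hp.out
  -- orbit-stabilizer for `P`
  have h1 : Nat.card (MulAction.stabilizer (↥(P : Subgroup G)) a) *
      Nat.card (MulAction.orbit (↥(P : Subgroup G)) a) = Nat.card (↥(P : Subgroup G)) := by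
    have h := Subgroup.card_mul_index (MulAction.stabilizer (↥(P : Subgroup G)) a)
    rw [MulAction.index_stabilizer, ← Nat.card_coe_set_eq] at h
    exact h
  -- orbit-stabilizer for `G`
  have h2 : Nat.card (MulAction.stabilizer G a) * Nat.card Ω = Nat.card G := by
    have h := Subgroup.card_mul_index (MulAction.stabilizer G a)
    rw [MulAction.index_stabilizer_of_transitive] at h
    exact h
  have hP : Nat.card (↥(P : Subgroup G)) = p ^ (Nat.card G).factorization p :=
    P.card_eq_multiplicity
  -- the stabilizer in `P` embeds into the stabilizer in `G`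
  have h3 : Nat.card (MulAction.stabilizer (↥(P : Subgroup G)) a) ∣
      Nat.card (MulAction.stabilizer G a) := by
    let f : MulAction.stabilizer (↥(P : Subgroup G)) a →* MulAction.stabilizer G a :=
      { toFun := fun x => ⟨x.1.1, by
          have hx := x.2
          rw [MulAction.mem_stabilizer_iff] at hx ⊢
          exact hx⟩
        map_one' := rfl
        map_mul' := fun _ _ => rfl }
    refine Subgroup.card_dvd_of_injective f ?_
    intro x y hxy
    have h := congrArg (fun w : MulAction.stabilizer G a => (w : G)) hxy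
    exact Subtype.ext (Subtype.ext h)
  obtain ⟨k, hk⟩ : ∃ k, Nat.card (MulAction.stabilizer (↥(P : Subgroup G)) a) = p ^ k := by
    have h := Subgroup.card_subgroup_dvd_card (MulAction.stabilizer (↥(P : Subgroup G)) a)
    rw [hP] at h
    obtain ⟨k, _, hk⟩ := (Nat.dvd_prime_pow hpp).mp h
    exact ⟨k, hk⟩
  obtain ⟨j, hj⟩ : ∃ j, Nat.card (MulAction.orbit (↥(P : Subgroup G)) a) = p ^ j := by
    have h : Nat.card (MulAction.orbit (↥(P : Subgroup G)) a) ∣ Nat.card (↥(P : Subgroup G)) :=
      Dvd.intro_left _ h1
    rw [hP] at h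
    obtain ⟨j, _, hj⟩ := (Nat.dvd_prime_pow hpp).mp h
    exact ⟨j, hj⟩
  have hΩ0 : Nat.card Ω ≠ 0 := by
    have : Nonempty Ω := ⟨a⟩
    exact Nat.card_pos.ne'
  have hS0 : Nat.card (MulAction.stabilizer G a) ≠ 0 := Nat.card_pos.ne'
  -- exponents
  have hn : (Nat.card G).factorization p =
      (Nat.card (MulAction.stabilizer G a)).factorization p + (Nat.card Ω).factorization p := by
    rw [← h2, Nat.factorization_mul hS0 hΩ0]
    rfl
  have hks : k ≤ (Nat.card (MulAction.stabilizer G a)).factorization p := by
    rw [hk] at h3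
    exact (hpp.pow_dvd_iff_le_factorization hS0).mp h3
  have hjk : k + j = (Nat.card G).factorization p := by
    rw [hk, hj, hP, ← pow_add] at h1
    exact Nat.pow_right_injective hpp.two_le h1
  rw [hj]
  exact pow_dvd_pow p (by omega)

end Cfsg.Agent.Lib.Helper86.TPSYLORB
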