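import Mathlib
import Cfsg.Agent.Lib.Helper56.TPStmt

/-!
# S3557 piece TWOORB (helper86): two orbits of size `p²`
-/

set_option autoImplicit false

namespace Cfsg.Agent.Lib.Helper86.TPTWOORB

universe u v

theorem main : Cfsg.Agent.Lib.Helper56.TPStmt.TwoOrb.{u, v} := by
  intro G Ω _ _ _ p P hcard hp hdiv S hS hSc hinv
  have hinvc : ∀ g ∈ P, ∀ b, b ∉ S → g • b ∉ S := by
    intro g hg b hb hgb
    apply hb
    have h := hinv g⁻¹ (P.inv_mem hg) _ hgb
    simpa using h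
  have hp2 : 0 < p ^ 2 := by positivity
  have hge : ∀ a : Ω, p ^ 2 ≤ (MulAction.orbit (↥P) a).ncard := by
    intro a
    have h := hdiv a
    rw [Nat.card_coe_set_eq] at h
    have hpos : 0 < (MulAction.orbit (↥P) a).ncard := by
      rw [Set.ncard_pos]
      exact MulAction.nonempty_orbit a
    exact Nat.le_of_dvd hpos h
  have hsubS : ∀ a ∈ S, MulAction.orbit (↥P) a ⊆ S := by
    intro a ha b hb
    obtain ⟨x, rfl⟩ := MulAction.mem_orbit_iff.mp hb
    exact hinv x.1 x.2 a ha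
  have hsubSc : ∀ b, b ∉ S → MulAction.orbit (↥P) b ⊆ Sᶜ := by
    intro b hb c hc
    obtain ⟨x, rfl⟩ := MulAction.mem_orbit_iff.mp hc
    exact hinvc x.1 x.2 b hb
  have hsum : S.ncard + Sᶜ.ncard = 2 * p ^ 2 := by
    rw [Set.ncard_add_ncard_compl, hcard]
  obtain ⟨a₀, ha₀⟩ := hS
  obtain ⟨b₀, hb₀⟩ := hSc
  have hSge : p ^ 2 ≤ S.ncard := (hge a₀).trans (Set.ncard_le_ncard (hsubS a₀ ha₀))
  have hScge : p ^ 2 ≤ Sᶜ.ncard := (hge b₀).trans (Set.ncard_le_ncard (hsubSc b₀ hb₀))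
  have hSeq : S.ncard = p ^ 2 := by omega
  have hSceq : Sᶜ.ncard = p ^ 2 := by omega
  have horbS : ∀ a ∈ S, MulAction.orbit (↥P) a = S := by
    intro a ha
    exact Set.eq_of_subset_of_ncard_le (hsubS a ha) (by rw [hSeq]; exact hge a)
  have horbSc : ∀ b, b ∉ S → MulAction.orbit (↥P) b = Sᶜ := by
    intro b hb
    exact Set.eq_of_subset_of_ncard_le (hsubSc b hb) (by rw [hSceq]; exact hge b)
  refine ⟨?_, ?_, ?_⟩
  · intro a ha b hb
    have hb' : b ∈ MulAction.orbit (↥P) a := by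
      rw [horbS a ha]
      exact hb
    obtain ⟨x, hx⟩ := MulAction.mem_orbit_iff.mp hb'
    exact ⟨x.1, x.2, hx⟩
  · intro a ha b hb
    have hb' : b ∈ MulAction.orbit (↥P) a := by
      rw [horbSc a ha]
      exact hb
    obtain ⟨x, hx⟩ := MulAction.mem_orbit_iff.mp hb'
    exact ⟨x.1, x.2, hx⟩
  · intro a
    rw [Nat.card_coe_set_eq]
    by_cases ha : a ∈ S
    · rw [horbS a ha, hSeq]
    · rw [horbSc a ha, hSceq]

end Cfsg.Agent.Lib.Helper86.TPTWOORB
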