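import Mathlib
import Cfsg.Agent.Lib.Lead.TuanStmt
import Cfsg.Agent.Lib.CT.Wedderburn

/-!
# S0997 part T, piece CzBound (helper86): `|C(z)|² ≤ 2^b · 2e`
-/

set_option autoImplicit false

namespace Cfsg.Agent.Lib.Helper86.TSCzBound

open Cfsg Cfsg.Agent.Lib.Lead Cfsg.Agent.Lib.Lead.BrHalf

universe u

theorem main (h1 : Cfsg.Agent.Lib.Lead.Tuan.CM.{u}) (h2 : Cfsg.Agent.Lib.Lead.Tuan.Pairs.{u})
    (h3 : Cfsg.Agent.Lib.Lead.Tuan.SumUp.{u}) : Cfsg.Agent.Lib.Lead.Tuan.CzBound.{u} := by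
  intro G _ _ p hpf c z hz hzx
  let _ : Fintype (IrrCharacter G) :=
    @Fintype.ofFinite _ (Cfsg.Agent.Lib.CT.Wedderburn.finite_irrCharacter G)
  have hN := h2 p c z hz hzx
  have hCM := h1 z c.x
  obtain ⟨r, hr, hsum⟩ := h3 p c z hz hzx
  rw [hsum] at hCM
  obtain ⟨N, hNdef⟩ : ∃ N : ℕ,
      N = Nat.card {q : G × G // IsConj z q.1 ∧ IsConj z q.2 ∧ q.1 * q.2 = c.x} := ⟨_, rfl⟩
  obtain ⟨C, hCdef⟩ : ∃ C : ℕ, C = Nat.card (Subgroup.centralizer ({z} : Set G)) := ⟨_, rfl⟩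
  rw [← hNdef] at hN hCM
  rw [← hCdef] at hCM ⊢
  rw [c.hcard] at hCM
  have hCMr : (N : ℝ) * (C : ℝ) ^ 2 = ((2 ^ c.b * p * (c.e + 1) : ℕ) : ℝ) * r := by
    exact_mod_cast hCM
  push_cast at hCMr
  have hp0 : (0 : ℝ) < p := by exact_mod_cast hpf.out.pos
  have h2b : (0 : ℝ) < 2 ^ c.b := by positivity
  have hNr : (p : ℝ) ≤ N := by exact_mod_cast hN
  have hC0 : (0 : ℝ) ≤ (C : ℝ) ^ 2 := by positivity
  have key : (p : ℝ) * (C : ℝ) ^ 2 ≤ (p : ℝ) * (2 ^ c.b * (2 * c.e)) := by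
    calc (p : ℝ) * (C : ℝ) ^ 2 ≤ N * (C : ℝ) ^ 2 := mul_le_mul_of_nonneg_right hNr hC0
      _ = 2 ^ c.b * p * (c.e + 1) * r := hCMr
      _ = 2 ^ c.b * p * (r * (c.e + 1)) := by ring
      _ ≤ 2 ^ c.b * p * (2 * c.e) := mul_le_mul_of_nonneg_left hr (by positivity)
      _ = p * (2 ^ c.b * (2 * c.e)) := by ring
  have hfin : (C : ℝ) ^ 2 ≤ 2 ^ c.b * (2 * c.e) := le_of_mul_le_mul_left key hp0
  exact_mod_cast hfin

end Cfsg.Agent.Lib.Helper86.TSCzBound
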