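import Mathlib
import Cfsg.Agent.Lib.Lead.TuanStmt
import Cfsg.Agent.Lib.Helper78.BrCPerZero

/-!
# S0997 part T, piece Deg (helper86): `θ₁ 1 = θ₂ 1 = e + 1`
-/

set_option autoImplicit false

namespace Cfsg.Agent.Lib.Helper86.TSDeg

open Cfsg Cfsg.Agent.Lib.Lead Cfsg.Agent.Lib.Lead.BrHalf

universe u

theorem main : Cfsg.Agent.Lib.Lead.Tuan.Deg.{u} := by
  intro G _ _ p _ c
  have hp := c.hp
  have hp2 : p ≠ 2 := by omega
  have h0 : per p c.ζ 0 = (c.e : ℂ) := by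
    have h := Cfsg.Agent.Lib.Helper78.BrCPerZero.main p hp2 c.ζ c.hζ 0 (dvd_zero p)
    rw [h]
    congr 1
    omega
  constructor
  · have h := c.hθ₁ 0
    rw [pow_zero, h0] at h
    rw [h]
    ring
  · have h := c.hθ₂ 0
    rw [pow_zero, zero_mul, h0] at h
    rw [h]
    ring

end Cfsg.Agent.Lib.Helper86.TSDeg
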