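import Mathlib
import Cfsg.Agent.Lib.Lead.TuanStmt

/-!
# S0997 part T, piece PhiF (helper86): `∑_{a<p} θ₁(x^a)² = p (e + 1)`
-/

set_option autoImplicit false

namespace Cfsg.Agent.Lib.Helper86.TSPhiF

open Cfsg Cfsg.Agent.Lib.Lead Cfsg.Agent.Lib.Lead.BrHalf

universe u

theorem main (h1 : Cfsg.Agent.Lib.Lead.Tuan.PerTot) (h2 : Cfsg.Agent.Lib.Lead.Tuan.PerSqTot) :
    Cfsg.Agent.Lib.Lead.Tuan.PhiF.{u} := by
  intro G _ _ p _ c
  have hp := c.hp
  have he := c.he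
  have hj := c.hj
  have he4 : 4 ∣ c.e := by
    rw [he]
    exact pow_dvd_pow 2 hj
  have hp2 : p ≠ 2 := by omega
  have hp4 : p % 4 = 1 := by omega
  have hT := h1 p hp2 c.ζ c.hζ
  have hS := h2 p hp4 c.ζ c.hζ
  have hpe : (p - 1) / 2 = c.e := by omega
  rw [hpe] at hS
  simp only [c.hθ₁]
  have hexp : ∀ a, (1 + per p c.ζ a) * (1 + per p c.ζ a) =
      1 + 2 * per p c.ζ a + per p c.ζ a * per p c.ζ a := by
    intro a
    ring
  simp only [hexp]
  rw [Finset.sum_add_distrib, Finset.sum_add_distrib, ← Finset.mul_sum, hT, hS,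
    Finset.sum_const, Finset.card_range]
  simp only [nsmul_eq_mul]
  ring

end Cfsg.Agent.Lib.Helper86.TSPhiF
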