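import Mathlib
import Cfsg.Agent.Lib.Lead.TuanStmt
import Cfsg.Agent.Lib.Helper78.BrCPerZero
import Cfsg.Agent.Lib.Helper21.BrCPerOrth
import Cfsg.Agent.Lib.Helper21.BrCPerSum

/-!
# S0997 part T, piece PsiF (helper86): `∑_{a<p} θ₁(x^a) θ₂(x^a) = p`
-/

set_option autoImplicit false

namespace Cfsg.Agent.Lib.Helper86.TSPsiF

open Cfsg Cfsg.Agent.Lib.Lead Cfsg.Agent.Lib.Lead.BrHalf

universe u

theorem main (h1 : Cfsg.Agent.Lib.Lead.Tuan.PerTot) (h2 : Cfsg.Agent.Lib.Lead.Tuan.PerReal) :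
    Cfsg.Agent.Lib.Lead.Tuan.PsiF.{u} := by
  intro G _ _ p hpf c
  have hp := c.hp
  have he := c.he
  have hj := c.hj
  have he4 : 4 ∣ c.e := by
    rw [he]
    exact pow_dvd_pow 2 hj
  have hp2 : p ≠ 2 := by omega
  have hp4 : p % 4 = 1 := by omega
  have hT := h1 p hp2 c.ζ c.hζ
  have h0 : per p c.ζ 0 = (c.e : ℂ) := by
    have h := Cfsg.Agent.Lib.Helper78.BrCPerZero.main p hp2 c.ζ c.hζ 0 (dvd_zero p)
    rw [h]
    congr 1
    omega
  have hO := Cfsg.Agent.Lib.Helper21.BrCPerOrth.main p hp2 c.ζ c.hζ c.ν c.hν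
  have hO' : ∑ a ∈ Finset.range p, per p c.ζ a * per p c.ζ (a * c.ν) = 0 := by
    rw [← hO]
    refine Finset.sum_congr rfl (fun a _ => ?_)
    rw [h2 p hp4 c.ζ c.hζ]
  have hsplit : ∀ f : ℕ → ℂ,
      ∑ a ∈ Finset.range p, f a = f 0 + ∑ a ∈ Finset.Ico 1 p, f a := by
    intro f
    rw [Finset.range_eq_Ico, Finset.sum_eq_sum_Ico_succ_bot hpf.out.pos]
  have hI : ∑ a ∈ Finset.Ico 1 p, per p c.ζ a = - (c.e : ℂ) := by
    have h := hsplit (fun a => per p c.ζ a)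
    rw [hT, h0] at h
    linear_combination -h
  have hT2 : ∑ a ∈ Finset.range p, per p c.ζ (a * c.ν) = 0 := by
    rw [hsplit (fun a => per p c.ζ (a * c.ν)), zero_mul, h0]
    have hcg : ∑ a ∈ Finset.Ico 1 p, per p c.ζ (a * c.ν) =
        ∑ a ∈ Finset.Ico 1 p, (-1 - per p c.ζ a) := by
      refine Finset.sum_congr rfl (fun a ha => ?_)
      rw [Finset.mem_Ico] at ha
      have hna : ¬ p ∣ a := fun hd => by
        have := Nat.le_of_dvd (by omega) hd
        omega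
      have h := Cfsg.Agent.Lib.Helper21.BrCPerSum.main p hp2 c.ζ c.hζ a c.ν hna c.hν
      linear_combination h
    rw [hcg, Finset.sum_sub_distrib, hI, Finset.sum_const, Nat.card_Ico]
    have hp1 : p - 1 = 2 * c.e := by omega
    rw [hp1]
    simp only [nsmul_eq_mul]
    push_cast
    ring
  simp only [c.hθ₁, c.hθ₂]
  have hexp : ∀ a, (1 + per p c.ζ a) * (1 + per p c.ζ (a * c.ν)) =
      1 + per p c.ζ a + per p c.ζ (a * c.ν) + per p c.ζ a * per p c.ζ (a * c.ν) := by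
    intro a
    ring
  simp only [hexp]
  rw [Finset.sum_add_distrib, Finset.sum_add_distrib, Finset.sum_add_distrib, hT, hT2, hO',
    Finset.sum_const, Finset.card_range]
  simp only [nsmul_eq_mul]
  ring

end Cfsg.Agent.Lib.Helper86.TSPsiF
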