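import Cfsg.Agent.Lib.Helper86.TabGrp
import Cfsg.Agent.Lib.Helper86.SylowSimple

set_option autoImplicit false

/-!
# From table certificates to statements about all Sylow 2-subgroups

For a subgroup `K` of `Perm GolayPt` and a table group `grp gT ≤ K` of Sylow order that is
self-normalizing in `K` and has no nontrivial proper subgroup closed under `K`-conjugation:
every Sylow 2-subgroup of `K` is self-normalizing and has a simple fusion system.
-/

namespace Cfsg.Agent.Lib.Helper86.TabFinal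

open Cfsg Cfsg.Agent.Lib.Helper86.TabGrp Cfsg.Agent.Lib.Helper86.SylowSimple

variable {K : Subgroup (Equiv.Perm GolayPt)} {gT : List (List Nat)}

theorem card_eq (hle : grp gT ≤ K) (k m : ℕ) (hcard : Nat.card (grp gT) = 2 ^ k)
    (hK : Nat.card K = 2 ^ k * m) (hm : ¬ 2 ∣ m) :
    Nat.card ((grp gT).subgroupOf K) = 2 ^ (Nat.card K).factorization 2 := by
  rw [card_subgroupOf hle, hcard, factorization_of_card 2 k m _ hK hm]

theorem simple_of_tab (hle : grp gT ≤ K) (k m : ℕ) (hcard : Nat.card (grp gT) = 2 ^ k)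
    (hK : Nat.card K = 2 ^ k * m) (hm : ¬ 2 ∣ m) (hk : k ≠ 0)
    (hN : K ⊓ Subgroup.normalizer ((grp gT : Subgroup (Equiv.Perm GolayPt)) :
      Set (Equiv.Perm GolayPt)) ≤ grp gT)
    (hcl : ∀ T : Subgroup (Equiv.Perm GolayPt), T ≤ grp gT → T ≠ ⊥ →
      (∀ x ∈ T, ∀ g ∈ K, g * x * g⁻¹ ∈ grp gT → g * x * g⁻¹ ∈ T) → grp gT ≤ T)
    (S : Sylow 2 K) : (groupFusionSystem (S : Subgroup K)).IsSimple 2 := by
  have hne : (grp gT).subgroupOf K ≠ ⊥ := by
    intro h
    have h1 := card_subgroupOf (K := K) hle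
    rw [h, Subgroup.card_bot, hcard] at h1
    have h2 : 2 ≤ 2 ^ k := by
      calc 2 = 2 ^ 1 := by norm_num
        _ ≤ 2 ^ k := Nat.pow_le_pow_right (by norm_num) (by omega)
    omega
  exact simple_of_data 2 _ (card_eq hle k m hcard hK hm) hne
    (normalizer_subgroupOf_le hle hN) (closed_subgroupOf hcl) S

theorem normalizer_of_tab (hle : grp gT ≤ K) (k m : ℕ) (hcard : Nat.card (grp gT) = 2 ^ k)
    (hK : Nat.card K = 2 ^ k * m) (hm : ¬ 2 ∣ m)
    (hN : K ⊓ Subgroup.normalizer ((grp gT : Subgroup (Equiv.Perm GolayPt)) :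
      Set (Equiv.Perm GolayPt)) ≤ grp gT)
    (S : Sylow 2 K) : Subgroup.normalizer ((S : Subgroup K) : Set K) = (S : Subgroup K) :=
  normalizer_eq_of_data 2 _ (card_eq hle k m hcard hK hm) (normalizer_subgroupOf_le hle hN) S

end Cfsg.Agent.Lib.Helper86.TabFinal
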